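import Mathlib

/-!
The numerical solutions of the class equation of a subgroup of PSL(2,q).
-/

set_option autoImplicit false

namespace Cfsg.Agent.Classical.Dickson2

theorem term_ge {a s : ℕ} (ha : 2 ≤ a) (hs : s = a ∨ s = 2 * a) : (1 / 4 : ℚ) ≤ ((a : ℚ) - 1) / s := by
  have ha' : (2 : ℚ) ≤ a := by exact_mod_cast ha
  rcases hs with rfl | rfl
  · rw [le_div_iff₀ (by linarith)]
    linarith
  · push_cast
    rw [le_div_iff₀ (by linarith)]
    linarith

theorem term_one {a s : ℕ} (ha : 2 ≤ a) (hs : s = a) : (1 / 2 : ℚ) ≤ ((a : ℚ) - 1) / s := by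
  have ha' : (2 : ℚ) ≤ a := by exact_mod_cast ha
  subst hs
  rw [le_div_iff₀ (by linarith)]
  linarith

theorem pair_cases {a b g : ℕ} (ha : 2 ≤ a) (hb : 2 ≤ b)
    (he : 2 * b * g + a * g = a * b * g + 2 * a * b) (hg : 0 < g) :
    (a = 2 ∧ g = 2 * b) ∨ (a = 3 ∧ g = 12) := by
  rcases Nat.lt_or_ge a 4 with h | h
  · interval_cases a
    · left; refine ⟨rfl, ?_⟩; linarith
    · right
      refine ⟨rfl, ?_⟩
      have : b < 3 := by nlinarith
      interval_cases b
      omega
  · exfalso
    have h1 : 2 * (a - 2) * g ≤ b * (a - 2) * g := Nat.mul_le_mul_right _ (Nat.mul_le_mul_right _ hb)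
    obtain ⟨c, rfl⟩ : ∃ c, a = c + 2 := ⟨a - 2, by omega⟩
    simp only [Nat.add_sub_cancel] at h1
    nlinarith

theorem triple_cases {a b c g : ℕ} (ha : 2 ≤ a) (hab : a ≤ b) (hbc : b ≤ c) (hg : 0 < g)
    (he : b * c * g + a * c * g + a * b * g = a * b * c * g + 2 * (a * b * c)) :
    (a = 2 ∧ b = 2 ∧ g = 2 * c) ∨ (a = 2 ∧ b = 3 ∧ c = 3 ∧ g = 12) ∨ (a = 2 ∧ b = 3 ∧ c = 4 ∧ g = 24) ∨
      (a = 2 ∧ b = 3 ∧ c = 5 ∧ g = 60) := by
  rcases Nat.lt_or_ge a 3 with h | h
  · obtain rfl : a = 2 := by omega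
    rcases Nat.lt_or_ge b 4 with hb | hb
    · interval_cases b
      · left; refine ⟨rfl, rfl, ?_⟩; nlinarith
      · right
        have hc : c < 6 := by nlinarith
        interval_cases c <;> omega
    · exfalso
      have h1 : 4 * c * g ≤ b * c * g := Nat.mul_le_mul_right _ (Nat.mul_le_mul_right _ hb)
      have h2 : b * g ≤ c * g := Nat.mul_le_mul_right _ hbc
      nlinarith
  · exfalso
    have h1 : 3 * (b * c * g) ≤ a * (b * c * g) := Nat.mul_le_mul_right _ h
    have h2 : a * c * g ≤ b * c * g := Nat.mul_le_mul_right _ (Nat.mul_le_mul_right _ hab)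
    have h3 : a * b * g ≤ b * c * g := by
      calc a * b * g ≤ c * b * g := Nat.mul_le_mul_right _ (Nat.mul_le_mul_right _ (hab.trans hbc))
        _ = b * c * g := by ring
    have h4 : 0 < a * b * c := by
      have : 0 < b := by omega
      have : 0 < c := by omega
      positivity
    nlinarith

theorem core_cases {s k a N j : ℕ} (hs : 3 ≤ s) (hk : 2 ≤ k) (hks : k ∣ s - 1) (hj : 1 ≤ j) (hN : N = 1 + j * s)
    (he : s * k * N + 2 * a * N = a * s * N + 2 * a) :
    (N = s + 1 ∧ a ≤ s + 1 ∧ k ≤ s + 1) ∨ (s = 3 ∧ k = 2 ∧ a = 5 ∧ N = 10) := by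
  obtain ⟨u, rfl⟩ : ∃ u, s = u + 2 := ⟨s - 2, by omega⟩
  have hku : k ≤ u + 1 := Nat.le_of_dvd (by omega) hks
  subst hN
  have e : a * (1 + j * u) = k * (1 + j * (u + 2)) := by
    refine Nat.eq_of_mul_eq_mul_left (show 0 < u + 2 by omega) ?_
    nlinarith
  rcases Nat.lt_or_ge j 2 with h | h
  · obtain rfl : j = 1 := by omega
    refine Or.inl ⟨by ring, ?_, by omega⟩
    have h1 : k * (1 + 1 * (u + 2)) ≤ (u + 1) * (1 + 1 * (u + 2)) := Nat.mul_le_mul_right _ hku
    have h2 : a * (1 + 1 * u) ≤ (u + 3) * (1 + 1 * u) := by nlinarith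
    exact Nat.le_of_mul_le_mul_right h2 (by omega)
  · have hcop : Nat.Coprime (1 + j * u) j := by
      rw [Nat.Coprime, Nat.gcd_comm, Nat.gcd_add_mul_left_right, Nat.gcd_one_right]
    have hd : 1 + j * u ∣ 2 * k := by
      refine hcop.dvd_of_dvd_mul_right ?_
      have h1 : 1 + j * u ∣ k * (1 + j * u) + 2 * k * j := ⟨a, by rw [mul_comm (1 + j * u) a, e]; ring⟩
      exact (Nat.dvd_add_right (dvd_mul_left _ _)).1 h1
    obtain ⟨t, ht⟩ := hd
    have hju : 2 * u ≤ j * u := Nat.mul_le_mul_right _ h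
    rcases Nat.lt_or_ge t 2 with h' | h'
    · interval_cases t
      · omega
      · right
        have hk' : k = u + 1 := by omega
        have h5 : (j - 2) * u = 1 := by
          rw [Nat.sub_mul]
          omega
        obtain ⟨h6, rfl⟩ := mul_eq_one.1 h5
        have hj' : j = 3 := by omega
        subst hj'
        subst hk'
        omega
    · exfalso
      have : (1 + j * u) * 2 ≤ (1 + j * u) * t := Nat.mul_le_mul_left _ h'
      omega

variable {ι : Type*} [Fintype ι]

theorem sum_card_le (a st : ι → ℕ) (ha : ∀ i, 2 ≤ a i) (hst : ∀ i, st i = a i ∨ st i = 2 * a i) (S : Finset ι) :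
    (S.card : ℚ) / 4 ≤ ∑ i ∈ S, ((a i : ℚ) - 1) / st i := by
  have := Finset.card_nsmul_le_sum S (fun i => ((a i : ℚ) - 1) / st i) (1 / 4) fun i _ => term_ge (ha i) (hst i)
  rw [nsmul_eq_mul] at this
  linarith

theorem arith_coprime {g : ℕ} (hg : 0 < g) (a st : ι → ℕ) (ha : ∀ i, 2 ≤ a i)
    (hst : ∀ i, st i = a i ∨ st i = 2 * a i) (hle : ∀ i, st i ≤ g)
    (he : (1 : ℚ) - 1 / g = ∑ i, ((a i : ℚ) - 1) / st i) :
    g = 1 ∨ (∃ i, st i = g) ∨ (g = 12 ∧ ∃ i, a i = 3 ∧ st i = 3) ∨
      (g = 12 ∧ ∃ i j, i ≠ j ∧ a i = 3 ∧ a j = 3) ∨ (g = 24 ∧ ∃ i, a i = 3 ∧ st i = 6) ∨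
      (g = 60 ∧ ∃ i j k, i ≠ j ∧ i ≠ k ∧ j ≠ k ∧ (∀ l, l = i ∨ l = j ∨ l = k) ∧
        (a i = 2 ∧ st i = 4) ∧ (a j = 3 ∧ st j = 6) ∧ (a k = 5 ∧ st k = 10)) := by
  classical
  have hgQ : (0 : ℚ) < g := by exact_mod_cast hg
  have haQ : ∀ i, (2 : ℚ) ≤ a i := fun i => by exact_mod_cast ha i
  have hpos : ∀ i, (0 : ℚ) < st i := fun i => by
    have := haQ i
    rcases hst i with e | e <;> rw [e] <;> push_cast <;> linarith
  have hcard : (Finset.univ : Finset ι).card ≤ 3 := by
    by_contra h
    have h1 := sum_card_le a st ha hst Finset.univ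
    rw [← he] at h1
    have h4 : (4 : ℚ) ≤ (Finset.univ : Finset ι).card := by exact_mod_cast (show 4 ≤ (Finset.univ : Finset ι).card by omega)
    have : (0 : ℚ) < 1 / g := by positivity
    linarith
  have h0 : (0 : ℚ) < 1 / g := by positivity
  interval_cases h : (Finset.univ : Finset ι).card
  · left
    rw [Finset.card_eq_zero.1 h, Finset.sum_empty] at he
    have : (g : ℚ) = 1 := by field_simp at he; linarith
    exact_mod_cast this
  · obtain ⟨i, hi⟩ := Finset.card_eq_one.1 h
    rw [hi, Finset.sum_singleton] at he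
    right; left
    refine ⟨i, ?_⟩
    rcases hst i with e | e <;> rw [e] at he ⊢ <;> push_cast at he <;> have := haQ i <;> field_simp at he
    · have : (a i : ℚ) = g := by nlinarith
      exact_mod_cast this
    · exfalso
      have h2 := hle i
      rw [e] at h2
      have h3 : (2 : ℚ) * a i ≤ g := by exact_mod_cast h2
      nlinarith
  · obtain ⟨i, j, hij, hu⟩ := Finset.card_eq_two.1 h
    rw [hu, Finset.sum_pair hij] at he
    have key : ∀ i j, st i = a i → st j = 2 * a j →
        (1 : ℚ) - 1 / g = ((a i : ℚ) - 1) / st i + ((a j : ℚ) - 1) / st j →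
        (∃ l, st l = g) ∨ (g = 12 ∧ a i = 3 ∧ st i = 3) := by
      intro i j ei ej he
      rw [ei, ej] at he
      push_cast at he
      have := haQ i
      have := haQ j
      field_simp at he
      have e' : 2 * a j * g + a i * g = a i * a j * g + 2 * a i * a j := by
        have : ((2 * a j * g + a i * g : ℕ) : ℚ) = ((a i * a j * g + 2 * a i * a j : ℕ) : ℚ) := by
          push_cast; linarith
        exact_mod_cast this
      rcases pair_cases (ha i) (ha j) e' hg with ⟨-, hg'⟩ | ⟨h3, hg'⟩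
      · exact Or.inl ⟨j, by rw [ej, hg']⟩
      · exact Or.inr ⟨hg', h3, by rw [ei, h3]⟩
    rcases hst i with ei | ei <;> rcases hst j with ej | ej
    · exfalso
      have := term_one (ha i) ei
      have := term_one (ha j) ej
      linarith
    · rcases key i j ei ej he with h' | ⟨h', h''⟩
      exacts [Or.inr (Or.inl h'), Or.inr (Or.inr (Or.inl ⟨h', i, h''⟩))]
    · rcases key j i ej ei (by rw [he, add_comm]) with h' | ⟨h', h''⟩
      exacts [Or.inr (Or.inl h'), Or.inr (Or.inr (Or.inl ⟨h', j, h''⟩))]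
    · exfalso
      have h2 := hle i
      have h3 := hle j
      rw [ei] at h2
      rw [ej] at h3
      have h2' : (2 : ℚ) * a i ≤ g := by exact_mod_cast h2
      have h3' : (2 : ℚ) * a j ≤ g := by exact_mod_cast h3
      rw [ei, ej] at he
      push_cast at he
      have := haQ i
      have := haQ j
      field_simp at he
      nlinarith
  · obtain ⟨x, y, z, hxy, hxz, hyz, hu⟩ := Finset.card_eq_three.1 h
    have hall : ∀ l, l = x ∨ l = y ∨ l = z := fun l => by
      have : l ∈ ({x, y, z} : Finset ι) := hu ▸ Finset.mem_univ l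
      simpa using this
    rw [hu, Finset.sum_insert (by simp [hxy, hxz]), Finset.sum_pair hyz] at he
    have h2all : ∀ l, st l = 2 * a l := by
      intro l
      rcases hst l with e | e
      · exfalso
        have := term_one (ha l) e
        have := term_ge (ha x) (hst x)
        have := term_ge (ha y) (hst y)
        have := term_ge (ha z) (hst z)
        rcases hall l with rfl | rfl | rfl <;> linarith
      · exact e
    have key : ∀ i j k, i ≠ j → i ≠ k → j ≠ k → (∀ l, l = i ∨ l = j ∨ l = k) → a i ≤ a j → a j ≤ a k →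
        (1 : ℚ) - 1 / g = ((a i : ℚ) - 1) / st i + (((a j : ℚ) - 1) / st j + ((a k : ℚ) - 1) / st k) →
        (∃ i, st i = g) ∨ (g = 12 ∧ ∃ i j, i ≠ j ∧ a i = 3 ∧ a j = 3) ∨ (g = 24 ∧ ∃ i, a i = 3 ∧ st i = 6) ∨
          (g = 60 ∧ ∃ i j k, i ≠ j ∧ i ≠ k ∧ j ≠ k ∧ (∀ l, l = i ∨ l = j ∨ l = k) ∧
            (a i = 2 ∧ st i = 4) ∧ (a j = 3 ∧ st j = 6) ∧ (a k = 5 ∧ st k = 10)) := by
      intro i j k h1 h2 h3 h4 hij hjk he
      rw [h2all i, h2all j, h2all k] at he
      push_cast at he
      have := haQ i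
      have := haQ j
      have := haQ k
      field_simp at he
      have e' : a j * a k * g + a i * a k * g + a i * a j * g = a i * a j * a k * g + 2 * (a i * a j * a k) := by
        have : ((a j * a k * g + a i * a k * g + a i * a j * g : ℕ) : ℚ) =
            ((a i * a j * a k * g + 2 * (a i * a j * a k) : ℕ) : ℚ) := by
          push_cast; linarith
        exact_mod_cast this
      rcases triple_cases (ha i) hij hjk hg e' with ⟨-, -, hg'⟩ | ⟨ei, ej, ek, hg'⟩ | ⟨ei, ej, ek, hg'⟩ | ⟨ei, ej, ek, hg'⟩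
      · exact Or.inl ⟨k, by rw [h2all, hg']⟩
      · exact Or.inr (Or.inl ⟨hg', j, k, h3, ej, ek⟩)
      · exact Or.inr (Or.inr (Or.inl ⟨hg', j, ej, by rw [h2all, ej]⟩))
      · exact Or.inr (Or.inr (Or.inr ⟨hg', i, j, k, h1, h2, h3, h4, ⟨ei, by rw [h2all, ei]⟩,
          ⟨ej, by rw [h2all, ej]⟩, ⟨ek, by rw [h2all, ek]⟩⟩))
    have fin : ∀ i j k, i ≠ j → i ≠ k → j ≠ k → (∀ l, l = i ∨ l = j ∨ l = k) → a i ≤ a j → a j ≤ a k →
        (1 : ℚ) - 1 / g = ((a i : ℚ) - 1) / st i + (((a j : ℚ) - 1) / st j + ((a k : ℚ) - 1) / st k) → _ :=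
      fun i j k h1 h2 h3 h4 h5 h6 h7 =>
        (key i j k h1 h2 h3 h4 h5 h6 h7).elim (fun h => Or.inr (Or.inl h))
          (fun h => (Or.inr (Or.inr (Or.inr h)) :
            g = 1 ∨ (∃ i, st i = g) ∨ (g = 12 ∧ ∃ i, a i = 3 ∧ st i = 3) ∨
            (g = 12 ∧ ∃ i j, i ≠ j ∧ a i = 3 ∧ a j = 3) ∨ (g = 24 ∧ ∃ i, a i = 3 ∧ st i = 6) ∨
            (g = 60 ∧ ∃ i j k, i ≠ j ∧ i ≠ k ∧ j ≠ k ∧ (∀ l, l = i ∨ l = j ∨ l = k) ∧
              (a i = 2 ∧ st i = 4) ∧ (a j = 3 ∧ st j = 6) ∧ (a k = 5 ∧ st k = 10))))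
    rcases le_total (a x) (a y) with h1 | h1 <;> rcases le_total (a y) (a z) with h2 | h2 <;>
      rcases le_total (a x) (a z) with h3 | h3
    all_goals first
      | exact fin x y z hxy hxz hyz hall h1 h2 he
      | exact fin x z y hxz hxy hyz.symm (fun l => by have := hall l; tauto) h3 h2 (by linarith)
      | exact fin y x z hxy.symm hyz hxz (fun l => by have := hall l; tauto) h1 h3 (by linarith)
      | exact fin y z x hyz hxy.symm hxz.symm (fun l => by have := hall l; tauto) h2 h3 (by linarith)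
      | exact fin z x y hxz.symm hyz.symm hxy (fun l => by have := hall l; tauto) h3 h1 (by linarith)
      | exact fin z y x hyz.symm hxz.symm hxy.symm (fun l => by have := hall l; tauto) h2 h1 (by linarith)

theorem arith_dvd {g s k N : ℕ} (hs : 2 ≤ s) (hk : 1 ≤ k) (hks : k ∣ s - 1) (hN : 2 ≤ N)
    (hj : ∃ j, N = 1 + j * s) (hg : g = s * k * N) (a st : ι → ℕ) (ha : ∀ i, 2 ≤ a i)
    (hst : ∀ i, st i = a i ∨ st i = 2 * a i) (hk1 : 1 < k → ∃ i, a i = k)
    (he : (1 : ℚ) - 1 / g = ((s : ℚ) - 1) / (s * k) + ∑ i, ((a i : ℚ) - 1) / st i) :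
    (∃ i, st i = g) ∨ (N = s + 1 ∧ 3 ≤ s ∧ ∀ i, a i ≤ s + 1) ∨
      (g = 60 ∧ s = 3 ∧ k = 2 ∧ ∃ i j, i ≠ j ∧ (∀ l, l = i ∨ l = j) ∧
        (a i = 2 ∧ st i = 4) ∧ (a j = 5 ∧ st j = 10)) := by
  classical
  obtain ⟨j, hj⟩ := hj
  have hj1 : 1 ≤ j := Nat.pos_of_ne_zero fun e => by rw [e, zero_mul] at hj; omega
  have hsQ : (2 : ℚ) ≤ s := by exact_mod_cast hs
  have hkQ : (1 : ℚ) ≤ k := by exact_mod_cast hk
  have hNQ : (2 : ℚ) ≤ N := by exact_mod_cast hN
  have haQ : ∀ i, (2 : ℚ) ≤ a i := fun i => by exact_mod_cast ha i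
  have hgQ : (g : ℚ) = s * k * N := by exact_mod_cast hg
  rw [hgQ] at he
  have h0 : (0 : ℚ) < 1 / (s * k * N) := by positivity
  rcases Nat.lt_or_ge k 2 with hk2 | hk2
  · obtain rfl : k = 1 := by omega
    simp only [Nat.cast_one, mul_one] at he h0
    have hcard : (Finset.univ : Finset ι).card ≤ 1 := by
      by_contra h
      have h1 := sum_card_le a st ha hst Finset.univ
      have h2 : (2 : ℚ) ≤ (Finset.univ : Finset ι).card := by exact_mod_cast (show 2 ≤ (Finset.univ : Finset ι).card by omega)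
      have : ((s : ℚ) - 1) / s ≥ 1 / 2 := by
        rw [ge_iff_le, le_div_iff₀ (by linarith)]; linarith
      linarith
    interval_cases h : (Finset.univ : Finset ι).card
    · exfalso
      rw [Finset.card_eq_zero.1 h, Finset.sum_empty, add_zero] at he
      field_simp at he
      nlinarith
    · obtain ⟨i, hi⟩ := Finset.card_eq_one.1 h
      rw [hi, Finset.sum_singleton] at he
      have hall : ∀ l, l = i := fun l => by
        have : l ∈ ({i} : Finset ι) := hi ▸ Finset.mem_univ l
        simpa using this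
      have := haQ i
      rcases hst i with e | e <;> rw [e] at he <;> push_cast at he
      · exfalso
        have := term_one (ha i) e
        rw [e] at this
        have : ((s : ℚ) - 1) / s ≥ 1 / 2 := by
          rw [ge_iff_le, le_div_iff₀ (by linarith)]; linarith
        linarith
      · field_simp at he
        have e' : 2 * a i + s * (a i * N) = 2 * (a i * N) + s * N := by
          have : ((2 * a i + s * (a i * N) : ℕ) : ℚ) = ((2 * (a i * N) + s * N : ℕ) : ℚ) := by
            push_cast; linarith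
          exact_mod_cast this
        rcases Nat.lt_or_ge s 4 with h4 | h4
        · interval_cases s
          · left
            refine ⟨i, ?_⟩
            rw [e, hg]
            omega
          · right; left
            have : a i < 3 := by nlinarith
            have hai : a i = 2 := by have := ha i; omega
            rw [hai] at e'
            refine ⟨by omega, le_rfl, fun l => ?_⟩
            rw [hall l, hai]; norm_num
        · exfalso
          have h5 : 4 * (a i * N) ≤ s * (a i * N) := Nat.mul_le_mul_right _ h4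
          have h6 : 2 * (s * N) ≤ a i * (s * N) := Nat.mul_le_mul_right _ (ha i)
          have h7 : 0 < a i * N := by have := ha i; positivity
          nlinarith
  · obtain ⟨i0, hi0⟩ := hk1 hk2
    have hs3 : 3 ≤ s := by
      have := Nat.le_of_dvd (by omega) hks
      omega
    have hsQ3 : (3 : ℚ) ≤ s := by exact_mod_cast hs3
    have hkQ2 : (2 : ℚ) ≤ k := by exact_mod_cast hk2
    rw [← Finset.add_sum_erase _ _ (Finset.mem_univ i0), hi0] at he
    set R := ∑ i ∈ Finset.univ.erase i0, ((a i : ℚ) - 1) / st i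
    have hR := sum_card_le a st ha hst (Finset.univ.erase i0)
    have hsk : (1 : ℚ) / (s * k) ≤ 1 / 6 := by
      apply one_div_le_one_div_of_le (by norm_num); nlinarith
    rcases hst i0 with e0 | e0 <;> rw [e0, hi0] at he <;> push_cast at he
    · exfalso
      have e1 : R = 1 / (s * k) - 1 / (s * k * N) := by
        have : ((s : ℚ) - 1) / (s * k) + ((k : ℚ) - 1) / k = 1 - 1 / (s * k) := by field_simp; ring
        linarith
      have hc : (Finset.univ.erase i0).card = 0 := by
        by_contra hc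
        have : (1 : ℚ) ≤ (Finset.univ.erase i0).card := by exact_mod_cast Nat.pos_of_ne_zero hc
        linarith
      have hR0 : R = 0 := by rw [show R = ∑ i ∈ Finset.univ.erase i0, ((a i : ℚ) - 1) / st i from rfl,
        Finset.card_eq_zero.1 hc, Finset.sum_empty]
      rw [hR0] at e1
      field_simp at e1
      nlinarith
    · have e1 : R = 1 / 2 - 1 / (2 * k) + 1 / (s * k) - 1 / (s * k * N) := by
        have : ((s : ℚ) - 1) / (s * k) + ((k : ℚ) - 1) / (2 * k) = 1 / 2 + 1 / (2 * k) - 1 / (s * k) := by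
          field_simp; ring
        linarith
      have hlt : (1 : ℚ) / (s * k) ≤ 1 / (2 * k) := by
        apply one_div_le_one_div_of_le (by positivity); nlinarith
      have hcard : (Finset.univ.erase i0).card ≤ 1 := by
        by_contra h
        have h2 : (2 : ℚ) ≤ (Finset.univ.erase i0).card := by exact_mod_cast (show 2 ≤ (Finset.univ.erase i0).card by omega)
        linarith
      interval_cases h : (Finset.univ.erase i0).card
      · exfalso
        have hR0 : R = 0 := by rw [show R = ∑ i ∈ Finset.univ.erase i0, ((a i : ℚ) - 1) / st i from rfl,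
          Finset.card_eq_zero.1 h, Finset.sum_empty]
        have h1 : (1 : ℚ) / (2 * k) ≤ 1 / 4 := by
          apply one_div_le_one_div_of_le (by norm_num); linarith
        have h2 : (1 : ℚ) / (s * k * N) ≤ 1 / 12 := by
          apply one_div_le_one_div_of_le (by norm_num); exact (show (12 : ℚ) = 3 * 2 * 2 by norm_num) ▸ (by gcongr)
        have h3 : (0 : ℚ) ≤ 1 / (s * k) := by positivity
        linarith
      · obtain ⟨i, hi⟩ := Finset.card_eq_one.1 h
        have hne : i ≠ i0 := Finset.ne_of_mem_erase (hi ▸ Finset.mem_singleton_self i)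
        have hall : ∀ l, l = i0 ∨ l = i := fun l => by
          by_cases hl : l = i0
          · exact Or.inl hl
          · right
            have : l ∈ Finset.univ.erase i0 := Finset.mem_erase.2 ⟨hl, Finset.mem_univ l⟩
            rw [hi, Finset.mem_singleton] at this
            exact this
        rw [show R = ((a i : ℚ) - 1) / st i by
          show ∑ i ∈ Finset.univ.erase i0, ((a i : ℚ) - 1) / st i = _
          rw [hi, Finset.sum_singleton]] at e1
        have := haQ i
        rcases hst i with ei | ei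
        · exfalso
          have := term_one (ha i) ei
          linarith
        rw [ei] at e1
        push_cast at e1
        field_simp at e1
        have e' : s * k * N + 2 * a i * N = a i * s * N + 2 * a i := by
          have : ((s * k * N + 2 * a i * N : ℕ) : ℚ) = ((a i * s * N + 2 * a i : ℕ) : ℚ) := by
            push_cast; linarith
          exact_mod_cast this
        rcases core_cases hs3 hk2 hks hj1 hj e' with ⟨h1, h2, h3⟩ | ⟨h1, h2, h3, h4⟩
        · right; left
          refine ⟨h1, hs3, fun l => ?_⟩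
          rcases hall l with rfl | rfl
          exacts [hi0 ▸ h3, h2]
        · right; right
          refine ⟨by rw [hg, h1, h2, h4], h1, h2, i0, i, hne.symm, hall, ⟨hi0.trans h2, ?_⟩, h3, ?_⟩
          · rw [e0, hi0, h2]
          · rw [ei, h3]

end Cfsg.Agent.Classical.Dickson2
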