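import Mathlib
import Cfsg.Agent.SL2Class.PSL
import Cfsg.Agent.Classical.LinearBasic
import Cfsg.Agent.Classical.SL2Gen

/-!
The partition of PSL(2,q) by maximal abelian subgroups.
-/

set_option autoImplicit false

namespace Cfsg.Agent.Classical.Dickson2

open Matrix Cfsg.Agent.SL2Class

variable {F : Type*} [Field F]

local notation "SG" => Matrix.SpecialLinearGroup (Fin 2) F
local notation "PG" => Matrix.ProjectiveSpecialLinearGroup (Fin 2) F
local notation:1024 "↥ₘ" A:1024 => ((A : Matrix.SpecialLinearGroup (Fin 2) F) : Matrix (Fin 2) (Fin 2) F)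

theorem mem_map_conj {G : Type*} [Group G] {S : Subgroup G} {c y : G} :
    y ∈ S.map (MulAut.conj c).toMonoidHom ↔ c⁻¹ * y * c ∈ S := by
  constructor
  · rintro ⟨s, hs, rfl⟩
    simpa [MulAut.conj_apply, mul_assoc] using hs
  · intro h
    exact ⟨_, h, by simp [MulAut.conj_apply, mul_assoc]⟩

/-- The image of a centraliser in PSL(2,q). -/
def torus (g : SG) : Subgroup PG := (Subgroup.centralizer ({g} : Set SG)).map proj

/-- A preimage. -/
noncomputable def sect (x : PG) : SG := (proj_surjective x).choose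

theorem proj_sect (x : PG) : proj (sect x) = x := (proj_surjective x).choose_spec

/-- The maximal abelian subgroup attached to an element. -/
noncomputable def tor (x : PG) : Subgroup PG := torus (sect x)

theorem centralizer_neg (g : SG) :
    Subgroup.centralizer ({-g} : Set SG) = Subgroup.centralizer ({g} : Set SG) := by
  ext h
  rw [Subgroup.mem_centralizer_singleton_iff, Subgroup.mem_centralizer_singleton_iff, neg_eq_mul g,
    ← mul_assoc, Subgroup.mem_center_iff.1 neg_one_mem_center h, mul_assoc, mul_assoc, mul_right_inj]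

theorem torus_of_proj_eq {g h : SG} (e : proj g = proj h) : torus g = torus h := by
  rcases proj_eq_iff.1 e with rfl | rfl
  · rfl
  · rw [torus, torus, centralizer_neg]

theorem tor_proj (g : SG) : tor (proj g) = torus g := torus_of_proj_eq (proj_sect _)

theorem center_le_cent (g : SG) : Subgroup.center SG ≤ Subgroup.centralizer ({g} : Set SG) :=
  Subgroup.center_le_centralizer _

theorem proj_mem_torus_iff {g h : SG} : proj h ∈ torus g ↔ h ∈ Subgroup.centralizer ({g} : Set SG) := by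
  rw [torus, ← Subgroup.mem_comap, Subgroup.comap_map_eq_self]
  exact fun x hx => center_le_cent g (proj_eq_one.1 hx)

theorem mem_tor (x : PG) : x ∈ tor x := by
  have := proj_mem_torus_iff.2 (self_mem_cent (sect x))
  rwa [proj_sect] at this

theorem nonScalar_sect {x : PG} (hx : x ≠ 1) : NonScalar (sect x) := by
  by_contra h
  exact hx (by rw [← proj_sect x, proj_eq_one.2 (mem_center_iff.2 h)])

theorem nonScalar_of_proj_ne {g : SG} (h : proj g ≠ 1) : NonScalar g := by
  by_contra hn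
  exact h (proj_eq_one.2 (mem_center_iff.2 hn))

theorem proj_ne_one {g : SG} (hg : NonScalar g) : proj g ≠ 1 := fun h =>
  (mem_center_iff.1 (proj_eq_one.1 h)) hg

theorem tor_comm {x y z : PG} (hx : x ≠ 1) (hy : y ∈ tor x) (hz : z ∈ tor x) : y * z = z * y := by
  obtain ⟨a, ha, rfl⟩ := hy
  obtain ⟨b, hb, rfl⟩ := hz
  rw [← map_mul, ← map_mul, centralizer_comm (nonScalar_sect hx) ha hb]

theorem tor_eq {x y : PG} (hx : x ≠ 1) (hy : y ∈ tor x) (hy1 : y ≠ 1) : tor y = tor x := by
  obtain ⟨a, ha, rfl⟩ := hy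
  rw [tor_proj, tor, torus, torus, centralizer_eq (nonScalar_sect hx) ha (nonScalar_of_proj_ne hy1)]

theorem centralizer_conj {G : Type*} [Group G] (g k : G) :
    Subgroup.centralizer ({k * g * k⁻¹} : Set G) =
      (Subgroup.centralizer ({g} : Set G)).map (MulAut.conj k).toMonoidHom := by
  ext h
  rw [mem_map_conj, Subgroup.mem_centralizer_singleton_iff, Subgroup.mem_centralizer_singleton_iff]
  constructor
  · intro e
    calc k⁻¹ * h * k * g = k⁻¹ * (h * (k * g * k⁻¹)) * k := by group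
      _ = g * (k⁻¹ * h * k) := by rw [e]; group
  · intro e
    calc h * (k * g * k⁻¹) = k * (k⁻¹ * h * k * g) * k⁻¹ := by group
      _ = k * g * k⁻¹ * h := by rw [e]; group

theorem tor_conj (c x : PG) : tor (c * x * c⁻¹) = (tor x).map (MulAut.conj c).toMonoidHom := by
  obtain ⟨g, rfl⟩ := proj_surjective x
  obtain ⟨k, rfl⟩ := proj_surjective c
  rw [← map_inv, ← map_mul, ← map_mul, tor_proj, tor_proj, torus, torus, centralizer_conj,
    Subgroup.map_map, Subgroup.map_map]
  congr 1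

theorem conj_mem_tor_conj {c x y : PG} (hy : y ∈ tor x) : c * y * c⁻¹ ∈ tor (c * x * c⁻¹) := by
  rw [tor_conj]
  exact ⟨y, hy, by simp [MulAut.conj_apply]⟩

/-! ### Orders of the tori -/

variable [Fintype F]

theorem card_center_sg : Nat.card (Subgroup.center SG) = Nat.gcd 2 (Fintype.card F - 1) := by
  classical
  rw [Classical.card_center_sl (ι := Fin 2) (F := F), Fintype.card_fin]

theorem card_map_proj (C : Subgroup SG) (h : Subgroup.center SG ≤ C) :
    Nat.card (C.map proj) * Nat.card (Subgroup.center SG) = Nat.card C := by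
  have hf : Function.Surjective (proj.subgroupMap C) := MonoidHom.subgroupMap_surjective _ _
  rw [Subgroup.card_eq_card_quotient_mul_card_subgroup (proj.subgroupMap C).ker,
    Nat.card_congr (QuotientGroup.quotientKerEquivOfSurjective _ hf).toEquiv]
  congr 1
  rw [← Nat.card_congr (Subgroup.subgroupOfEquivOfLe h).toEquiv]
  refine Nat.card_congr (Equiv.subtypeEquivRight fun z => ?_)
  rw [Subgroup.mem_subgroupOf, MonoidHom.mem_ker, ← proj_eq_one]
  constructor
  · intro e
    exact Subtype.ext e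
  · intro e
    exact congrArg Subtype.val e

theorem card_torus (g : SG) :
    Nat.card (torus g) * Nat.gcd 2 (Fintype.card F - 1) =
      Nat.card (Subgroup.centralizer ({g} : Set SG)) := by
  rw [← card_center_sg]
  exact card_map_proj _ (center_le_cent g)

variable (p : ℕ) [Fact p.Prime] [CharP F p]

theorem not_dvd_q_pm : ¬ p ∣ Fintype.card F - 1 ∧ ¬ p ∣ Fintype.card F + 1 ∧ p ∣ Fintype.card F := by
  obtain ⟨f, hf, hq⟩ := Classical.card_field_eq_pow (F := F) p
  have hp : p.Prime := Fact.out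
  have hd : p ∣ Fintype.card F := hq ▸ dvd_pow_self p (by omega)
  have h1 := Fintype.one_lt_card (α := F)
  refine ⟨fun h => ?_, fun h => ?_, hd⟩
  · have := Nat.dvd_sub hd h
    rw [show Fintype.card F - (Fintype.card F - 1) = 1 by omega, Nat.dvd_one] at this
    exact hp.ne_one this
  · have := Nat.dvd_sub h hd
    rw [show Fintype.card F + 1 - Fintype.card F = 1 by omega, Nat.dvd_one] at this
    exact hp.ne_one this

theorem torus_semis_coprime {g : SG} (h : tr g * tr g ≠ 4) : (Nat.card (torus g)).Coprime p := by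
  refine Nat.Coprime.symm ((Fact.out : p.Prime).coprime_iff_not_dvd.2 fun hd => ?_)
  have e : p ∣ Nat.card (Subgroup.centralizer ({g} : Set SG)) := card_torus g ▸ dvd_mul_of_dvd_left hd _
  obtain ⟨h1, h2, -⟩ := not_dvd_q_pm (F := F) p
  rcases card_cent_semisimple h with e' | e' <;> rw [e'] at e
  exacts [h1 e, h2 e]

theorem eq_one_of_pow_p {S : Subgroup PG} (hS : (Nat.card S).Coprime p) {y : PG} (hy : y ∈ S)
    (h : y ^ p = 1) : y = 1 := by
  rw [← orderOf_eq_one_iff, ← Nat.dvd_one, ← hS]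
  exact Nat.dvd_gcd (Subgroup.orderOf_dvd_natCard S hy) (orderOf_dvd_of_pow_eq_one h)

theorem pow_p_iff {g : SG} (hg : NonScalar g) : proj g ^ p = 1 ↔ tr g * tr g = 4 := by
  constructor
  · intro h
    by_contra h4
    exact proj_ne_one hg (eq_one_of_pow_p p (torus_semis_coprime p h4)
      (proj_mem_torus_iff.2 (self_mem_cent g)) h)
  · intro h
    rw [← map_pow, proj_eq_one]
    exact pow_tr_eq_four h p

theorem tr_of_unip {x : PG} (hx : x ≠ 1) (h : x ^ p = 1) : tr (sect x) * tr (sect x) = 4 := by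
  refine (pow_p_iff p (nonScalar_sect hx)).1 ?_
  rwa [proj_sect]

theorem tr_of_semis {x : PG} (h : x ^ p ≠ 1) : tr (sect x) * tr (sect x) ≠ 4 := by
  intro e
  refine h ?_
  rw [← proj_sect x, ← map_pow, proj_eq_one]
  exact pow_tr_eq_four e p

theorem ne_one_of_semis {x : PG} (h : x ^ p ≠ 1) : x ≠ 1 := fun e => h (by rw [e, one_pow])

theorem card_tor_unip {x : PG} (hx : x ≠ 1) (h : x ^ p = 1) : Nat.card (tor x) = Fintype.card F := by
  have hns := nonScalar_sect hx
  have h4 := tr_of_unip p hx h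
  have e := card_torus (sect x)
  by_cases h2 : (2 : F) = 0
  · haveI : CharP F 2 := CharTwo.of_one_ne_zero_of_two_eq_zero one_ne_zero h2
    have := FiniteField.even_card_of_char_two (ringChar.eq F 2)
    have := Fintype.one_lt_card (α := F)
    rw [card_cent_double_even h2 hns ((sq_eq_four_iff_even h2 _).1 h4),
      show Nat.gcd 2 (Fintype.card F - 1) = 1 from (Nat.prime_two.coprime_iff_not_dvd.2 (by omega)),
      mul_one] at e
    exact e
  · have := card_odd_of_two_ne_zero h2
    rw [card_cent_double h2 hns h4,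
      show Nat.gcd 2 (Fintype.card F - 1) = 2 from Nat.gcd_eq_left (by omega), mul_comm 2] at e
    exact Nat.eq_of_mul_eq_mul_right two_pos e

theorem card_tor_semis {x : PG} (h : x ^ p ≠ 1) :
    Nat.card (tor x) * Nat.gcd 2 (Fintype.card F - 1) = Fintype.card F - 1 ∨
      Nat.card (tor x) * Nat.gcd 2 (Fintype.card F - 1) = Fintype.card F + 1 := by
  rw [tor, card_torus]
  exact card_cent_semisimple (tr_of_semis p h)

theorem coprime_tor_semis {x : PG} (h : x ^ p ≠ 1) : (Nat.card (tor x)).Coprime p :=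
  torus_semis_coprime p (tr_of_semis p h)

theorem semis_of_mem {x y : PG} (h : x ^ p ≠ 1) (hy : y ∈ tor x) (hy1 : y ≠ 1) : y ^ p ≠ 1 := fun e =>
  hy1 (eq_one_of_pow_p p (coprime_tor_semis p h) hy e)

theorem unip_of_mem {x y : PG} (hx : x ≠ 1) (h : x ^ p = 1) (hy : y ∈ tor x) : y ^ p = 1 := by
  by_cases hy1 : y = 1
  · rw [hy1, one_pow]
  by_contra hp
  have e := card_tor_unip p hx h
  rw [← tor_eq hx hy hy1] at e
  have := coprime_tor_semis p hp
  rw [e] at this
  exact (Fact.out : p.Prime).coprime_iff_not_dvd.1 this.symm (not_dvd_q_pm (F := F) p).2.2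

theorem isCyclic_tor {x : PG} (h : x ^ p ≠ 1) : IsCyclic (tor x) :=
  haveI := isCyclic_centralizer (tr_of_semis p h)
  isCyclic_of_surjective _ (MonoidHom.subgroupMap_surjective proj (Subgroup.centralizer ({sect x} : Set SG)))

theorem centralizer_unip {x y : PG} (hx : x ≠ 1) (h : x ^ p = 1) (hy : y * x = x * y) : y ∈ tor x := by
  obtain ⟨k, rfl⟩ := proj_surjective y
  refine proj_mem_torus_iff.2 ?_
  have h4 := tr_of_unip p hx h
  have e : proj (k * sect x * k⁻¹) = proj (sect x) := by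
    rw [map_mul, map_mul, map_inv, proj_sect, hy, mul_inv_cancel_right]
  rw [Subgroup.mem_centralizer_singleton_iff]
  refine mul_inv_eq_iff_eq_mul.1 ?_
  rcases proj_eq_iff.1 e with e' | e'
  · exact e'.symm
  · by_cases h2 : (2 : F) = 0
    · refine e'.trans ?_ |>.symm
      refine Subtype.ext ?_
      ext i j
      rw [Matrix.SpecialLinearGroup.coe_neg, Matrix.neg_apply]
      linear_combination -(↥ₘ(k * sect x * k⁻¹) i j) * h2
    · exfalso
      have ht := congrArg tr e'
      rw [tr_neg, tr_conj] at ht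
      have h0 : tr (sect x) = 0 :=
        (mul_eq_zero.1 (show (2 : F) * tr (sect x) = 0 by linear_combination ht)).resolve_left h2
      rw [h0, mul_zero] at h4
      exact mul_ne_zero h2 h2 (by linear_combination -h4)

theorem le_tor_of_isPGroup {P : Subgroup PG} (hP : IsPGroup p P) (hne : P ≠ ⊥) :
    ∃ x : PG, x ≠ 1 ∧ x ^ p = 1 ∧ P ≤ tor x := by
  have : Nontrivial P := (Subgroup.nontrivial_iff_ne_bot P).2 hne
  have := IsPGroup.center_nontrivial hP
  obtain ⟨z, hz⟩ := exists_ne (1 : Subgroup.center P)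
  have hz1 : ((z : P) : PG) ≠ 1 := fun e => hz (Subtype.ext (Subtype.ext e))
  have hzp : ((z : P) : PG) ^ p = 1 := by
    by_contra hn
    obtain ⟨k, hk⟩ := hP (z : P)
    have hk' : ((z : P) : PG) ^ p ^ k = 1 := by
      rw [← Subgroup.coe_pow, hk, Subgroup.coe_one]
    have hcop := (coprime_tor_semis p hn).pow_right k
    apply hz1
    rw [← orderOf_eq_one_iff, ← Nat.dvd_one, ← hcop]
    exact Nat.dvd_gcd (Subgroup.orderOf_dvd_natCard _ (mem_tor _)) (orderOf_dvd_of_pow_eq_one hk')
  exact ⟨_, hz1, hzp, fun y hy => centralizer_unip p hz1 hzp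
    (congrArg Subtype.val (Subgroup.mem_center_iff.1 z.2 ⟨y, hy⟩))⟩

/-! ### The Borel subgroups -/

/-- The image of the upper root subgroup. -/
def rootP : Subgroup PG := (proj.comp (rootHomSL (F := F))).range

theorem card_rootP : Nat.card (rootP (F := F)) = Fintype.card F := by
  have hinj : Function.Injective (proj.comp (rootHomSL (F := F))) := by
    refine (injective_iff_map_eq_one _).2 fun c hc => ?_
    rw [MonoidHom.comp_apply, proj_eq_one, mem_center_iff] at hc
    refine rootHomSL_injective ?_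
    have h : c.toAdd = 0 := by
      by_contra hne
      exact hc fun h => hne (by simpa [rootHomSL_coe] using h.1)
    rw [← ofAdd_toAdd c, h, ofAdd_zero]
  rw [rootP, ← Nat.card_congr (MonoidHom.ofInjective hinj).toEquiv, Nat.card_congr Multiplicative.toAdd,
    Nat.card_eq_fintype_card]

theorem isPGroup_rootP : IsPGroup p (rootP (F := F)) := by
  obtain ⟨f, -, hq⟩ := Classical.card_field_eq_pow (F := F) p
  exact IsPGroup.of_card (by rw [card_rootP, hq])

theorem exists_eq_tor_rootP : ∃ x : PG, x ≠ 1 ∧ x ^ p = 1 ∧ rootP = tor x := by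
  have hne : (rootP (F := F)) ≠ ⊥ := fun h => by
    have := card_rootP (F := F)
    rw [h, Subgroup.card_bot] at this
    have := Fintype.one_lt_card (α := F)
    omega
  obtain ⟨x, h1, h2, h3⟩ := le_tor_of_isPGroup p (isPGroup_rootP p) hne
  exact ⟨x, h1, h2, Subgroup.eq_of_le_of_card_ge h3 (by rw [card_rootP, card_tor_unip p h1 h2])⟩

theorem eq_tor_of_sylow (P : Sylow p PG) : ∃ x : PG, x ≠ 1 ∧ x ^ p = 1 ∧ (P : Subgroup PG) = tor x := by
  obtain ⟨Q, hQ⟩ := (isPGroup_rootP (F := F) p).exists_le_sylow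
  have hne : (P : Subgroup PG) ≠ ⊥ := fun h => by
    have h1 := Subgroup.card_le_of_le hQ
    rw [card_rootP, Sylow.card_eq_multiplicity, ← Sylow.card_eq_multiplicity P, h, Subgroup.card_bot] at h1
    have := Fintype.one_lt_card (α := F)
    omega
  obtain ⟨x, h1, h2, h3⟩ := le_tor_of_isPGroup p P.2 hne
  refine ⟨x, h1, h2, Subgroup.eq_of_le_of_card_ge h3 ?_⟩
  rw [card_tor_unip p h1 h2, P.card_eq_multiplicity, ← Q.card_eq_multiplicity, ← card_rootP (F := F)]
  exact Subgroup.card_le_of_le hQ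

theorem exists_sylow_eq_tor {x : PG} (hx : x ≠ 1) (h : x ^ p = 1) :
    ∃ P : Sylow p PG, (P : Subgroup PG) = tor x := by
  obtain ⟨f, -, hq⟩ := Classical.card_field_eq_pow (F := F) p
  obtain ⟨P, hP⟩ := (IsPGroup.of_card (p := p) (G := tor x) (n := f)
    (by rw [card_tor_unip p hx h, hq])).exists_le_sylow
  obtain ⟨y, h1, h2, h3⟩ := eq_tor_of_sylow p P
  refine ⟨P, (Subgroup.eq_of_le_of_card_ge hP ?_).symm⟩
  rw [h3, card_tor_unip p h1 h2, card_tor_unip p hx h]

theorem exists_conj_rootP {x : PG} (hx : x ≠ 1) (h : x ^ p = 1) :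
    ∃ c : PG, tor x = (rootP (F := F)).map (MulAut.conj c).toMonoidHom := by
  obtain ⟨y, h1, h2, h3⟩ := exists_eq_tor_rootP (F := F) p
  obtain ⟨P, hP⟩ := exists_sylow_eq_tor p hx h
  obtain ⟨Q, hQ⟩ := exists_sylow_eq_tor p h1 h2
  obtain ⟨c, hc⟩ := MulAction.exists_smul_eq PG Q P
  refine ⟨c, ?_⟩
  rw [← hP, ← hc, h3, ← hQ]
  rfl

omit [Fintype F] in
theorem proj_mem_rootP {g : SG} (h10 : g.1 1 0 = 0) (h00 : g.1 0 0 * g.1 0 0 = 1) : proj g ∈ rootP := by
  have hd := det_eq g
  rw [h10, mul_zero, sub_zero] at hd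
  have h11 : g.1 1 1 = g.1 0 0 := mul_left_cancel₀ (left_ne_zero_of_mul_eq_one h00) (hd.trans h00.symm)
  refine ⟨Multiplicative.ofAdd (g.1 0 0 * g.1 0 1), ?_⟩
  rw [MonoidHom.comp_apply, proj_eq_iff]
  rcases mul_self_eq_one_iff.1 h00 with e | e
  · left
    refine Subtype.ext ?_
    rw [rootHomSL_coe, toAdd_ofAdd]
    ext i j
    fin_cases i <;> fin_cases j <;> simp [h10, h11, e]
  · right
    refine Subtype.ext ?_
    rw [Matrix.SpecialLinearGroup.coe_neg, rootHomSL_coe, toAdd_ofAdd]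
    ext i j
    fin_cases i <;> fin_cases j <;> simp [h10, h11, e]

theorem proj_mem_normalizer_rootP {g : SG} :
    proj g ∈ Subgroup.normalizer ((rootP : Subgroup PG) : Set PG) ↔ g.1 1 0 = 0 := by
  constructor
  · intro h
    have h1 := (Subgroup.mem_normalizer_iff.1 h (proj (rootHomSL (Multiplicative.ofAdd (1 : F))))).1
      ⟨_, rfl⟩
    obtain ⟨c, hc⟩ := h1
    rw [MonoidHom.comp_apply, ← map_inv, ← map_mul, ← map_mul, proj_eq_iff] at hc
    have e := conj_rootHomSL g (Multiplicative.ofAdd (1 : F))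
    have key : -(1 * g.1 1 0 ^ 2) = (0 : F) := by
      rcases hc with hc | hc <;> rw [hc] at e <;>
        (have e' := congrFun (congrFun e 1) 0; simp [rootHomSL_coe] at e' ⊢; exact e')
    simpa using key
  · intro h
    refine Subgroup.mem_normalizer_fintype (S := ((rootP : Subgroup PG) : Set PG)) fun x hx => ?_
    obtain ⟨c, rfl⟩ := hx
    refine ⟨Multiplicative.ofAdd (c.toAdd * g.1 0 0 ^ 2), ?_⟩
    rw [MonoidHom.comp_apply, MonoidHom.comp_apply, ← conj_rootHomSL_mem_of_upper h c, map_mul, map_mul,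
      map_inv]

theorem card_upper : Nat.card {g : SG // g.1 1 0 = 0} = (Fintype.card F - 1) * Fintype.card F := by
  rw [← Classical.card_units_field (F := F), ← Nat.card_eq_fintype_card (α := F), ← Nat.card_prod]
  refine Nat.card_congr
    { toFun := fun g => (⟨g.1.1 0 0, g.1.1 1 1, ?_, ?_⟩, g.1.1 0 1)
      invFun := fun ab => ⟨⟨!![(ab.1 : F), ab.2; 0, ((ab.1⁻¹ : Fˣ) : F)], by simp [det_fin_two_of]⟩, by simp⟩
      left_inv := ?_
      right_inv := ?_ }
  · have hd := det_eq g.1
    rw [g.2, mul_zero, sub_zero] at hd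
    exact hd
  · have hd := det_eq g.1
    rw [g.2, mul_zero, sub_zero] at hd
    rw [mul_comm]; exact hd
  · rintro ⟨g, hg⟩
    refine Subtype.ext (Subtype.ext ?_)
    ext i j
    fin_cases i <;> fin_cases j <;> simp [hg]
  · rintro ⟨a, b⟩
    refine Prod.ext (Units.ext ?_) ?_ <;> simp

theorem card_normalizer_rootP :
    Nat.card (Subgroup.normalizer ((rootP : Subgroup PG) : Set PG)) * Nat.gcd 2 (Fintype.card F - 1) =
      (Fintype.card F - 1) * Fintype.card F := by
  have h := card_map_proj ((Subgroup.normalizer ((rootP : Subgroup PG) : Set PG)).comap proj)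
    (fun z hz => by rw [Subgroup.mem_comap, proj_eq_one.2 hz]; exact one_mem _)
  rw [Subgroup.map_comap_eq_self_of_surjective proj_surjective, card_center_sg] at h
  rw [h, ← card_upper]
  exact Nat.card_congr (Equiv.subtypeEquivRight fun g => proj_mem_normalizer_rootP)

theorem normalizer_map_conj {G : Type*} [Group G] (S : Subgroup G) (c : G) :
    Subgroup.normalizer ((S.map (MulAut.conj c).toMonoidHom : Subgroup G) : Set G) =
      (Subgroup.normalizer (S : Set G)).map (MulAut.conj c).toMonoidHom :=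
  (Subgroup.map_normalizer_eq_of_bijective S (MulAut.conj c).bijective).symm

theorem exists_borel {x : PG} (hx : x ≠ 1) (h : x ^ p = 1) :
    ∃ c : PG, ∀ y, (y ∈ tor x ↔ c⁻¹ * y * c ∈ rootP) ∧
      (y ∈ Subgroup.normalizer (tor x : Set PG) ↔
        c⁻¹ * y * c ∈ Subgroup.normalizer ((rootP : Subgroup PG) : Set PG)) := by
  obtain ⟨c, hc⟩ := exists_conj_rootP p hx h
  refine ⟨c, fun y => ⟨?_, ?_⟩⟩
  · rw [hc, mem_map_conj]
  · rw [hc, normalizer_map_conj, mem_map_conj]

theorem card_normalizer_unip {x : PG} (hx : x ≠ 1) (h : x ^ p = 1) :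
    Nat.card (Subgroup.normalizer (tor x : Set PG)) * Nat.gcd 2 (Fintype.card F - 1) =
      (Fintype.card F - 1) * Fintype.card F := by
  obtain ⟨c, hc⟩ := exists_conj_rootP p hx h
  rw [hc, normalizer_map_conj, Subgroup.card_map_of_injective (MulAut.conj c).injective, card_normalizer_rootP]

theorem borel_semis {x y : PG} (hx : x ≠ 1) (h : x ^ p = 1) (hy : y ∈ Subgroup.normalizer (tor x : Set PG))
    (hyp : y ^ p ≠ 1) : tor y ≤ Subgroup.normalizer (tor x : Set PG) := by
  obtain ⟨c, hc⟩ := exists_borel p hx h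
  intro t ht
  rw [(hc t).2]
  obtain ⟨g, hg⟩ := proj_surjective (c⁻¹ * y * c)
  have ht' : c⁻¹ * t * c ∈ tor (c⁻¹ * y * c) := by
    simpa using conj_mem_tor_conj (c := c⁻¹) ht
  rw [← hg, tor_proj] at ht'
  obtain ⟨k, hk, hk'⟩ := ht'
  have hne : proj g ≠ 1 := by
    rw [hg]
    intro e
    exact ne_one_of_semis p hyp (by
      calc y = c * (c⁻¹ * y * c) * c⁻¹ := by group
        _ = 1 := by rw [e]; group)
  obtain ⟨a, b, e⟩ := (mem_centralizer (nonScalar_of_proj_ne hne)).1 hk
  have hg10 : g.1 1 0 = 0 := proj_mem_normalizer_rootP.1 (by rw [hg]; exact (hc y).2.1 hy)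
  rw [← hk', proj_mem_normalizer_rootP, e, lin_apply]
  simp [hg10]

theorem borel_unip {x y : PG} (hx : x ≠ 1) (h : x ^ p = 1) (hy : y ∈ Subgroup.normalizer (tor x : Set PG))
    (hyp : y ^ p = 1) : y ∈ tor x := by
  obtain ⟨c, hc⟩ := exists_borel p hx h
  rw [(hc y).1]
  obtain ⟨g, hg⟩ := proj_surjective (c⁻¹ * y * c)
  have hg10 : g.1 1 0 = 0 := proj_mem_normalizer_rootP.1 (by rw [hg]; exact (hc y).2.1 hy)
  have hgp : proj g ^ p = 1 := by
    rw [hg, show c⁻¹ * y * c = c⁻¹ * y * (c⁻¹)⁻¹ by rw [inv_inv], conj_pow, hyp]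
    group
  rw [← hg]
  by_cases hs : NonScalar g
  · have h4 := (pow_p_iff p hs).1 hgp
    refine proj_mem_rootP hg10 ?_
    have hd := det_eq g
    rw [hg10, mul_zero, sub_zero] at hd
    have h0 : (↥ₘ g 0 0 - ↥ₘ g 1 1) * (↥ₘ g 0 0 - ↥ₘ g 1 1) = 0 := by
      have h4' : (↥ₘ g 0 0 + ↥ₘ g 1 1) * (↥ₘ g 0 0 + ↥ₘ g 1 1) = 4 := h4
      linear_combination h4' - 4 * hd
    rw [← sub_eq_zero.1 (mul_self_eq_zero.1 h0)] at hd
    exact hd
  · rw [proj_eq_one.2 (mem_center_iff.2 hs)]
    exact one_mem _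

theorem borel_comm {x y z : PG} (hx : x ≠ 1) (h : x ^ p = 1)
    (hy : y ∈ Subgroup.normalizer (tor x : Set PG)) (hz : z ∈ Subgroup.normalizer (tor x : Set PG)) :
    y * z * y⁻¹ * z⁻¹ ∈ tor x := by
  obtain ⟨c, hc⟩ := exists_borel p hx h
  obtain ⟨g, hg⟩ := proj_surjective (c⁻¹ * y * c)
  obtain ⟨k, hk⟩ := proj_surjective (c⁻¹ * z * c)
  have hg10 : g.1 1 0 = 0 := proj_mem_normalizer_rootP.1 (by rw [hg]; exact (hc y).2.1 hy)
  have hk10 : k.1 1 0 = 0 := proj_mem_normalizer_rootP.1 (by rw [hk]; exact (hc z).2.1 hz)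
  rw [(hc _).1, show c⁻¹ * (y * z * y⁻¹ * z⁻¹) * c = proj (g * k * g⁻¹ * k⁻¹) by
    rw [map_mul, map_mul, map_mul, map_inv, map_inv, hg, hk]; group]
  have dg := det_eq g
  have dk := det_eq k
  rw [hg10, mul_zero, sub_zero] at dg
  rw [hk10, mul_zero, sub_zero] at dk
  refine proj_mem_rootP ?_ ?_ <;>
    simp [Matrix.SpecialLinearGroup.coe_mul, Matrix.adjugate_fin_two, Matrix.mul_apply, Fin.sum_univ_two,
      hg10, hk10]
  linear_combination (↥ₘ g 0 0 * ↥ₘ g 1 1 * (↥ₘ k 0 0 * ↥ₘ k 1 1) + 1) *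
    (↥ₘ k 0 0 * ↥ₘ k 1 1 * dg + dk)

theorem borel_invol {x y z : PG} (hx : x ≠ 1) (h : x ^ p = 1)
    (hy : y ∈ Subgroup.normalizer (tor x : Set PG)) (hz : z ∈ Subgroup.normalizer (tor x : Set PG))
    (hy2 : y * y = 1) (hz2 : z * z = 1) (hyn : y ∉ tor x) (hzn : z ∉ tor x) : y * z ∈ tor x := by
  obtain ⟨c, hc⟩ := exists_borel p hx h
  have key : ∀ w : PG, w ∈ Subgroup.normalizer (tor x : Set PG) → w * w = 1 → w ∉ tor x →
      ∃ g : SG, proj g = c⁻¹ * w * c ∧ g.1 1 0 = 0 ∧ g.1 0 0 * g.1 0 0 = -1 := by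
    intro w hw hw2 hwn
    obtain ⟨g, hg⟩ := proj_surjective (c⁻¹ * w * c)
    have hg10 : g.1 1 0 = 0 := proj_mem_normalizer_rootP.1 (by rw [hg]; exact (hc w).2.1 hw)
    refine ⟨g, hg, hg10, ?_⟩
    have h1 : proj (g * g) = 1 := by
      rw [map_mul, hg, show c⁻¹ * w * c * (c⁻¹ * w * c) = c⁻¹ * (w * w) * c by group, hw2]
      group
    rcases mem_center_cases.1 (proj_eq_one.1 h1) with e | e <;>
      have e' := congrArg (fun A : SG => ↥ₘ A 0 0) e <;>
      simp [Matrix.mul_apply, Fin.sum_univ_two, hg10] at e'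
    · exact absurd ((hc w).1.2 (hg ▸ proj_mem_rootP hg10 e')) hwn
    · exact e'
  obtain ⟨g, hg, hg10, hg2⟩ := key y hy hy2 hyn
  obtain ⟨k, hk, hk10, hk2⟩ := key z hz hz2 hzn
  rw [(hc _).1, show c⁻¹ * (y * z) * c = proj (g * k) by rw [map_mul, hg, hk]; group]
  refine proj_mem_rootP ?_ ?_ <;>
    simp [Matrix.SpecialLinearGroup.coe_mul, Matrix.mul_apply, Fin.sum_univ_two, hg10, hk10]
  linear_combination (↥ₘ k 0 0 * ↥ₘ k 0 0) * hg2 - hk2

/-! ### Normalisers of semisimple tori -/

theorem normalizer_semis {x : PG} (h : x ^ p ≠ 1) :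
    ∃ w : PG, w ∉ tor x ∧ w * w = 1 ∧ w ∈ Subgroup.normalizer (tor x : Set PG) ∧
      (∀ t ∈ tor x, w * t * w⁻¹ = t⁻¹) ∧
      ∀ y ∈ Subgroup.normalizer (tor x : Set PG), y ∈ tor x ∨ w * y ∈ tor x := by
  classical
  set g := sect x with hgdef
  have ht : tr g * tr g ≠ 4 := tr_of_semis p h
  have hg := nonScalar_of_sq_ne ht
  obtain ⟨w, hw⟩ := exists_inverting ht
  have hN : Subgroup.normalizer (tor x : Set PG) =
      (Subgroup.normalizer (Subgroup.centralizer ({g} : Set SG) : Set SG)).map proj := by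
    refine Subgroup.comap_injective proj_surjective ?_
    rw [Subgroup.comap_normalizer_eq_of_surjective _ proj_surjective, Subgroup.comap_map_eq_self]
    · rw [tor, torus, Subgroup.comap_map_eq_self]
      exact fun z hz => center_le_cent _ (proj_eq_one.1 hz)
    · exact fun z hz => Subgroup.le_normalizer (center_le_cent _ (proj_eq_one.1 hz))
  refine ⟨proj w, fun hm => inverting_notMem ht hw (proj_mem_torus_iff.1 hm), ?_, ?_, ?_, ?_⟩
  · rw [← map_mul, proj_eq_one, mem_center_iff]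
    intro hns
    have hm : w * w ∈ Subgroup.centralizer ({g} : Set SG) := by
      rw [Subgroup.mem_centralizer_singleton_iff]
      refine mul_inv_eq_iff_eq_mul.1 ?_
      calc w * w * g * (w * w)⁻¹ = w * (w * g * w⁻¹) * w⁻¹ := by group
        _ = (w * g * w⁻¹)⁻¹ := by nth_rw 1 [hw]; simp [mul_assoc]
        _ = g := by rw [hw, inv_inv]
    have e2 : w * (w * w) * w⁻¹ = (w * w)⁻¹ := conj_centralizer hg hw hm
    rw [show w * (w * w) * w⁻¹ = w * w by group] at e2
    have e3 : proj (w * w) ^ 2 = 1 := by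
      rw [pow_two, ← map_mul]
      nth_rw 1 [e2]
      rw [inv_mul_cancel, map_one]
    have hmem : proj (w * w) ∈ tor x := proj_mem_torus_iff.2 hm
    have e4 := g_sq (w * w)
    have e5 : w * w * (w * w) = 1 := by nth_rw 1 [e2]; exact inv_mul_cancel _
    rw [← Matrix.SpecialLinearGroup.coe_mul, e5, Matrix.SpecialLinearGroup.coe_one, ← lin_one (w * w)] at e4
    obtain ⟨e6, e7⟩ := lin_ext hns e4
    have h2 : (2 : F) = 0 := by linear_combination e6
    have h4 : tr (w * w) * tr (w * w) = 4 := by rw [← e7]; linear_combination -2 * h2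
    exact semis_of_mem p h hmem (proj_ne_one hns) ((pow_p_iff p hns).2 h4)
  · rw [hN]
    exact ⟨w, mem_normalizer_of_inverting hg hw, rfl⟩
  · rintro _ ⟨t, ht', rfl⟩
    rw [← map_inv, ← map_mul, ← map_mul, conj_centralizer hg hw ht', map_inv]
  · rw [hN]
    rintro _ ⟨y, hy, rfl⟩
    rcases mem_normalizer_cases ht hw hy with h' | h'
    · exact Or.inl (proj_mem_torus_iff.2 h')
    · exact Or.inr (by rw [← map_mul]; exact proj_mem_torus_iff.2 h')

theorem inverts_of_not_mem {x y : PG} (h : x ^ p ≠ 1) (hy : y ∈ Subgroup.normalizer (tor x : Set PG))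
    (hyn : y ∉ tor x) : y * y = 1 ∧ ∀ t ∈ tor x, y * t * y⁻¹ = t⁻¹ := by
  obtain ⟨w, -, hw2, -, hwi, hc⟩ := normalizer_semis p h
  have ht := (hc y hy).resolve_left hyn
  have hwinv : w⁻¹ = w := inv_eq_of_mul_eq_one_right hw2
  have hy' : y = w * (w * y) := by rw [← mul_assoc, hw2, one_mul]
  constructor
  · calc y * y = w * (w * y) * (w * (w * y)) := by rw [← hy']
      _ = w * (w * y) * w⁻¹ * (w * y) := by rw [hwinv]; group
      _ = 1 := by rw [hwi _ ht, inv_mul_cancel]
  · intro t htm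
    have hcomm : w * y * t = t * (w * y) := tor_comm (ne_one_of_semis p h) ht htm
    calc y * t * y⁻¹ = w * (w * y * t) * (w * y)⁻¹ * w⁻¹ := by nth_rw 1 [hy']; nth_rw 2 [hy']; group
      _ = t⁻¹ := by rw [hcomm]; simpa [mul_assoc] using hwi t htm

theorem card_normalizer_semis {x : PG} (h : x ^ p ≠ 1) :
    Nat.card (Subgroup.normalizer (tor x : Set PG)) = 2 * Nat.card (tor x) := by
  obtain ⟨w, hwn, -, hwN, -, hc⟩ := normalizer_semis p h
  have hi : ((tor x).subgroupOf (Subgroup.normalizer (tor x : Set PG))).index = 2 := by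
    rw [Subgroup.index_eq_two_iff]
    refine ⟨⟨w, hwN⟩⁻¹, fun b => ?_⟩
    simp only [Subgroup.mem_subgroupOf, Subgroup.coe_mul, Subgroup.coe_inv]
    by_cases hb : (b : PG) ∈ tor x
    · refine Or.inr ⟨hb, fun hbw => hwn ?_⟩
      have := mul_mem (inv_mem hb) hbw
      rwa [← mul_assoc, inv_mul_cancel, one_mul, inv_mem_iff] at this
    · refine Or.inl ⟨?_, hb⟩
      have := (hc _ (inv_mem b.2)).resolve_left (fun e => hb (inv_mem_iff.1 e))
      have := inv_mem this
      simpa using this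
  have := ((tor x).subgroupOf (Subgroup.normalizer (tor x : Set PG))).card_mul_index
  rw [hi, Nat.card_congr (Subgroup.subgroupOfEquivOfLe Subgroup.le_normalizer).toEquiv] at this
  rw [← this, mul_comm]

end Cfsg.Agent.Classical.Dickson2
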