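import Mathlib
import Cfsg.Agent.Classical.Dickson2.Partition

/-!
The classes of maximal abelian subgroups meeting a subgroup of PSL(2,q).
-/

set_option autoImplicit false

namespace Cfsg.Agent.Classical.Dickson2

open Matrix Cfsg.Agent.SL2Class

variable {F : Type*} [Field F] [Fintype F]

local notation "PG" => Matrix.ProjectiveSpecialLinearGroup (Fin 2) F

variable (H : Subgroup (Matrix.ProjectiveSpecialLinearGroup (Fin 2) F))

/-- The maximal abelian subgroups attached to the non-trivial elements of `H`. -/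
abbrev Mem : Type _ :=
  {T : Subgroup (Matrix.ProjectiveSpecialLinearGroup (Fin 2) F) // ∃ x ∈ H, x ≠ 1 ∧ T = tor x}

noncomputable instance memAction : MulAction H (Mem H) where
  smul h T := ⟨T.1.map (MulAut.conj (h : PG)).toMonoidHom, by
    obtain ⟨x, hx, hx1, hT⟩ := T.2
    refine ⟨(h : PG) * x * (h : PG)⁻¹, mul_mem (mul_mem h.2 hx) (inv_mem h.2), fun e => hx1 ?_, by rw [hT, tor_conj]⟩
    calc x = (h : PG)⁻¹ * ((h : PG) * x * (h : PG)⁻¹) * h := by group
      _ = 1 := by rw [e]; group⟩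
  one_smul T := Subtype.ext (by
    show T.1.map (MulAut.conj ((1 : H) : PG)).toMonoidHom = T.1
    ext x
    simp [mem_map_conj])
  mul_smul a b T := Subtype.ext (by
    show T.1.map (MulAut.conj ((a * b : H) : PG)).toMonoidHom =
      (T.1.map (MulAut.conj (b : PG)).toMonoidHom).map (MulAut.conj (a : PG)).toMonoidHom
    ext x
    simp [mem_map_conj, mul_assoc])

variable {H}

theorem smul_val (h : H) (T : Mem H) : (h • T).1 = T.1.map (MulAut.conj (h : PG)).toMonoidHom := rfl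

/-- The size of the part of a member lying in `H`. -/
noncomputable def am (T : Mem H) : ℕ := Nat.card (T.1 ⊓ H : Subgroup PG)

/-- The order of the normaliser in `H` of a member. -/
noncomputable def st (T : Mem H) : ℕ := Nat.card (Subgroup.normalizer (T.1 : Set PG) ⊓ H : Subgroup PG)

theorem eq_tor {T : Mem H} {x : PG} (hx : x ∈ T.1) (hx1 : x ≠ 1) : T.1 = tor x := by
  obtain ⟨y, -, hy1, hT⟩ := T.2
  rw [hT] at hx ⊢
  exact (tor_eq hy1 hx hx1).symm

theorem eq_of_mem {T T' : Mem H} {x : PG} (hx : x ∈ T.1) (hx' : x ∈ T'.1) (hx1 : x ≠ 1) : T = T' :=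
  Subtype.ext ((eq_tor hx hx1).trans (eq_tor hx' hx1).symm)

/-- The member of an element. -/
noncomputable def memOf (x : PG) (hx : x ∈ H) (hx1 : x ≠ 1) : Mem H := ⟨tor x, x, hx, hx1, rfl⟩

theorem one_lt_am (T : Mem H) : 1 < am T := by
  obtain ⟨x, hx, hx1, hT⟩ := T.2
  refine (Subgroup.one_lt_card_iff_ne_bot _).2 fun e => hx1 ?_
  have : x ∈ (T.1 ⊓ H : Subgroup PG) := ⟨hT ▸ mem_tor x, hx⟩
  rwa [e, Subgroup.mem_bot] at this

theorem am_dvd_st (T : Mem H) : am T ∣ st T :=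
  Subgroup.card_dvd_of_le (inf_le_inf_right _ Subgroup.le_normalizer)

theorem st_dvd (T : Mem H) : st T ∣ Nat.card H := Subgroup.card_dvd_of_le inf_le_right

theorem mem_normalizer_map_iff {S : Subgroup PG} {y : PG} :
    y ∈ Subgroup.normalizer (S : Set PG) ↔ S.map (MulAut.conj y).toMonoidHom = S :=
  Subgroup.mem_normalizer_iff_map_conj_eq

theorem le_normalizer_of_st {T : Mem H} (h : st T = Nat.card H) : H ≤ Subgroup.normalizer (T.1 : Set PG) := by
  have : (Subgroup.normalizer (T.1 : Set PG) ⊓ H : Subgroup PG) = H :=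
    Subgroup.eq_of_le_of_card_ge inf_le_right h.ge
  exact this.ge.trans inf_le_left

theorem le_of_am {T : Mem H} (h : am T = Nat.card H) : H ≤ T.1 := by
  have : (T.1 ⊓ H : Subgroup PG) = H := Subgroup.eq_of_le_of_card_ge inf_le_right h.ge
  exact this.ge.trans inf_le_left

theorem mem_stabilizer_iff {h : H} {T : Mem H} :
    h ∈ MulAction.stabilizer H T ↔ (h : PG) ∈ Subgroup.normalizer (T.1 : Set PG) := by
  rw [MulAction.mem_stabilizer_iff, mem_normalizer_map_iff, Subtype.ext_iff, smul_val]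

theorem card_stabilizer (T : Mem H) : Nat.card (MulAction.stabilizer H T) = st T :=
  Nat.card_congr
    { toFun := fun h => ⟨h.1.1, mem_stabilizer_iff.1 h.2, h.1.2⟩
      invFun := fun x => ⟨⟨x.1, x.2.2⟩, mem_stabilizer_iff.2 x.2.1⟩
      left_inv := fun _ => rfl
      right_inv := fun _ => rfl }

theorem card_orbit_mul (T : Mem H) : Nat.card (MulAction.orbit H T) * st T = Nat.card H := by
  rw [Nat.card_congr (MulAction.orbitEquivQuotientStabilizer H T), ← card_stabilizer,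
    ← Subgroup.card_eq_card_quotient_mul_card_subgroup]

theorem st_pos (T : Mem H) : 0 < st T := Nat.card_pos

theorem card_inf_smul (N : Subgroup PG) (hN : H ≤ Subgroup.normalizer (N : Set PG)) (h : H) (T : Mem H) :
    Nat.card ((h • T).1 ⊓ N : Subgroup PG) = Nat.card (T.1 ⊓ N : Subgroup PG) := by
  conv_lhs => rw [smul_val, ← mem_normalizer_map_iff.1 (hN h.2),
    ← Subgroup.map_inf _ _ _ (MulAut.conj (h : PG)).injective]
  exact Subgroup.card_map_of_injective (MulAut.conj (h : PG)).injective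

theorem am_smul (h : H) (T : Mem H) : am (h • T) = am T := card_inf_smul H Subgroup.le_normalizer h T

theorem am_eq_of_mem_orbit {T T' : Mem H} (h : T' ∈ MulAction.orbit H T) : am T' = am T := by
  obtain ⟨x, rfl⟩ := h
  exact am_smul x T

theorem st_eq_of_mem_orbit {T T' : Mem H} (h : T' ∈ MulAction.orbit H T) : st T' = st T := by
  have h1 := card_orbit_mul T
  have h2 := card_orbit_mul T'
  rw [MulAction.orbit_eq_iff.2 h] at h2
  have : 0 < Nat.card (MulAction.orbit H T) :=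
    Nat.pos_of_ne_zero fun e => by rw [e, zero_mul] at h1; exact Nat.card_pos.ne' h1.symm
  exact Nat.eq_of_mul_eq_mul_left this (h2.trans h1.symm)

variable (H)

/-- The classes of members. -/
abbrev Cls : Type _ := MulAction.orbitRel.Quotient H (Mem H)

variable {H}

theorem class_sum [Fintype (Cls H)] (N : Subgroup PG) (hle : N ≤ H) (hN : H ≤ Subgroup.normalizer (N : Set PG)) :
    Nat.card N - 1 =
      ∑ ω : Cls H, Nat.card H / st (Quotient.out ω) * (Nat.card ((Quotient.out ω).1 ⊓ N : Subgroup PG) - 1) := by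
  classical
  haveI : Fintype (Mem H) := Fintype.ofFinite _
  haveI : ∀ T : Mem H, Fintype (MulAction.orbit H T) := fun T => Fintype.ofFinite _
  have hone : ∀ S : Subgroup PG, Nat.card {x : S // x ≠ 1} = Nat.card S - 1 := fun S => by
    haveI : Fintype S := Fintype.ofFinite S
    rw [Nat.card_eq_fintype_card, Fintype.card_subtype_compl, Fintype.card_subtype_eq, Nat.card_eq_fintype_card]
  let e : {x : N // x ≠ 1} ≃ Σ T : Mem H, {x : (T.1 ⊓ N : Subgroup PG) // x ≠ 1} :=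
    { toFun := fun x => ⟨memOf (x.1 : PG) (hle x.1.2) (fun e => x.2 (Subtype.ext e)),
        ⟨⟨(x.1 : PG), mem_tor _, x.1.2⟩, fun e => x.2 (Subtype.ext (congrArg Subtype.val e :))⟩⟩
      invFun := fun y => ⟨⟨y.2.1.1, y.2.1.2.2⟩, fun e => y.2.2 (Subtype.ext (congrArg Subtype.val e :))⟩
      left_inv := fun x => rfl
      right_inv := fun y => by
        obtain ⟨T, ⟨⟨x, hxT, hxN⟩, hx1⟩⟩ := y
        have h1 : x ≠ 1 := fun e => hx1 (Subtype.ext e)
        obtain rfl : T = memOf x (hle hxN) h1 := eq_of_mem hxT (mem_tor x) h1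
        rfl }
  rw [← hone N, Nat.card_congr e, Nat.card_sigma, Finset.sum_congr rfl (fun (T : Mem H) _ => hone (T.1 ⊓ N)),
    ← (MulAction.selfEquivSigmaOrbits H (Mem H)).symm.sum_comp (fun T : Mem H => Nat.card (T.1 ⊓ N : Subgroup PG) - 1),
    Fintype.sum_sigma]
  refine Finset.sum_congr rfl fun ω _ => ?_
  rw [Finset.sum_eq_card_nsmul (b := Nat.card ((Quotient.out ω).1 ⊓ N : Subgroup PG) - 1) (fun T _ => ?_),
    smul_eq_mul, Finset.card_univ, ← Nat.card_eq_fintype_card]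
  · congr 1
    exact (Nat.div_eq_of_eq_mul_left (st_pos _) (card_orbit_mul _).symm).symm
  · obtain ⟨T, h, rfl⟩ := T
    exact congrArg (· - 1) (card_inf_smul N hN h _)

theorem class_identity [Fintype (Cls H)] :
    (1 : ℚ) - 1 / (Nat.card H : ℚ) =
      ∑ ω : Cls H, ((am (Quotient.out ω) : ℚ) - 1) / (st (Quotient.out ω) : ℚ) := by
  have h := class_sum H le_rfl Subgroup.le_normalizer
  have hg : (Nat.card H : ℚ) ≠ 0 := Nat.cast_ne_zero.2 Nat.card_pos.ne'
  have h' := congrArg (fun n : ℕ => (n : ℚ)) h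
  simp only [Nat.cast_sum, Nat.cast_mul] at h'
  rw [Nat.cast_sub (Nat.card_pos (α := H)), Nat.cast_one] at h'
  have : (1 : ℚ) - 1 / (Nat.card H : ℚ) = ((Nat.card H : ℚ) - 1) / Nat.card H := by field_simp
  rw [this, h', Finset.sum_div]
  refine Finset.sum_congr rfl fun ω _ => ?_
  rw [Nat.cast_div (st_dvd _) (Nat.cast_ne_zero.2 (st_pos _).ne'), ← am, Nat.cast_sub (one_lt_am _).le, Nat.cast_one]
  show (Nat.card H : ℚ) / (st (Quotient.out ω) : ℚ) * ((am (Quotient.out ω) : ℚ) - 1) / (Nat.card H : ℚ) = _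
  field_simp

variable (p : ℕ) [Fact p.Prime] [CharP F p]

/-- A member consisting of unipotent elements. -/
def Uni (T : Mem H) : Prop := ∀ y ∈ T.1, y ^ p = 1

theorem semis_rep {T : Mem H} (h : ¬ Uni p T) : ∃ x ∈ H, x ^ p ≠ 1 ∧ T.1 = tor x := by
  obtain ⟨x, hx, hx1, hT⟩ := T.2
  refine ⟨x, hx, fun e => h fun y hy => ?_, hT⟩
  exact unip_of_mem p hx1 e (hT ▸ hy)

theorem uni_rep {T : Mem H} (h : Uni p T) : ∃ x ∈ H, x ≠ 1 ∧ x ^ p = 1 ∧ T.1 = tor x := by
  obtain ⟨x, hx, hx1, hT⟩ := T.2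
  exact ⟨x, hx, hx1, h x (hT ▸ mem_tor x), hT⟩

theorem uni_smul {h : H} {T : Mem H} : Uni p (h • T) ↔ Uni p T := by
  constructor <;> intro hu y hy
  · have := hu _ (show (h : PG) * y * (h : PG)⁻¹ ∈ (h • T).1 from ⟨y, hy, rfl⟩)
    rw [conj_pow, mul_inv_eq_one, mul_eq_left] at this
    exact this
  · rw [smul_val, mem_map_conj] at hy
    have e : y = (h : PG) * ((h : PG)⁻¹ * y * h) * (h : PG)⁻¹ := by group
    rw [e, conj_pow, hu _ hy, mul_one, mul_inv_cancel]

theorem semis_am {T : Mem H} (h : ¬ Uni p T) :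
    (am T).Coprime p ∧ (st T = am T ∨ st T = 2 * am T) := by
  obtain ⟨x, -, hx, hT⟩ := semis_rep p h
  refine ⟨?_, ?_⟩
  · exact (coprime_tor_semis p hx).coprime_dvd_left (Subgroup.card_dvd_of_le (hT ▸ inf_le_left))
  · rw [am, st, hT]
    by_cases hle : (Subgroup.normalizer (tor x : Set PG) ⊓ H : Subgroup PG) ≤ tor x
    · left
      rw [le_antisymm (le_inf hle inf_le_right) (inf_le_inf_right _ Subgroup.le_normalizer)]
    · right
      obtain ⟨u, ⟨hu, huH⟩, hun⟩ := SetLike.not_le_iff_exists.1 hle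
      set N := (Subgroup.normalizer (tor x : Set PG) ⊓ H : Subgroup PG)
      have hi : ((tor x ⊓ H).subgroupOf N).index = 2 := by
        rw [Subgroup.index_eq_two_iff]
        refine ⟨⟨u, hu, huH⟩, fun b => ?_⟩
        simp only [Subgroup.mem_subgroupOf, Subgroup.coe_mul, Subgroup.mem_inf]
        by_cases hb : (b : PG) ∈ tor x
        · refine Or.inr ⟨⟨hb, b.2.2⟩, fun e => hun ?_⟩
          have := mul_mem (inv_mem hb) e.1
          rwa [← mul_assoc, inv_mul_cancel, one_mul] at this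
        · refine Or.inl ⟨⟨?_, mul_mem b.2.2 huH⟩, fun e => hb e.1⟩
          obtain ⟨w, -, hw2, -, hwi, hc⟩ := normalizer_semis p hx
          have h1 := (hc _ b.2.1).resolve_left hb
          have h2 := (hc _ hu).resolve_left hun
          have hw' : w⁻¹ = w := inv_eq_of_mul_eq_one_right hw2
          have e1 : (b : PG) * u = w * (w * b) * w⁻¹ * (w * u) := by
            calc (b : PG) * u = (w * (w * b)) * (w * (w * u)) := by
                  rw [← mul_assoc w w, hw2, one_mul, ← mul_assoc w w, hw2, one_mul]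
              _ = _ := by rw [hw']; group
          rw [e1, hwi _ h1]
          exact mul_mem (inv_mem h1) h2
      have := ((tor x ⊓ H).subgroupOf N).card_mul_index
      rw [hi, Nat.card_congr (Subgroup.subgroupOfEquivOfLe (inf_le_inf_right H Subgroup.le_normalizer)).toEquiv] at this
      rw [← this, mul_comm]

theorem isPGroup_uni {T : Mem H} (h : Uni p T) : IsPGroup p (T.1 ⊓ H : Subgroup PG) := fun y => ⟨1, by
  rw [pow_one]; exact Subtype.ext (h y y.2.1)⟩

theorem sylow_uni {T : Mem H} (h : Uni p T) :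
    ∃ P : Sylow p H, (P : Subgroup H) = (T.1 ⊓ H).subgroupOf H := by
  have hS : IsPGroup p ((T.1 ⊓ H).subgroupOf H) :=
    (isPGroup_uni p h).of_equiv (Subgroup.subgroupOfEquivOfLe inf_le_right).symm
  obtain ⟨P, hP⟩ := hS.exists_le_sylow
  refine ⟨P, le_antisymm (fun y hy => ?_) hP⟩
  obtain ⟨x, hx, hx1, hxp, hT⟩ := uni_rep p h
  have hP' : IsPGroup p ((P : Subgroup H).map H.subtype) := P.2.map _
  have hxP : x ∈ (P : Subgroup H).map H.subtype :=
    ⟨⟨x, hx⟩, hP (Subgroup.mem_subgroupOf.2 ⟨hT ▸ mem_tor x, hx⟩), rfl⟩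
  obtain ⟨z, hz1, -, hzle⟩ := le_tor_of_isPGroup p hP' fun e => hx1 (by rwa [e, Subgroup.mem_bot] at hxP)
  rw [Subgroup.mem_subgroupOf]
  refine ⟨?_, y.2⟩
  rw [hT, tor_eq hz1 (hzle hxP) hx1]
  exact hzle ⟨y, hy, rfl⟩

theorem uni_orbit {T T' : Mem H} (h : Uni p T) (h' : Uni p T') : T' ∈ MulAction.orbit H T := by
  obtain ⟨P, hP⟩ := sylow_uni p h
  obtain ⟨Q, hQ⟩ := sylow_uni p h'
  obtain ⟨c, hc⟩ := MulAction.exists_smul_eq H P Q
  obtain ⟨x, hx, hx1, -, hT⟩ := uni_rep p h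
  refine ⟨c, ?_⟩
  show c • T = T'
  refine eq_of_mem (x := (c : PG) * x * (c : PG)⁻¹) ⟨x, hT ▸ mem_tor x, rfl⟩ ?_ (by simpa using hx1)
  have h2 : c * ⟨x, hx⟩ * c⁻¹ ∈ (Q : Subgroup H) := by
    rw [← hc]
    exact ⟨⟨x, hx⟩, by rw [hP]; exact Subgroup.mem_subgroupOf.2 ⟨hT ▸ mem_tor x, hx⟩, rfl⟩
  rw [hQ, Subgroup.mem_subgroupOf] at h2
  exact h2.1

theorem exists_uni (hp : p ∣ Nat.card H) : ∃ T : Mem H, Uni p T := by
  obtain ⟨y, hy⟩ := exists_prime_orderOf_dvd_card' (G := H) p hp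
  have hy1 : (y : PG) ≠ 1 := fun e => by
    have : y = 1 := Subtype.ext e
    rw [this, orderOf_one] at hy
    exact (Fact.out : p.Prime).ne_one hy.symm
  have hyp : (y : PG) ^ p = 1 := by rw [← Subgroup.coe_pow, ← hy, pow_orderOf_eq_one, Subgroup.coe_one]
  exact ⟨memOf (y : PG) y.2 hy1, fun z hz => unip_of_mem p hy1 hyp hz⟩

theorem not_uni_of_not_dvd (hp : ¬ p ∣ Nat.card H) (T : Mem H) : ¬ Uni p T := fun h => by
  obtain ⟨x, hx, hx1, hxp, -⟩ := uni_rep p h
  refine hp ?_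
  rw [← orderOf_eq_prime hxp hx1]
  exact Subgroup.orderOf_dvd_natCard H hx

/-! ### The unipotent class -/

/-- The restriction of conjugation to a normalised subgroup, without fixed points. -/
theorem commutator_surj {T : Mem H} (h : Uni p T) {y : PG} (hy : y ∈ Subgroup.normalizer (T.1 : Set PG))
    (hyH : y ∈ H) (hyp : y ^ p ≠ 1) {t : PG} (ht : t ∈ T.1) (htH : t ∈ H) :
    ∃ u : PG, (u ∈ T.1 ∧ u ∈ H) ∧ u⁻¹ * (y * u * y⁻¹) = t := by
  obtain ⟨x, -, hx1, hxp, hT⟩ := uni_rep p h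
  rw [hT] at hy ht
  let f : (tor x ⊓ H : Subgroup PG) → (tor x ⊓ H : Subgroup PG) := fun u =>
    ⟨(u : PG)⁻¹ * (y * u * y⁻¹), Subgroup.mem_inf.2
      ⟨mul_mem (inv_mem u.2.1) ((Subgroup.mem_normalizer_iff.1 hy u).1 u.2.1),
      mul_mem (inv_mem u.2.2) (mul_mem (mul_mem hyH u.2.2) (inv_mem hyH))⟩⟩
  have hinj : Function.Injective f := by
    intro u v e
    have e' : (u : PG)⁻¹ * (y * u * y⁻¹) = (v : PG)⁻¹ * (y * v * y⁻¹) := congrArg Subtype.val e
    by_contra hne
    set d := (u : PG) * (v : PG)⁻¹ with hd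
    have hd1 : d ≠ 1 := fun e => hne (Subtype.ext (mul_inv_eq_one.1 e))
    have hdm : d ∈ tor x := mul_mem u.2.1 (inv_mem v.2.1)
    have hfix : y * d * y⁻¹ = d := by
      calc y * d * y⁻¹ = (u : PG) * ((u : PG)⁻¹ * (y * u * y⁻¹)) * (y * v * y⁻¹)⁻¹ := by rw [hd]; group
        _ = (u : PG) * ((v : PG)⁻¹ * (y * v * y⁻¹)) * (y * v * y⁻¹)⁻¹ := by rw [e']
        _ = d := by rw [hd]; group
    have := centralizer_unip p hd1 (unip_of_mem p hx1 hxp hdm) (mul_inv_eq_iff_eq_mul.1 hfix)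
    rw [tor_eq hx1 hdm hd1] at this
    exact hyp (unip_of_mem p hx1 hxp this)
  obtain ⟨u, hu⟩ := (Finite.injective_iff_surjective.1 hinj) ⟨t, ht, htH⟩
  refine ⟨u, ⟨?_, u.2.2⟩, congrArg Subtype.val hu⟩
  rw [hT]
  exact u.2.1

theorem normalizer_uni_split {T : Mem H} (h : Uni p T) {y : PG} (hy : y ∈ Subgroup.normalizer (T.1 : Set PG))
    (hyH : y ∈ H) (hyp : y ^ p ≠ 1) {z : PG} (hz : z ∈ Subgroup.normalizer (T.1 : Set PG)) (hzH : z ∈ H) :
    ∃ u a : PG, (u ∈ T.1 ∧ u ∈ H) ∧ (a ∈ tor y ∧ a ∈ H) ∧ z = u * a := by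
  obtain ⟨x, -, hx1, hxp, hT⟩ := uni_rep p h
  have hy' : y ∈ Subgroup.normalizer (tor x : Set PG) := hT ▸ hy
  have hz' : z ∈ Subgroup.normalizer (tor x : Set PG) := hT ▸ hz
  have hc := borel_comm p hx1 hxp hy' hz'
  obtain ⟨u, ⟨hu, huH⟩, hue⟩ := commutator_surj p h hy hyH hyp (t := (y * z * y⁻¹ * z⁻¹)⁻¹)
    (hT ▸ inv_mem hc) (inv_mem (mul_mem (mul_mem (mul_mem hyH hzH) (inv_mem hyH)) (inv_mem hzH)))
  have hyu : y * u * y⁻¹ = u * (y * z * y⁻¹ * z⁻¹)⁻¹ := by rw [← hue]; group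
  have hcomm : y * (u * z) * y⁻¹ = u * z := by
    have hu' : u ∈ tor x := hT ▸ hu
    have hc' : (y * z * y⁻¹ * z⁻¹)⁻¹ ∈ tor x := inv_mem hc
    calc y * (u * z) * y⁻¹ = (y * u * y⁻¹) * (y * z * y⁻¹ * z⁻¹) * z := by group
      _ = u * z := by rw [hyu, inv_mul_cancel_right]
  refine ⟨u⁻¹, u * z, ⟨inv_mem hu, inv_mem huH⟩, ⟨?_, mul_mem huH hzH⟩, by group⟩
  have hmem : u * z ∈ Subgroup.normalizer (tor x : Set PG) :=
    mul_mem (Subgroup.le_normalizer (hT ▸ hu)) hz'
  by_contra hn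
  have hN : u * z ∈ Subgroup.normalizer (tor y : Set PG) := by
    rw [mem_normalizer_map_iff, ← tor_conj]
    congr 1
    rw [mul_inv_eq_iff_eq_mul]
    exact (mul_inv_eq_iff_eq_mul.1 hcomm).symm
  obtain ⟨hsq, hinv⟩ := inverts_of_not_mem p hyp hN hn
  have hy2 : y * y = 1 := by
    have e := hinv y (mem_tor y)
    rw [← mul_inv_eq_iff_eq_mul.1 hcomm, mul_inv_cancel_right] at e
    nth_rw 1 [e]
    exact inv_mul_cancel y
  have hyn : y ∉ tor x := fun e => hyp (unip_of_mem p hx1 hxp e)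
  by_cases hwn : u * z ∈ tor x
  · have hw1 : u * z ≠ 1 := fun e => hn (e ▸ one_mem _)
    have := centralizer_unip p hw1 (unip_of_mem p hx1 hxp hwn) (mul_inv_eq_iff_eq_mul.1 hcomm)
    rw [tor_eq hx1 hwn hw1] at this
    exact hyn this
  have hp := borel_invol p hx1 hxp hy' hmem hy2 hsq hyn hwn
  have hsq' : (y * (u * z)) * (y * (u * z)) = 1 := by
    calc y * (u * z) * (y * (u * z)) = y * (u * z) * y⁻¹ * (y * y) * (u * z) := by group
      _ = 1 := by rw [hcomm, hy2, mul_one, hsq]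
  by_cases hone : y * (u * z) = 1
  · refine hn ?_
    have : u * z = y⁻¹ := eq_inv_of_mul_eq_one_right hone
    rw [this]; exact inv_mem (mem_tor y)
  · have := centralizer_unip p hone (unip_of_mem p hx1 hxp hp) (y := y) (by
      rw [mul_assoc y (u * z) y, ← mul_inv_eq_iff_eq_mul.1 hcomm])
    rw [tor_eq hx1 hp hone] at this
    exact hyn this

theorem uni_data {T : Mem H} (h : Uni p T) :
    ∃ k : ℕ, st T = am T * k ∧ k ∣ am T - 1 ∧ (1 < k → ∃ T' : Mem H, ¬ Uni p T' ∧ am T' = k) := by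
  obtain ⟨x, -, hx1, hxp, hT⟩ := uni_rep p h
  by_cases hle : (Subgroup.normalizer (T.1 : Set PG) ⊓ H : Subgroup PG) ≤ T.1
  · refine ⟨1, ?_, one_dvd _, fun h => absurd h (by omega)⟩
    rw [mul_one, st, am, le_antisymm (le_inf hle inf_le_right) (inf_le_inf_right _ Subgroup.le_normalizer)]
  obtain ⟨y, ⟨hy, hyH⟩, hyn⟩ := SetLike.not_le_iff_exists.1 hle
  have hyp : y ^ p ≠ 1 := fun e => hyn (hT ▸ borel_unip p hx1 hxp (hT ▸ hy) e)
  set A := (tor y ⊓ H : Subgroup PG) with hA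
  have hAN : ∀ a ∈ A, a ∈ Subgroup.normalizer (T.1 : Set PG) := fun a ha =>
    hT ▸ borel_semis p hx1 hxp (hT ▸ hy) hyp ha.1
  have hdisj : ∀ a, a ∈ T.1 → a ∈ tor y → a = 1 := fun a ha hay => by
    by_contra ha1
    exact semis_of_mem p hyp hay ha1 (h a ha)
  refine ⟨Nat.card A, ?_, ?_, fun _ => ⟨memOf y hyH (ne_one_of_semis p hyp), fun hu => hyp (hu y (mem_tor y)), rfl⟩⟩
  · rw [st, am, ← Nat.card_prod]
    refine (Nat.card_eq_of_bijective (fun ua : (T.1 ⊓ H : Subgroup PG) × A =>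
      (⟨(ua.1 : PG) * ua.2, mul_mem (Subgroup.le_normalizer ua.1.2.1) (hAN _ ua.2.2),
        mul_mem ua.1.2.2 ua.2.2.2⟩ : (Subgroup.normalizer (T.1 : Set PG) ⊓ H : Subgroup PG))) ⟨?_, ?_⟩).symm
    · rintro ⟨u, a⟩ ⟨v, b⟩ e
      have e' : (u : PG) * a = v * b := congrArg Subtype.val e
      have e1 : (v : PG)⁻¹ * u = b * (a : PG)⁻¹ := by
        calc (v : PG)⁻¹ * u = (v : PG)⁻¹ * ((u : PG) * a) * (a : PG)⁻¹ := by group
          _ = b * (a : PG)⁻¹ := by rw [e']; group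
      have e2 := hdisj _ (mul_mem (inv_mem v.2.1) u.2.1) (by rw [e1]; exact mul_mem b.2.1 (inv_mem a.2.1))
      refine Prod.ext (Subtype.ext (inv_mul_eq_one.1 e2).symm) (Subtype.ext ?_)
      exact (mul_inv_eq_one.1 (e1 ▸ e2)).symm
    · rintro ⟨z, hz, hzH⟩
      obtain ⟨u, a, hu, ha, e⟩ := normalizer_uni_split p h hy hyH hyp hz hzH
      exact ⟨(⟨u, hu⟩, ⟨a, ha⟩), Subtype.ext e.symm⟩
  · let β := {u : (T.1 ⊓ H : Subgroup PG) // u ≠ 1}
    let act : MulAction A β :=
      { smul := fun a u => ⟨⟨(a : PG) * (u.1 : PG) * (a : PG)⁻¹, Subgroup.mem_inf.2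
            ⟨(Subgroup.mem_normalizer_iff.1 (hAN _ a.2) _).1 u.1.2.1,
            mul_mem (mul_mem a.2.2 u.1.2.2) (inv_mem a.2.2)⟩⟩, fun e => u.2 (Subtype.ext (by
              have e' : (a : PG) * (u.1 : PG) * (a : PG)⁻¹ = 1 := congrArg Subtype.val e
              simpa using e'))⟩
        one_smul := fun u => Subtype.ext (Subtype.ext (by
          show ((1 : A) : PG) * (u.1 : PG) * ((1 : A) : PG)⁻¹ = u.1
          simp))
        mul_smul := fun a b u => Subtype.ext (Subtype.ext (by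
          show ((a * b : A) : PG) * (u.1 : PG) * ((a * b : A) : PG)⁻¹ =
            (a : PG) * ((b : PG) * (u.1 : PG) * (b : PG)⁻¹) * (a : PG)⁻¹
          simp [mul_assoc])) }
    have hfree : ∀ u : β, MulAction.stabilizer A u = ⊥ := fun u => by
      rw [Subgroup.eq_bot_iff_forall]
      intro a ha
      have hfix : (a : PG) * (u.1 : PG) * (a : PG)⁻¹ = u.1 :=
        congrArg (fun v : β => ((v.1 : (T.1 ⊓ H : Subgroup PG)) : PG)) ha
      have hu1 : (u.1 : PG) ≠ 1 := fun e => u.2 (Subtype.ext e)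
      have := centralizer_unip p hu1 (h _ u.1.2.1) (mul_inv_eq_iff_eq_mul.1 hfix)
      rw [← eq_tor u.1.2.1 hu1] at this
      exact Subtype.ext (hdisj _ this a.2.1)
    have hcard := Nat.card_congr (MulAction.selfEquivOrbitsQuotientProd hfree)
    rw [Nat.card_prod] at hcard
    have hβ : Nat.card β = am T - 1 := by
      classical
      haveI : Fintype (T.1 ⊓ H : Subgroup PG) := Fintype.ofFinite _
      rw [Nat.card_eq_fintype_card, Fintype.card_subtype_compl, Fintype.card_subtype_eq, am, Nat.card_eq_fintype_card]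
    rw [← hβ, hcard]
    exact dvd_mul_left _ _

theorem uni_orbit_mod {T : Mem H} (h : Uni p T) :
    ∃ j : ℕ, Nat.card (MulAction.orbit H T) = 1 + j * am T := by
  let β := {T' : Mem H // T' ∈ MulAction.orbit H T ∧ T' ≠ T}
  let S := (T.1 ⊓ H : Subgroup PG)
  let ι : S → H := fun u => ⟨u, u.2.2⟩
  have hfix : ∀ u : S, ι u • T = T := fun u =>
    mem_stabilizer_iff.2 (Subgroup.le_normalizer u.2.1)
  let act : MulAction S β :=
    { smul := fun u T' => ⟨ι u • T'.1, MulAction.mapsTo_smul_orbit (ι u) T T'.2.1,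
        fun e => T'.2.2 (MulAction.injective (ι u) (e.trans (hfix u).symm))⟩
      one_smul := fun T' => Subtype.ext (one_smul H T'.1)
      mul_smul := fun u v T' => Subtype.ext (mul_smul (ι u) (ι v) T'.1) }
  have hfree : ∀ T' : β, MulAction.stabilizer S T' = ⊥ := fun T' => by
    rw [Subgroup.eq_bot_iff_forall]
    intro u hu
    by_contra hu1
    have hu' : (u : PG) ≠ 1 := fun e => hu1 (Subtype.ext e)
    have hT' : Uni p T'.1 := by
      obtain ⟨c, hc⟩ := T'.2.1
      exact hc ▸ (uni_smul p).2 h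
    obtain ⟨x, -, hx1, hxp, hx⟩ := uni_rep p hT'
    have hn : (u : PG) ∈ Subgroup.normalizer (T'.1.1 : Set PG) :=
      mem_stabilizer_iff.1 (show ι u ∈ MulAction.stabilizer H T'.1 from congrArg Subtype.val hu)
    rw [hx] at hn
    have := borel_unip p hx1 hxp hn (h _ u.2.1)
    exact T'.2.2 (eq_of_mem (hx ▸ this) u.2.1 hu')
  have hcard := Nat.card_congr (MulAction.selfEquivOrbitsQuotientProd hfree)
  rw [Nat.card_prod] at hcard
  refine ⟨Nat.card (Quotient (MulAction.orbitRel S β)), ?_⟩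
  show _ = 1 + Nat.card (Quotient (MulAction.orbitRel S β)) * Nat.card S
  rw [← hcard]
  classical
  haveI : Fintype (Mem H) := Fintype.ofFinite _
  show Nat.card {T' // T' ∈ MulAction.orbit H T} = _
  rw [Nat.card_eq_fintype_card, Nat.card_eq_fintype_card, Fintype.card_subtype, Fintype.card_subtype,
    show (Finset.univ.filter fun T' : Mem H => T' ∈ MulAction.orbit H T ∧ T' ≠ T) =
      (Finset.univ.filter fun T' : Mem H => T' ∈ MulAction.orbit H T).erase T by ext T'; simp [and_comm],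
    Finset.card_erase_of_mem (by simp)]
  have : 0 < (Finset.univ.filter fun T' : Mem H => T' ∈ MulAction.orbit H T).card :=
    Finset.card_pos.2 ⟨T, by simp⟩
  omega

end Cfsg.Agent.Classical.Dickson2
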