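import Mathlib
import Cfsg.Agent.Classical.Dickson2.Family
import Cfsg.Agent.Classical.SmallSimple
import Cfsg.Agent.MaxClass.Basic

/-!
Subgroups of PSL(2,q) with the class data of cyclic, dihedral, tetrahedral, octahedral and icosahedral groups.
-/

set_option autoImplicit false

namespace Cfsg.Agent.Classical.Dickson2

open Matrix Cfsg.Agent.SL2Class

variable {F : Type*} [Field F] [Fintype F]

local notation "PG" => Matrix.ProjectiveSpecialLinearGroup (Fin 2) F

variable {H : Subgroup (Matrix.ProjectiveSpecialLinearGroup (Fin 2) F)}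

theorem cyclic_or_dihedral (p : ℕ) [Fact p.Prime] [CharP F p] {x : PG} (hx : x ^ p ≠ 1)
    (hH : H ≤ Subgroup.normalizer (tor x : Set PG)) :
    (H ≤ tor x ∧ IsCyclic H ∧ Nat.card H ∣ Nat.card (tor x)) ∨
      (¬ H ≤ tor x ∧ ∃ k : ℕ, 0 < k ∧ k ∣ Nat.card (tor x) ∧ Nonempty (H ≃* DihedralGroup k) ∧
        Nat.card H = 2 * k) := by
  haveI := isCyclic_tor p hx
  by_cases hle : H ≤ tor x
  · exact Or.inl ⟨hle, isCyclic_of_injective _ (Subgroup.inclusion_injective hle), Subgroup.card_dvd_of_le hle⟩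
  right
  refine ⟨hle, Nat.card (tor x ⊓ H : Subgroup PG), Nat.card_pos, Subgroup.card_dvd_of_le inf_le_left, ?_⟩
  set k := Nat.card (tor x ⊓ H : Subgroup PG)
  haveI : NeZero k := ⟨Nat.card_pos.ne'⟩
  obtain ⟨u, huH, hun⟩ := SetLike.not_le_iff_exists.1 hle
  obtain ⟨hu2, hinv⟩ := inverts_of_not_mem p hx (hH huH) hun
  haveI : IsCyclic (tor x ⊓ H : Subgroup PG) :=
    isCyclic_of_injective _ (Subgroup.inclusion_injective (inf_le_left : tor x ⊓ H ≤ tor x))
  obtain ⟨⟨a, haT, haH⟩, hgen⟩ := IsCyclic.exists_generator (α := (tor x ⊓ H : Subgroup PG))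
  have hord : orderOf (⟨a, haH⟩ : H) = k := by
    have := orderOf_eq_card_of_forall_mem_zpowers hgen
    rw [← Subgroup.orderOf_coe] at this ⊢
    exact this
  have hmem : ∀ y : H, (y : PG) ∈ tor x → y ∈ Subgroup.zpowers (⟨a, haH⟩ : H) := fun y hy => by
    obtain ⟨i, hi⟩ := Subgroup.mem_zpowers_iff.1 (hgen ⟨y, hy, y.2⟩)
    refine Subgroup.mem_zpowers_iff.2 ⟨i, Subtype.ext ?_⟩
    rw [Subgroup.coe_zpow]
    have := congrArg Subtype.val hi
    rwa [Subgroup.coe_zpow] at this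
  obtain ⟨e⟩ := MaxClass.nonempty_mulEquiv_dihedral k (a := (⟨a, haH⟩ : H)) (g := ⟨u, huH⟩) hord
    (Subtype.ext hu2) (Subtype.ext (hinv a haT))
    (fun h => by
      obtain ⟨i, hi⟩ := Subgroup.mem_zpowers_iff.1 h
      have := congrArg Subtype.val hi
      rw [Subgroup.coe_zpow] at this
      have h' : u = a ^ i := this.symm
      exact hun (by rw [h']; exact (tor x).zpow_mem haT i))
    (fun y => by
      by_cases hy : (y : PG) ∈ tor x
      · exact Or.inl (hmem y hy)
      · refine Or.inr (hmem _ ?_)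
        obtain ⟨w, -, -, -, -, hc⟩ := normalizer_semis p hx
        have h1 := (hc _ (hH huH)).resolve_left hun
        have h2 := (hc _ (hH y.2)).resolve_left hy
        simpa [mul_assoc] using mul_mem (inv_mem h1) h2)
  exact ⟨⟨e⟩, by rw [Nat.card_congr e.toEquiv, DihedralGroup.nat_card]⟩

variable (p : ℕ) [Fact p.Prime] [CharP F p]

theorem orbit_of_three {T T' : Mem H} (hg : Nat.card H = 12) (h : am T = 3) (h' : am T' = 3) :
    T' ∈ MulAction.orbit H T := by
  haveI : Fact (Nat.Prime 3) := ⟨Nat.prime_three⟩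
  have hm : (12 : ℕ).factorization 3 = 1 := by
    have h1 : (12 : ℕ) = 3 ^ 1 * 4 := rfl
    rw [h1, Nat.factorization_mul (by norm_num) (by norm_num), Finsupp.add_apply,
      Nat.Prime.factorization_pow Nat.prime_three, Finsupp.single_eq_same,
      Nat.factorization_eq_zero_of_not_dvd (show ¬ 3 ∣ 4 by norm_num)]
  have key : ∀ T : Mem H, am T = 3 → ∃ P : Sylow 3 H, (P : Subgroup H) = (T.1 ⊓ H).subgroupOf H := fun T hT =>
    ⟨Sylow.ofCard ((T.1 ⊓ H).subgroupOf H) (by
      rw [Nat.card_congr (Subgroup.subgroupOfEquivOfLe (inf_le_right : T.1 ⊓ H ≤ H)).toEquiv, hg, hm]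
      exact hT), rfl⟩
  obtain ⟨P, hP⟩ := key T h
  obtain ⟨Q, hQ⟩ := key T' h'
  obtain ⟨c, hc⟩ := MulAction.exists_smul_eq H P Q
  obtain ⟨x, hx, hx1, hT⟩ := T.2
  refine ⟨c, ?_⟩
  show c • T = T'
  refine eq_of_mem (x := (c : PG) * x * (c : PG)⁻¹) ⟨x, hT ▸ mem_tor x, rfl⟩ ?_ (by simpa using hx1)
  have h2 : c * ⟨x, hx⟩ * c⁻¹ ∈ (Q : Subgroup H) := by
    rw [← hc]
    exact ⟨⟨x, hx⟩, by rw [hP]; exact Subgroup.mem_subgroupOf.2 ⟨hT ▸ mem_tor x, hx⟩, rfl⟩
  rw [hQ, Subgroup.mem_subgroupOf] at h2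
  exact h2.1

theorem not_uni_of_coprime {T : Mem H} (h : (am T).Coprime p) : ¬ Uni p T := fun hu => by
  obtain ⟨x, hx, hx1, hxp, hT⟩ := uni_rep p hu
  have h1 : orderOf x ∣ am T := Subgroup.orderOf_dvd_natCard (T.1 ⊓ H) ⟨hT ▸ mem_tor x, hx⟩
  rw [orderOf_eq_prime hxp hx1] at h1
  exact (Fact.out : p.Prime).coprime_iff_not_dvd.1 h.symm h1

theorem four_points {T : Mem H} (hT : ¬ Uni p T) (ha : am T = 3)
    (h4 : Nat.card (MulAction.orbit H T) = 4) :
    ∃ f : H →* Equiv.Perm (Fin 4), Function.Injective f := by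
  classical
  have hmem : ∀ S : MulAction.orbit H T, ¬ Uni p S.1 ∧ am S.1 = 3 := fun S => by
    obtain ⟨c, hc⟩ := S.2
    have hc : c • T = S.1 := hc
    rw [← hc, am_smul, uni_smul]
    exact ⟨hT, ha⟩
  have hinj : Function.Injective (MulAction.toPermHom H (MulAction.orbit H T)) := by
    rw [injective_iff_map_eq_one]
    intro x hx
    by_contra hx1
    have hker : ∀ (y : H), y ∈ (MulAction.toPermHom H (MulAction.orbit H T)).ker →
        ∀ S : MulAction.orbit H T, (y : PG) ∈ Subgroup.normalizer (S.1.1 : Set PG) := fun y hy S =>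
      mem_stabilizer_iff.1 (congrArg Subtype.val (DFunLike.congr_fun (MonoidHom.mem_ker.1 hy) S))
    have hT4 : ∃ S : MulAction.orbit H T, S.1 ≠ T := by
      by_contra hcon
      push Not at hcon
      have : Subsingleton (MulAction.orbit H T) := ⟨fun a b => Subtype.ext ((hcon a).trans (hcon b).symm)⟩
      rw [Nat.card_of_subsingleton (⟨T, MulAction.mem_orbit_self T⟩ : MulAction.orbit H T)] at h4
      omega
    obtain ⟨S, hS⟩ := hT4
    obtain ⟨z, hzH, hzp, hzT⟩ := semis_rep p hT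
    obtain ⟨w, -, hwp, hwS⟩ := semis_rep p (hmem S).1
    have hnotT : ∀ y : H, y ∈ (MulAction.toPermHom H (MulAction.orbit H T)).ker → (y : PG) ∈ T.1 → y = 1 := by
      intro y hy hyT
      by_contra hy1
      have hy1' : (y : PG) ≠ 1 := fun e => hy1 (Subtype.ext e)
      have hnS : (y : PG) ∉ S.1.1 := fun e => hS (eq_of_mem e hyT hy1')
      obtain ⟨h2, -⟩ := inverts_of_not_mem p hwp (hwS ▸ hker y hy S) (hwS ▸ hnS)
      have h3 : orderOf (y : PG) ∣ 3 := ha ▸ Subgroup.orderOf_dvd_natCard _ (show (y : PG) ∈ T.1 ⊓ H from ⟨hyT, y.2⟩)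
      have h2' : orderOf (y : PG) ∣ 2 := orderOf_dvd_of_pow_eq_one (by rw [pow_two, h2])
      exact hy1' (orderOf_eq_one_iff.1 (Nat.dvd_one.1 (by simpa using Nat.dvd_gcd h3 h2')))
    have hxk : x ∈ (MulAction.toPermHom H (MulAction.orbit H T)).ker := MonoidHom.mem_ker.2 hx
    have hxT : (x : PG) ∉ T.1 := fun e => hx1 (hnotT x hxk e)
    obtain ⟨-, hinv⟩ := inverts_of_not_mem p hzp
      (hzT ▸ hker x hxk ⟨T, MulAction.mem_orbit_self T⟩) (hzT ▸ hxT)
    have hz := hinv z (mem_tor z)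
    have hk : ((⟨z, hzH⟩ : H) * x * (⟨z, hzH⟩ : H)⁻¹) * x⁻¹ ∈ (MulAction.toPermHom H (MulAction.orbit H T)).ker :=
      mul_mem ((inferInstance : (MulAction.toPermHom H (MulAction.orbit H T)).ker.Normal).conj_mem _ hxk _)
        (inv_mem hxk)
    have he : (((⟨z, hzH⟩ : H) * x * (⟨z, hzH⟩ : H)⁻¹ * x⁻¹ : H) : PG) = z * z := by
      have hz' : (x : PG) * z⁻¹ * (x : PG)⁻¹ = z := by
        have := congrArg (·⁻¹) hz
        simpa [mul_assoc] using this
      show z * (x : PG) * z⁻¹ * (x : PG)⁻¹ = z * z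
      calc z * (x : PG) * z⁻¹ * (x : PG)⁻¹ = z * ((x : PG) * z⁻¹ * (x : PG)⁻¹) := by group
        _ = z * z := by rw [hz']
    have hz2 := hnotT _ hk (by rw [he, hzT]; exact mul_mem (mem_tor z) (mem_tor z))
    have hz2' : z * z = 1 := by rw [← he, hz2]; rfl
    have h3 : orderOf z ∣ 3 := ha ▸ Subgroup.orderOf_dvd_natCard _
      (show z ∈ T.1 ⊓ H from ⟨hzT ▸ mem_tor z, hzH⟩)
    have h2' : orderOf z ∣ 2 := orderOf_dvd_of_pow_eq_one (by rw [pow_two, hz2'])
    exact ne_one_of_semis p hzp (orderOf_eq_one_iff.1 (Nat.dvd_one.1 (by simpa using Nat.dvd_gcd h3 h2')))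
  obtain ⟨e⟩ : Nonempty (MulAction.orbit H T ≃ Fin 4) := by
    haveI : Finite (MulAction.orbit H T) := Nat.finite_of_card_ne_zero (by omega)
    exact ⟨(Finite.equivFin _).trans (finCongr h4)⟩
  exact ⟨(Equiv.permCongrHom e).toMonoidHom.comp (MulAction.toPermHom H (MulAction.orbit H T)),
    (Equiv.permCongrHom e).injective.comp hinj⟩

theorem equiv_four {T : Mem H} (hT : ¬ Uni p T) (ha : am T = 3)
    (h4 : Nat.card (MulAction.orbit H T) = 4) :
    (Nat.card H = 12 → Nonempty (H ≃* alternatingGroup (Fin 4))) ∧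
      (Nat.card H = 24 → Nonempty (H ≃* Equiv.Perm (Fin 4))) := by
  obtain ⟨f, hf⟩ := four_points p hT ha h4
  refine ⟨fun h12 => ?_, fun h24 => ⟨MulEquiv.ofBijective f ((Nat.bijective_iff_injective_and_card f).2
    ⟨hf, by rw [h24, Nat.card_perm, Nat.card_fin]; rfl⟩)⟩⟩
  have h := f.range.card_mul_index
  rw [← Nat.card_congr (MonoidHom.ofInjective hf).toEquiv, h12, Nat.card_perm, Nat.card_fin] at h
  have hidx : f.range.index = 2 := by simp [Nat.factorial] at h; omega
  exact ⟨(MonoidHom.ofInjective hf).trans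
    (MulEquiv.subgroupCongr (Equiv.Perm.eq_alternatingGroup_of_index_eq_two hidx))⟩

/-- The class data of the icosahedral group. -/
def Data60 (H : Subgroup (Matrix.ProjectiveSpecialLinearGroup (Fin 2) F)) : Prop :=
  Nat.card H = 60 ∧ ∃ i j k : Cls H, i ≠ j ∧ i ≠ k ∧ j ≠ k ∧ (∀ l, l = i ∨ l = j ∨ l = k) ∧
    (am (Quotient.out i) = 2 ∧ st (Quotient.out i) = 4) ∧ (am (Quotient.out j) = 3 ∧ st (Quotient.out j) = 6) ∧
    (am (Quotient.out k) = 5 ∧ st (Quotient.out k) = 10)

theorem equiv_five (h : Data60 H) : Nonempty (H ≃* alternatingGroup (Fin 5)) := by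
  classical
  obtain ⟨hg, i, j, k, hij, hik, hjk, hall, hi, hj, hk⟩ := h
  haveI : Fintype (Cls H) := Fintype.ofFinite _
  haveI : Nontrivial H := Finite.one_lt_card_iff_nontrivial.1 (by omega)
  haveI : IsSimpleGroup H := ⟨fun N hN => by
    set M := N.map H.subtype
    have hle : M ≤ H := Subgroup.map_subtype_le N
    have hnorm : H ≤ Subgroup.normalizer (M : Set PG) := by
      intro c hc
      refine Subgroup.mem_normalizer_fintype fun n hn => ?_
      obtain ⟨m, hm, rfl⟩ := hn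
      exact ⟨⟨c, hc⟩ * m * ⟨c, hc⟩⁻¹, hN.conj_mem m hm _, rfl⟩
    have hMN : Nat.card M = Nat.card N := Subgroup.card_map_of_injective H.subtype_injective
    have hsum := class_sum M hle hnorm
    have huniv : (Finset.univ : Finset (Cls H)) = {i, j, k} := by
      ext l; simpa using hall l
    rw [huniv, Finset.sum_insert (by simp [hij, hik]), Finset.sum_pair hjk, hg, hi.2, hj.2, hk.2, hMN] at hsum
    have hdvd : ∀ l : Cls H, Nat.card ((Quotient.out l).1 ⊓ M : Subgroup PG) ∣ am (Quotient.out l) := fun l =>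
      Subgroup.card_dvd_of_le (inf_le_inf_left _ hle)
    have h2 : Nat.card ((Quotient.out i).1 ⊓ M : Subgroup PG) = 1 ∨
        Nat.card ((Quotient.out i).1 ⊓ M : Subgroup PG) = 2 := Nat.prime_two.eq_one_or_self_of_dvd _ ((hdvd i).trans hi.1.dvd)
    have h3 : Nat.card ((Quotient.out j).1 ⊓ M : Subgroup PG) = 1 ∨
        Nat.card ((Quotient.out j).1 ⊓ M : Subgroup PG) = 3 := Nat.prime_three.eq_one_or_self_of_dvd _ ((hdvd j).trans hj.1.dvd)
    have h5 : Nat.card ((Quotient.out k).1 ⊓ M : Subgroup PG) = 1 ∨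
        Nat.card ((Quotient.out k).1 ⊓ M : Subgroup PG) = 5 := Nat.prime_five.eq_one_or_self_of_dvd _ ((hdvd k).trans hk.1.dvd)
    have hd : Nat.card N ∣ 60 := hg ▸ N.card_subgroup_dvd_card
    have hpos : 0 < Nat.card N := Nat.card_pos
    rcases h2 with e2 | e2 <;> rcases h3 with e3 | e3 <;> rcases h5 with e5 | e5 <;>
      rw [e2, e3, e5] at hsum
    all_goals first
      | exact Or.inl (Subgroup.card_eq_one.1 (by omega))
      | exact Or.inr (Subgroup.eq_top_of_card_eq _ (by omega))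
      | (exfalso
         have hN' : Nat.card N ∈ ({16, 21, 25, 36, 40, 45} : Finset ℕ) := by
           simp only [Finset.mem_insert, Finset.mem_singleton]; omega
         simp only [Finset.mem_insert, Finset.mem_singleton] at hN'
         rcases hN' with e | e | e | e | e | e <;> rw [e] at hd <;> norm_num at hd)⟩
  exact Small.simple_sixty hg

end Cfsg.Agent.Classical.Dickson2
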