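import Mathlib
import Cfsg.Agent.RootSub.Dickson.Common

/-!
A group of SL(2,F) whose translations act regularly on the finite part of an orbit on the projective line is
defined over a subfield.
-/

set_option autoImplicit false

namespace Cfsg.Agent.Classical.Dickson2

open Matrix
open Cfsg.Agent.RootSub.Dickson
open scoped MatrixGroups

variable {F : Type*} [Field F] [Finite F]

/-- A scalar multiple of a matrix over a subfield. -/
def OverK (K : Subfield F) (g : Matrix (Fin 2) (Fin 2) F) : Prop :=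
  ∃ c : F, c ≠ 0 ∧ ∃ M : Matrix (Fin 2) (Fin 2) K, g = c • M.map K.subtype

omit [Finite F] in
theorem OverK.mul {K : Subfield F} {g h : Matrix (Fin 2) (Fin 2) F} (hg : OverK K g) (hh : OverK K h) :
    OverK K (g * h) := by
  obtain ⟨c, hc, M, rfl⟩ := hg
  obtain ⟨d, hd, N, rfl⟩ := hh
  exact ⟨c * d, mul_ne_zero hc hd, M * N, by rw [Matrix.map_mul, smul_mul_smul_comm]⟩

omit [Finite F] in
theorem overK_upper {K : Subfield F} {g : SL(2, F)} (h10 : g.1 1 0 = 0) (hb : g.1 0 1 / g.1 0 0 ∈ K)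
    (ha : g.1 0 0 * g.1 0 0 ∈ K) : OverK K g.1 := by
  have hd := det2 g
  rw [h10, mul_zero, sub_zero] at hd
  have h0 : g.1 0 0 ≠ 0 := left_ne_zero_of_mul_eq_one hd
  refine ⟨g.1 0 0, h0, !![1, ⟨_, hb⟩; 0, (⟨_, ha⟩ : K)⁻¹], ?_⟩
  ext i j
  fin_cases i <;> fin_cases j <;> simp [h10, mul_div_cancel₀ _ h0]
  rw [show g.1 1 1 = (g.1 0 0)⁻¹ from eq_inv_of_mul_eq_one_right hd]
  field_simp

theorem exists_subfield_of_points (G : Subgroup SL(2, F)) (h1 : upR (1 : F) ∈ G)
    (hpt : ∀ g ∈ G, g.1 1 0 ≠ 0 → upR (g.1 0 0 / g.1 1 0) ∈ G) (hmove : ∃ g ∈ G, g.1 1 0 ≠ 0) :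
    ∃ K : Subfield F, (∀ r, r ∈ K ↔ upR r ∈ G) ∧ (∀ r ∈ K, lowR r ∈ G) ∧ ∀ g ∈ G, OverK K g.1 := by
  classical
  set S := transGroup G with hS
  obtain ⟨g₀, hg₀, hc₀⟩ := hmove
  set w : SL(2, F) := upR (-(g₀.1 0 0 / g₀.1 1 0)) * g₀ with hw
  have hwG : w ∈ G := mul_mem (by rw [← upR_inv]; exact inv_mem (hpt g₀ hg₀ hc₀)) hg₀
  have w00 : w.1 0 0 = 0 := by
    rw [hw, Matrix.SpecialLinearGroup.coe_mul, coe_upR]
    simp [Matrix.mul_apply, Fin.sum_univ_two]
    field_simp
    ring
  have w10 : w.1 1 0 = g₀.1 1 0 := by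
    rw [hw, Matrix.SpecialLinearGroup.coe_mul, coe_upR]
    simp [Matrix.mul_apply, Fin.sum_univ_two]
  clear_value w
  set c := w.1 1 0 with hcdef
  have hc : c ≠ 0 := w10 ▸ hc₀
  have w01 : w.1 0 1 = -1 / c := by
    have hd := det2 w
    rw [w00, zero_mul, zero_sub] at hd
    field_simp
    linear_combination -hd
  set μ := c ^ 2 with hμ
  have hμ0 : μ ≠ 0 := pow_ne_zero _ hc
  have hlow : ∀ r ∈ S, lowR (μ * r) ∈ G := by
    intro r hr
    have h := mul_mem (mul_mem hwG (mem_transGroup.1 (neg_mem hr))) (inv_mem hwG)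
    rw [conj_upR w00] at h
    convert h using 2
    ring
  have hinv : ∀ r ∈ S, r ≠ 0 → (μ * r)⁻¹ ∈ S := by
    intro r hr h0
    have h := hpt _ (hlow r hr) (by rw [coe_lowR]; simp [hμ0, h0])
    rw [coe_lowR] at h
    simpa [hS, mem_transGroup] using h
  have hone : (1 : F) ∈ S := h1
  have hhua : ∀ a ∈ S, ∀ b ∈ S, μ * a ^ 2 * b ∈ S := by
    intro a ha b hb
    by_cases ha0 : a = 0
    · rw [ha0]; simp
    by_cases hb0 : b = 0
    · rw [hb0]; simp
    by_cases he : μ * a * b = 1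
    · rw [show μ * a ^ 2 * b = a by linear_combination a * he]; exact ha
    have he' : (1 : F) - μ * a * b ≠ 0 := sub_ne_zero.2 (Ne.symm he)
    set x := (μ * b)⁻¹ - a with hx
    have hxS : x ∈ S := sub_mem (hinv b hb hb0) ha
    have hxe : x = (1 - μ * a * b) / (μ * b) := by rw [hx]; field_simp
    have hx0 : x ≠ 0 := by rw [hxe]; exact div_ne_zero he' (mul_ne_zero hμ0 hb0)
    set t := (μ * a)⁻¹ + (μ * x)⁻¹ with ht
    have htS : t ∈ S := add_mem (hinv a ha ha0) (hinv x hxS hx0)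
    have hte : t = 1 / (μ * a * (1 - μ * a * b)) := by rw [ht, hxe]; field_simp; ring
    have ht0 : t ≠ 0 := by rw [hte]; exact one_div_ne_zero (mul_ne_zero (mul_ne_zero hμ0 ha0) he')
    have := sub_mem ha (hinv t htS ht0)
    convert this using 1
    rw [hte]
    field_simp
    ring
  have hdiv : ∀ a ∈ S, ∀ b ∈ S, a ^ 2 / b ∈ S := by
    intro a ha b hb
    by_cases hb0 : b = 0
    · rw [hb0]; simp
    have := hhua a ha _ (hinv b hb hb0)
    convert this using 1
    field_simp
  have hsq : ∀ a ∈ S, a ^ 2 ∈ S := fun a ha => by simpa using hdiv a ha 1 hone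
  have hinv' : ∀ a ∈ S, a⁻¹ ∈ S := fun a ha => by simpa using hdiv 1 hone a ha
  have hmul : ∀ a ∈ S, ∀ b ∈ S, a * b ∈ S := by
    intro a ha b hb
    have h2ab : a * b + a * b ∈ S := by
      rw [show a * b + a * b = (a + b) ^ 2 - a ^ 2 - b ^ 2 by ring]
      exact sub_mem (sub_mem (hsq _ (add_mem ha hb)) (hsq _ ha)) (hsq _ hb)
    by_cases h2 : (2 : F) = 0
    · have hfi : Function.Injective (fun x : S => (⟨(x : F) ^ 2, hsq x x.2⟩ : S)) := by
        intro x y e
        have e' : (x : F) ^ 2 = (y : F) ^ 2 := congrArg Subtype.val e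
        have : ((x : F) - y) * ((x : F) - y) = 0 := by linear_combination e' + (y * y - x * y) * h2
        exact Subtype.ext (sub_eq_zero.1 (mul_self_eq_zero.1 this))
      obtain ⟨⟨t, ht⟩, hte⟩ := Finite.injective_iff_surjective.1 hfi ⟨a, ha⟩
      have e' : t ^ 2 = a := congrArg Subtype.val hte
      have := hdiv t ht _ (hinv' b hb)
      rwa [e', div_inv_eq_mul] at this
    · obtain ⟨p, hp⟩ := CharP.exists F
      have hprime : p.Prime := by
        rcases CharP.char_is_prime_or_zero F p with h | h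
        · exact h
        · subst h
          exact absurd (CharP.charP_to_charZero F) (fun h => by
            have := Fintype.ofFinite F
            exact (not_finite F : False).elim)
      have hne : p ≠ 2 := fun e => h2 (by subst e; exact_mod_cast CharP.cast_eq_zero F 2)
      obtain ⟨j, hj⟩ := hprime.odd_of_ne_two hne
      have hj2 : ((j + 1 : ℕ) : F) * 2 = 1 := by
        have h0 : ((2 * j + 1 : ℕ) : F) = 0 := by rw [← hj]; exact CharP.cast_eq_zero F p
        push_cast at h0 ⊢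
        linear_combination h0
      have := nsmul_mem h2ab (j + 1)
      rw [nsmul_eq_mul] at this
      convert this using 1
      linear_combination -(a * b) * hj2
  let K : Subfield F :=
    { carrier := S
      one_mem' := hone
      mul_mem' := fun ha hb => hmul _ ha _ hb
      zero_mem' := S.zero_mem
      add_mem' := fun ha hb => S.add_mem ha hb
      neg_mem' := fun ha => S.neg_mem ha
      inv_mem' := hinv' }
  have hK : ∀ r, r ∈ K ↔ upR r ∈ G := fun r => Iff.rfl
  have hμK : μ ∈ K := by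
    have := hhua 1 hone 1 hone
    rwa [one_pow, mul_one, mul_one] at this
  refine ⟨K, hK, fun r hr => ?_, ?_⟩
  · have := hlow (r / μ) (K.div_mem hr hμK)
    rwa [mul_div_cancel₀ _ hμ0] at this
  have hwK : OverK K w.1 := by
    have hwi := hpt _ (inv_mem hwG) (by
      rw [Matrix.SpecialLinearGroup.coe_inv, Matrix.adjugate_fin_two]; simpa using hc)
    rw [Matrix.SpecialLinearGroup.coe_inv, Matrix.adjugate_fin_two] at hwi
    have he : w.1 1 1 / c ∈ K := by
      have h : w.1 1 1 / -c ∈ K := by simpa [hK, hcdef] using hwi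
      rw [div_neg] at h
      simpa using K.neg_mem h
    refine ⟨c, hc, !![0, -(⟨μ, hμK⟩ : K)⁻¹; 1, ⟨_, he⟩], ?_⟩
    ext i j
    fin_cases i <;> fin_cases j <;> simp [w00, w01, ← hcdef, mul_div_cancel₀ _ hc]
    rw [hμ]; field_simp
  have hupper : ∀ g ∈ G, g.1 1 0 = 0 → OverK K g.1 := by
    intro g hg h10
    have hd := det2 g
    rw [h10, mul_zero, sub_zero] at hd
    have h0 : g.1 0 0 ≠ 0 := left_ne_zero_of_mul_eq_one hd
    have ha : g.1 0 0 * g.1 0 0 ∈ K := by
      have e : g * upR 1 * g⁻¹ = upR (g.1 0 0 * g.1 0 0) := by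
        rw [mul_inv_eq_iff_eq_mul]
        apply ext_entries <;> simp [coe_upR, Matrix.mul_apply, Fin.sum_univ_two, h10]
        linear_combination -(g.1 0 0) * hd
      rw [hK, ← e]
      exact mul_mem (mul_mem hg h1) (inv_mem hg)
    refine overK_upper h10 ?_ ha
    have hh := hpt _ (inv_mem (mul_mem hwG hg)) (by
      rw [Matrix.SpecialLinearGroup.coe_inv, Matrix.adjugate_fin_two]
      simp [Matrix.mul_apply, Fin.sum_univ_two, h10, ← hcdef, hc, h0])
    rw [Matrix.SpecialLinearGroup.coe_inv, Matrix.adjugate_fin_two] at hh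
    obtain ⟨c', hc', M, hM⟩ := hwK
    have he : w.1 1 1 / c ∈ K := by
      rw [hcdef, hM]
      simp [mul_div_mul_left _ _ hc', K.div_mem]
    have hx : -((c * g.1 0 1 + w.1 1 1 * g.1 1 1) / (c * g.1 0 0)) ∈ K := by
      simpa [hK, Matrix.mul_apply, Fin.sum_univ_two, h10, ← hcdef, div_neg] using hh
    have hfin := K.sub_mem (K.neg_mem hx) (K.div_mem he ha)
    convert hfin using 1
    rw [show g.1 1 1 = (g.1 0 0)⁻¹ from eq_inv_of_mul_eq_one_right hd]
    field_simp
    ring
  intro g hg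
  by_cases h10 : g.1 1 0 = 0
  · exact hupper g hg h10
  set z := g.1 0 0 / g.1 1 0 with hz
  have hzG := hpt g hg h10
  have hg' : w⁻¹ * (upR (-z) * g) ∈ G := mul_mem (inv_mem hwG) (mul_mem ((upR_inv z).symm ▸ inv_mem hzG) hg)
  have hu := hupper _ hg' (by
    rw [Matrix.SpecialLinearGroup.coe_mul, Matrix.SpecialLinearGroup.coe_inv, Matrix.adjugate_fin_two,
      Matrix.SpecialLinearGroup.coe_mul, coe_upR]
    simp [Matrix.mul_apply, Fin.sum_univ_two, w00]
    right; simp [Matrix.vecMul, dotProduct, Fin.sum_univ_two]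
    rw [hz]; field_simp; ring)
  have hupK : OverK K (upR z).1 :=
    overK_upper (by simp [coe_upR]) (by simpa [coe_upR, hK] using hzG) (by simp [coe_upR, K.one_mem])
  have e : g = upR z * (w * (w⁻¹ * (upR (-z) * g))) := by
    rw [mul_inv_cancel_left, ← upR_inv, mul_inv_cancel_left]
  rw [e, Matrix.SpecialLinearGroup.coe_mul, Matrix.SpecialLinearGroup.coe_mul]
  exact hupK.mul (hwK.mul hu)

end Cfsg.Agent.Classical.Dickson2
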