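import Mathlib
import Cfsg.Agent.Classical.Dickson2.Family
import Cfsg.Agent.Classical.Dickson2.SubfieldCore
import Cfsg.Agent.Classical.SubfieldPSL
import Cfsg.Agent.AutPSL.Basic

/-!
Subgroups of PSL(2,q) with `s + 1` Sylow p-subgroups of order `s` are defined over the field with `s` elements.
-/

set_option autoImplicit false

namespace Cfsg.Agent.Classical.Dickson2

open Matrix Cfsg.Agent.SL2Class
open Cfsg.Agent.RootSub.Dickson
open scoped MatrixGroups

variable {F : Type*} [Field F] [Fintype F]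

local notation "SG" => Matrix.SpecialLinearGroup (Fin 2) F
local notation "PG" => Matrix.ProjectiveSpecialLinearGroup (Fin 2) F

omit [Fintype F] in
theorem upR_root (r : F) : upR r = rootHomSL (Multiplicative.ofAdd r) :=
  Subtype.ext (by rw [coe_upR, rootHomSL_coe]; rfl)

omit [Fintype F] in
theorem proj_upR_inj {r r' : F} (h : proj (upR r) = proj (upR r')) : r = r' := by
  rcases proj_eq_iff.1 h with e | e
  · simpa [coe_upR] using (congrArg (fun A : SG => A.1 0 1) e).symm
  · have e0 := congrArg (fun A : SG => A.1 0 0) e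
    have e1 := congrArg (fun A : SG => A.1 0 1) e
    simp [coe_upR] at e0 e1
    have h2 : (2 : F) = 0 := by linear_combination e0
    linear_combination r * h2 - e1

theorem card_trans (H : Subgroup PG) :
    Nat.card (transGroup (H.comap proj)) = Nat.card ((rootP : Subgroup PG) ⊓ H : Subgroup PG) := by
  refine Nat.card_eq_of_bijective (fun r : transGroup (H.comap proj) =>
    (⟨proj (upR (r : F)), ⟨Multiplicative.ofAdd (r : F), by rw [MonoidHom.comp_apply, upR_root]⟩, r.2⟩ :
      ((rootP : Subgroup PG) ⊓ H : Subgroup PG))) ⟨fun a b h => Subtype.ext (proj_upR_inj (congrArg Subtype.val h)), ?_⟩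
  rintro ⟨y, ⟨c, rfl⟩, hy⟩
  refine ⟨⟨c.toAdd, ?_⟩, Subtype.ext ?_⟩
  · rw [mem_transGroup, Subgroup.mem_comap, upR_root, ofAdd_toAdd]; exact hy
  · show proj (upR c.toAdd) = _
    rw [upR_root, ofAdd_toAdd]; rfl

theorem coset_of_index (H : Subgroup PG)
    (hidx : Nat.card H = (Nat.card ((rootP : Subgroup PG) ⊓ H : Subgroup PG) + 1) *
      Nat.card (Subgroup.normalizer ((rootP : Subgroup PG) : Set PG) ⊓ H : Subgroup PG)) :
    ∃ g₀ : SG, proj g₀ ∈ H ∧ g₀.1 1 0 ≠ 0 ∧ ∀ g : SG, proj g ∈ H → g.1 1 0 ≠ 0 →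
      proj (upR (g.1 0 0 / g.1 1 0 - g₀.1 0 0 / g₀.1 1 0)) ∈ H := by
  classical
  set U := (Subgroup.normalizer ((rootP : Subgroup PG) : Set PG) ⊓ H : Subgroup PG) with hU
  set B := U.subgroupOf H
  have hB : Nat.card (H ⧸ B) = Nat.card ((rootP : Subgroup PG) ⊓ H : Subgroup PG) + 1 := by
    have h := B.card_eq_card_quotient_mul_card_subgroup
    rw [Nat.card_congr (Subgroup.subgroupOfEquivOfLe (inf_le_right : U ≤ H)).toEquiv, hidx] at h
    exact (Nat.eq_of_mul_eq_mul_right Nat.card_pos h).symm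
  have hne : ¬ H ≤ Subgroup.normalizer ((rootP : Subgroup PG) : Set PG) := fun hle => by
    have h : B = ⊤ := Subgroup.subgroupOf_eq_top.2 (le_inf hle le_rfl)
    haveI : Subsingleton (H ⧸ B) := by rw [h]; exact QuotientGroup.subsingleton_quotient_top
    rw [Nat.card_of_subsingleton ((1 : H) : H ⧸ B)] at hB
    have : 0 < Nat.card ((rootP : Subgroup PG) ⊓ H : Subgroup PG) := Nat.card_pos
    omega
  obtain ⟨y, hyH, hyn⟩ := SetLike.not_le_iff_exists.1 hne
  obtain ⟨g₀, rfl⟩ := proj_surjective y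
  have hc : g₀.1 1 0 ≠ 0 := fun e => hyn (proj_mem_normalizer_rootP.2 e)
  refine ⟨g₀, hyH, hc, fun g hg hg10 => ?_⟩
  have hmem : ∀ a b : H, ((a : H ⧸ B) = b ↔ (a : PG)⁻¹ * b ∈ Subgroup.normalizer ((rootP : Subgroup PG) : Set PG)) :=
    fun a b => by
      rw [QuotientGroup.eq, Subgroup.mem_subgroupOf, hU, Subgroup.mem_inf]
      simp only [Subgroup.coe_mul, Subgroup.coe_inv]
      exact ⟨And.left, fun h => ⟨h, mul_mem (inv_mem a.2) b.2⟩⟩
  let f : Option (transGroup (H.comap proj)) → H ⧸ B := fun o => o.elim ((1 : H) : H ⧸ B) fun r =>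
    ((⟨proj (upR (r : F) * g₀), by rw [map_mul]; exact mul_mem r.2 hyH⟩ : H) : H ⧸ B)
  have key : ∀ (r : F) (h : SG), (proj (upR r * g₀))⁻¹ * proj h ∈
      Subgroup.normalizer ((rootP : Subgroup PG) : Set PG) →
        g₀.1 1 0 * h.1 0 0 = (g₀.1 0 0 + r * g₀.1 1 0) * h.1 1 0 := by
    intro r h hm
    rw [← map_inv, ← map_mul, proj_mem_normalizer_rootP, Matrix.SpecialLinearGroup.coe_mul,
      Matrix.SpecialLinearGroup.coe_inv, Matrix.SpecialLinearGroup.coe_mul, Matrix.adjugate_fin_two, coe_upR] at hm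
    simp [Matrix.mul_apply, Fin.sum_univ_two] at hm
    linear_combination -hm
  have hinj : Function.Injective f := by
    intro a b e
    match a, b with
    | none, none => rfl
    | none, some r =>
      exfalso
      have h := key r 1 (by simpa using (hmem _ _).1 e.symm)
      simp at h
      exact hc h
    | some r, none =>
      exfalso
      have h := key r 1 (by simpa using (hmem _ _).1 e)
      simp at h
      exact hc h
    | some r, some r' =>
      have h := key r (upR (r' : F) * g₀) ((hmem _ _).1 e)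
      rw [Matrix.SpecialLinearGroup.coe_mul, coe_upR] at h
      simp [Matrix.mul_apply, Fin.sum_univ_two] at h
      have h' : ((r' : F) - r) * (g₀.1 1 0 * g₀.1 1 0) = 0 := by linear_combination h
      congr 1
      exact Subtype.ext (sub_eq_zero.1 ((mul_eq_zero.1 h').resolve_right (mul_ne_zero hc hc))).symm
  have hsurj : Function.Surjective f :=
    ((Nat.bijective_iff_injective_and_card f).2 ⟨hinj, by rw [hB, Finite.card_option, card_trans]⟩).2
  obtain ⟨o, ho⟩ := hsurj ((⟨proj g, hg⟩ : H) : H ⧸ B)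
  match o with
  | none =>
    exfalso
    have h := (hmem _ _).1 ho
    rw [OneMemClass.coe_one, inv_one, one_mul, proj_mem_normalizer_rootP] at h
    exact hg10 h
  | some r =>
    have h := key r g ((hmem _ _).1 ho)
    rw [show g.1 0 0 / g.1 1 0 - g₀.1 0 0 / g₀.1 1 0 = (r : F) by field_simp; linear_combination h]
    exact r.2

/-- The matrix of the change of coordinates `z ↦ (z - z₀) / r₀`. -/
noncomputable def coordGL (r₀ z₀ : F) (hr : r₀ ≠ 0) : GL (Fin 2) F :=
  ⟨!![1, -z₀; 0, r₀], !![1, z₀ * r₀⁻¹; 0, r₀⁻¹],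
    by ext i j; fin_cases i <;> fin_cases j <;> simp [Matrix.mul_apply, Fin.sum_univ_two, mul_inv_cancel₀ hr],
    by ext i j; fin_cases i <;> fin_cases j <;>
      simp [Matrix.mul_apply, Fin.sum_univ_two, inv_mul_cancel₀ hr] <;> field_simp <;> ring⟩

omit [Fintype F] in
theorem conj_coord (r₀ z₀ : F) (hr : r₀ ≠ 0) (g : SG) :
    (AutPSL.conjSL (coordGL r₀ z₀ hr) g).1 0 0 = g.1 0 0 - z₀ * g.1 1 0 ∧
      (AutPSL.conjSL (coordGL r₀ z₀ hr) g).1 1 0 = r₀ * g.1 1 0 := by
  rw [AutPSL.conjSL_coe]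
  constructor <;> simp [coordGL, Matrix.mul_apply, Fin.sum_univ_two, Matrix.vecMul, dotProduct] <;> ring

omit [Fintype F] in
theorem conj_coord_upR (r₀ z₀ : F) (hr : r₀ ≠ 0) (r : F) :
    AutPSL.conjSL (coordGL r₀ z₀ hr) (upR r) = upR (r / r₀) := by
  refine Subtype.ext ?_
  rw [AutPSL.conjSL_coe, coe_upR, coe_upR]
  ext i j
  fin_cases i <;> fin_cases j <;>
    simp [coordGL, Matrix.mul_apply, Fin.sum_univ_two, Matrix.vecMul, dotProduct] <;> field_simp <;> ring

theorem sub_psl (p : ℕ) [Fact p.Prime] [CharP F p] (H : Subgroup PG)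
    (hs : 2 ≤ Nat.card ((rootP : Subgroup PG) ⊓ H : Subgroup PG))
    (hidx : Nat.card H = (Nat.card ((rootP : Subgroup PG) ⊓ H : Subgroup PG) + 1) *
      Nat.card (Subgroup.normalizer ((rootP : Subgroup PG) : Set PG) ⊓ H : Subgroup PG)) :
    ∃ (K : Type) (_ : Field K) (_ : Fintype K) (m : ℕ),
      Fintype.card K = Nat.card ((rootP : Subgroup PG) ⊓ H : Subgroup PG) ∧ Fintype.card K ^ m = Fintype.card F ∧
      (∃ (φ : MulAut PG) (ι : K →+* F), ∀ y ∈ H,
        ProjectiveSpecialLinearGroup.toPGL (φ y) ∈ (SubfieldPSL.pglMap ι).range) ∧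
      (Nonempty (H ≃* Matrix.ProjectiveSpecialLinearGroup (Fin 2) K) ∨
        (Nonempty (H ≃* Matrix.ProjGenLinGroup (Fin 2) K) ∧ Odd (Fintype.card F) ∧ Even m)) := by
  classical
  set G := H.comap proj with hG
  obtain ⟨g₀, hg₀, hc₀, hpts⟩ := coset_of_index H hidx
  obtain ⟨⟨r₀, hr₀S⟩, hr₀'⟩ : ∃ r : transGroup G, r ≠ 0 := by
    haveI : Nontrivial (transGroup G) := Finite.one_lt_card_iff_nontrivial.1 (by rw [card_trans]; omega)
    exact exists_ne 0
  have hr₀ : r₀ ≠ 0 := fun e => hr₀' (Subtype.ext e)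
  set z₀ := g₀.1 0 0 / g₀.1 1 0
  set η := coordGL r₀ z₀ hr₀
  set G' := G.map (AutPSL.conjSL η).toMonoidHom with hG'
  have hup : ∀ r : F, upR r ∈ G' ↔ r * r₀ ∈ transGroup G := by
    intro r
    have e : upR r = AutPSL.conjSL η (upR (r * r₀)) := by
      rw [conj_coord_upR, mul_div_cancel_right₀ _ hr₀]
    rw [hG', e, mem_transGroup]
    exact Subgroup.mem_map_iff_mem (AutPSL.conjSL η).injective
  obtain ⟨K, hK, hKlow, hover⟩ := exists_subfield_of_points G' ((hup 1).2 (by rwa [one_mul]))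
    (by
      rintro _ ⟨g, hg, rfl⟩ h10
      obtain ⟨e0, e1⟩ := conj_coord r₀ z₀ hr₀ g
      rw [MulEquiv.coe_toMonoidHom] at h10 ⊢
      rw [e1] at h10
      rw [hup, e0, e1, mem_transGroup, hG, Subgroup.mem_comap]
      have hg10 : g.1 1 0 ≠ 0 := right_ne_zero_of_mul h10
      convert hpts g hg hg10 using 3
      field_simp)
    ⟨AutPSL.conjSL η g₀, ⟨g₀, hg₀, rfl⟩, by
      rw [(conj_coord r₀ z₀ hr₀ g₀).2]; exact mul_ne_zero hr₀ hc₀⟩
  have hKcard : Nat.card K = Nat.card ((rootP : Subgroup PG) ⊓ H : Subgroup PG) := by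
    rw [← card_trans]
    exact Nat.card_congr
      { toFun := fun r => ⟨(r : F) * r₀, (hup r).1 ((hK r).1 r.2)⟩
        invFun := fun r => ⟨(r : F) / r₀, (hK _).2 ((hup _).2 (by rw [div_mul_cancel₀ _ hr₀]; exact r.2))⟩
        left_inv := fun r => Subtype.ext (mul_div_cancel_right₀ _ hr₀)
        right_inv := fun r => Subtype.ext (div_mul_cancel₀ _ hr₀) }
  haveI : Fintype K := Fintype.ofFinite _
  obtain ⟨n, -, hn⟩ := FiniteField.card K p
  haveI : Fintype (GaloisField p n) := Fintype.ofFinite _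
  have hcardK0 : Fintype.card (GaloisField p n) = Fintype.card K := by
    rw [hn, ← Nat.card_eq_fintype_card, GaloisField.card p n n.ne_zero]
  obtain ⟨e⟩ : Nonempty (GaloisField p n ≃+* K) := ⟨FiniteField.ringEquivOfCardEq hcardK0⟩
  set ι : GaloisField p n →+* F := K.subtype.comp e.toRingHom with hι
  have hιmem : ∀ r : F, r ∈ K → ∃ a, ι a = r := fun r hr => ⟨e.symm ⟨r, hr⟩, by simp [hι]⟩
  set m := Module.finrank K F
  have hm : Fintype.card (GaloisField p n) ^ m = Fintype.card F := by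
    rw [hcardK0, ← Module.card_eq_pow_finrank]
  set H' := G'.map proj with hH'
  have hHH' : H' = H.map (AutPSL.conjA η).toMonoidHom := by
    rw [hH', hG', Subgroup.map_map,
      show proj.comp (AutPSL.conjSL η).toMonoidHom = (AutPSL.conjA η).toMonoidHom.comp proj from
        MonoidHom.ext fun s => rfl,
      ← Subgroup.map_map, hG, Subgroup.map_comap_eq_self_of_surjective proj_surjective]
  set R := H'.map (ProjectiveSpecialLinearGroup.toPGL (n := Fin 2) (R := F))
  have hR : R ≤ (SubfieldPSL.pglMap ι).range := by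
    rintro _ ⟨_, ⟨g, hg, rfl⟩, rfl⟩
    obtain ⟨c, hc, M, hM⟩ := hover g hg
    choose a ha using fun i j => hιmem _ (M i j).2
    have hM0 : (Matrix.of a).map ι = M.map K.subtype := by ext i j; exact ha i j
    have hdet : (Matrix.of a).det ≠ 0 := by
      intro h0
      have h := congrArg Matrix.det hM
      rw [g.2, Matrix.det_smul, ← hM0, ← RingHom.mapMatrix_apply, ← RingHom.map_det, h0, map_zero, mul_zero] at h
      exact one_ne_zero h
    refine ⟨ProjGenLinGroup.mk (Matrix.GeneralLinearGroup.mkOfDetNeZero _ hdet), ?_⟩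
    rw [SubfieldPSL.pglMap_mk]
    show _ = ProjGenLinGroup.mk (Matrix.SpecialLinearGroup.toGL g)
    rw [ProjGenLinGroup.mk_eq_mk_iff]
    refine ⟨Units.mk0 c hc, Units.ext ?_⟩
    rw [Units.val_mul, show (Matrix.SpecialLinearGroup.toGL g).1 = g.1 from rfl, hM, ← hM0]
    ext i j
    fin_cases i <;> fin_cases j <;> simp [Matrix.mul_apply, Fin.sum_univ_two, Matrix.GeneralLinearGroup.mkOfDetNeZero] <;> ring
  haveI : Finite (Matrix.ProjGenLinGroup (Fin 2) (GaloisField p n)) :=
    Finite.of_surjective _ ProjGenLinGroup.mk_surjective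
  refine ⟨GaloisField p n, inferInstance, inferInstance, m, by rw [hcardK0, ← Nat.card_eq_fintype_card, hKcard],
    hm, ⟨AutPSL.conjA η, ι, fun y hy => hR ⟨_, hHH' ▸ ⟨y, hy, rfl⟩, rfl⟩⟩, ?_⟩
  set R0 := R.comap (SubfieldPSL.pglMap ι)
  have hR0 : (ProjectiveSpecialLinearGroup.toPGL (n := Fin 2) (R := GaloisField p n)).range ≤ R0 := by
    have htop : G'.comap (Matrix.SpecialLinearGroup.map ι) = ⊤ := by
      refine eq_top_of_trans (fun r => ?_) (fun r => ?_) <;> rw [Subgroup.mem_comap]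
      · rw [map_upR]; exact (hK _).1 (e r).2
      · rw [map_lowR]; exact hKlow _ (e r).2
    rintro _ ⟨x, rfl⟩
    induction x using QuotientGroup.induction_on with | H h => ?_
    have hh : Matrix.SpecialLinearGroup.map ι h ∈ G' := by
      rw [← Subgroup.mem_comap, htop]; exact Subgroup.mem_top _
    refine ⟨proj (Matrix.SpecialLinearGroup.map ι h), ⟨_, hh, rfl⟩, ?_⟩
    show ProjGenLinGroup.mk (Matrix.SpecialLinearGroup.toGL (Matrix.SpecialLinearGroup.map ι h)) =
      SubfieldPSL.pglMap ι (ProjGenLinGroup.mk (Matrix.SpecialLinearGroup.toGL h))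
    rw [SubfieldPSL.pglMap_mk]
    congr 1
    exact Units.ext (by ext i j; rfl)
  have e1 : H ≃* R0 := by
    refine ((H.equivMapOfInjective _ (AutPSL.conjA η).injective).trans
      (MulEquiv.subgroupCongr hHH'.symm)).trans
      ((H'.equivMapOfInjective _ ProjectiveSpecialLinearGroup.toPGL_injective).trans ?_)
    exact ((R0.equivMapOfInjective _ (SubfieldPSL.pglMap_injective ι)).trans
      (MulEquiv.subgroupCongr (Subgroup.map_comap_eq_self hR))).symm
  have hpsl := card_psl_mul (ι := Fin 2) (F := GaloisField p n)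
  rw [Fintype.card_fin] at hpsl
  have hpgl : Nat.card (Matrix.ProjGenLinGroup (Fin 2) (GaloisField p n)) =
      Nat.card (Matrix.SpecialLinearGroup (Fin 2) (GaloisField p n)) := Classical.card_pgl
  set d := Nat.gcd 2 (Fintype.card (GaloisField p n) - 1) with hd
  have hrange : Nat.card (ProjectiveSpecialLinearGroup.toPGL (n := Fin 2) (R := GaloisField p n)).range =
      Nat.card (Matrix.ProjectiveSpecialLinearGroup (Fin 2) (GaloisField p n)) :=
    (Nat.card_congr (MonoidHom.ofInjective ProjectiveSpecialLinearGroup.toPGL_injective).toEquiv).symm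
  by_cases hle : R0 ≤ (ProjectiveSpecialLinearGroup.toPGL (n := Fin 2) (R := GaloisField p n)).range
  · exact Or.inl ⟨(e1.trans (MulEquiv.subgroupCongr (le_antisymm hle hR0))).trans
      (MonoidHom.ofInjective ProjectiveSpecialLinearGroup.toPGL_injective).symm⟩
  right
  have hlt : Nat.card (ProjectiveSpecialLinearGroup.toPGL (n := Fin 2) (R := GaloisField p n)).range <
      Nat.card R0 := by
    by_contra hcon
    exact hle (Subgroup.eq_of_le_of_card_ge hR0 (by omega)).ge
  obtain ⟨c1, hc1⟩ := Subgroup.card_dvd_of_le hR0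
  obtain ⟨c2, hc2⟩ := R0.card_subgroup_dvd_card
  rw [hpgl, ← hpsl, hc1, hrange] at hc2
  rw [hc1] at hlt
  have hpos : 0 < Nat.card (Matrix.ProjectiveSpecialLinearGroup (Fin 2) (GaloisField p n)) := Nat.card_pos
  have hdle : d ≤ 2 := Nat.gcd_le_left _ two_pos
  have hc : d = c1 * c2 := by
    refine Nat.eq_of_mul_eq_mul_left hpos ?_
    rw [← mul_assoc, ← hc2, mul_comm]
  have h1 : 2 ≤ c1 := by
    by_contra h
    have := Nat.mul_le_mul_left (Nat.card (ProjectiveSpecialLinearGroup.toPGL (n := Fin 2) (R := GaloisField p n)).range) (show c1 ≤ 1 by omega)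
    omega
  have hd2 : d = 2 ∧ c1 = 2 := by
    rcases Nat.eq_zero_or_pos c2 with rfl | h2
    · rw [mul_zero] at hc
      exact absurd hc (Nat.gcd_pos_of_pos_left _ two_pos).ne'
    · have := Nat.le_mul_of_pos_right c1 h2
      omega
  have hR0top : R0 = ⊤ := Subgroup.eq_top_of_card_eq _ (by rw [hc1, hrange, hpgl, ← hpsl, hd2.1, hd2.2, mul_comm])
  have e2 : H ≃* Matrix.ProjGenLinGroup (Fin 2) (GaloisField p n) :=
    (e1.trans (MulEquiv.subgroupCongr hR0top)).trans Subgroup.topEquiv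
  have hodd : Odd (Fintype.card F) := by
    rw [← hm, hcardK0, hn]
    refine Odd.pow (Odd.pow ?_)
    refine (Fact.out : p.Prime).odd_of_ne_two fun hp => ?_
    have h := hd2.1
    rw [hd, hcardK0, hn, hp] at h
    have h2 : 2 ∣ 2 ^ (n : ℕ) - 1 := by
      have h4 := Nat.gcd_dvd_right 2 (2 ^ (n : ℕ) - 1)
      rwa [h] at h4
    have h3 : 2 ∣ 2 ^ (n : ℕ) := dvd_pow_self 2 n.ne_zero
    have := Nat.one_le_two_pow (n := (n : ℕ))
    omega
  exact ⟨⟨e2⟩, hodd, Nat.not_odd_iff_even.1 fun ho => SubfieldPSL.not_pgl ho hm hodd H e2⟩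

theorem sub_main (p : ℕ) [Fact p.Prime] [CharP F p] {H : Subgroup PG} {T : Mem H} (hT : Uni p T)
    (hN : Nat.card (MulAction.orbit H T) = am T + 1) :
    ∃ (K : Type) (_ : Field K) (_ : Fintype K) (m : ℕ),
      Fintype.card K = am T ∧ Fintype.card K ^ m = Fintype.card F ∧
      (∃ (φ : MulAut PG) (ι : K →+* F), ∀ y ∈ H,
        ProjectiveSpecialLinearGroup.toPGL (φ y) ∈ (SubfieldPSL.pglMap ι).range) ∧
      (Nonempty (H ≃* Matrix.ProjectiveSpecialLinearGroup (Fin 2) K) ∨
        (Nonempty (H ≃* Matrix.ProjGenLinGroup (Fin 2) K) ∧ Odd (Fintype.card F) ∧ Even m)) := by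
  obtain ⟨x, -, hx1, hxp, hTx⟩ := uni_rep p hT
  obtain ⟨c, hc⟩ := exists_conj_rootP p hx1 hxp
  set f := (MulAut.conj c).toMonoidHom
  set H₁ := H.comap f
  have hinj : Function.Injective f := (MulAut.conj c).injective
  have hH : H = H₁.map f := (Subgroup.map_comap_eq_self_of_surjective (MulAut.conj c).surjective H).symm
  have ha : am T = Nat.card ((rootP : Subgroup PG) ⊓ H₁ : Subgroup PG) := by
    rw [am, hTx, hc, hH, ← Subgroup.map_inf _ _ _ hinj, Subgroup.card_map_of_injective hinj]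
  have hst : st T = Nat.card (Subgroup.normalizer ((rootP : Subgroup PG) : Set PG) ⊓ H₁ : Subgroup PG) := by
    rw [st, hTx, hc, normalizer_map_conj, hH, ← Subgroup.map_inf _ _ _ hinj, Subgroup.card_map_of_injective hinj]
  have hcard : Nat.card H = Nat.card H₁ := by rw [hH, Subgroup.card_map_of_injective hinj]
  have e : H ≃* H₁ := (MulEquiv.subgroupCongr hH).trans (H₁.equivMapOfInjective f hinj).symm
  obtain ⟨K, i1, i2, m, h1, h2, ⟨φ, ι, hφ⟩, h3⟩ := sub_psl p H₁ (ha ▸ one_lt_am T)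
    (by rw [← ha, ← hst, ← hcard, ← hN, card_orbit_mul])
  refine ⟨K, i1, i2, m, h1.trans ha.symm, h2, ⟨φ * MulAut.conj c⁻¹, ι, fun y hy => ?_⟩, ?_⟩
  · rw [hH] at hy
    obtain ⟨y', hy', rfl⟩ := hy
    have e : (φ * MulAut.conj c⁻¹) (f y') = φ y' := by simp [f, mul_assoc]
    rw [e]
    exact hφ y' hy'
  rcases h3 with ⟨⟨e'⟩⟩ | ⟨⟨e'⟩, h4, h5⟩
  exacts [Or.inl ⟨e.trans e'⟩, Or.inr ⟨⟨e.trans e'⟩, h4, h5⟩]

end Cfsg.Agent.Classical.Dickson2
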