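import Mathlib
import Cfsg.Agent.Classical.Dickson2.Arith
import Cfsg.Agent.Classical.Dickson2.Identify
import Cfsg.Agent.Classical.Dickson2.Subfield

/-!
Dickson's classification of the subgroups of PSL(2,q).
-/

set_option autoImplicit false

namespace Cfsg.Agent.Classical.Dickson2

open Matrix Cfsg.Agent.SL2Class
open scoped MatrixGroups

variable {F : Type*} [Field F] [Fintype F]

local notation "PG" => Matrix.ProjectiveSpecialLinearGroup (Fin 2) F

/-- A subgroup isomorphic to PSL(2) or PGL(2) over a subfield. -/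
def SubCase (p : ℕ) (H : Subgroup (Matrix.ProjectiveSpecialLinearGroup (Fin 2) F)) : Prop :=
  ∃ (K : Type) (_ : Field K) (_ : Fintype K) (m : ℕ),
    Fintype.card K ^ m = Fintype.card F ∧ 3 ≤ Fintype.card K ∧
    (∃ (φ : MulAut (Matrix.ProjectiveSpecialLinearGroup (Fin 2) F)) (ι : K →+* F), ∀ y ∈ H,
      ProjectiveSpecialLinearGroup.toPGL (φ y) ∈ (SubfieldPSL.pglMap ι).range) ∧
    (∀ x ∈ H, x ^ p ≠ 1 → orderOf x ≤ Fintype.card K + 1) ∧
    (Nonempty (H ≃* Matrix.ProjectiveSpecialLinearGroup (Fin 2) K) ∨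
      (Nonempty (H ≃* Matrix.ProjGenLinGroup (Fin 2) K) ∧ Odd (Fintype.card F) ∧ Even m))

variable (p : ℕ) [Fact p.Prime] [CharP F p]

variable {H : Subgroup (Matrix.ProjectiveSpecialLinearGroup (Fin 2) F)}

theorem mk_eq_iff {T T' : Mem H} :
    (Quotient.mk'' T : Cls H) = Quotient.mk'' T' ↔ T ∈ MulAction.orbit H T' := Quotient.eq''

theorem out_mem_orbit (T : Mem H) : Quotient.out (Quotient.mk'' T : Cls H) ∈ MulAction.orbit H T :=
  mk_eq_iff.1 (Quotient.out_eq' _)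

theorem classify_strong (H : Subgroup PG) :
    (∃ x : PG, x ^ p ≠ 1 ∧ H ≤ Subgroup.normalizer (tor x : Set PG)) ∨
    (∃ x : PG, x ≠ 1 ∧ x ^ p = 1 ∧ H ≤ Subgroup.normalizer (tor x : Set PG)) ∨
    (Nonempty (H ≃* alternatingGroup (Fin 4)) ∧ ¬ p ∣ Nat.card H) ∨
    (Nonempty (H ≃* Equiv.Perm (Fin 4)) ∧ ¬ p ∣ Nat.card H) ∨
    (Nonempty (H ≃* alternatingGroup (Fin 5)) ∧ (¬ p ∣ Nat.card H ∨ p = 3)) ∨ SubCase p H := by
  classical
  haveI : Fintype (Cls H) := Fintype.ofFinite _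
  have hid := class_identity (H := H)
  have semi : ∀ T : Mem H, ¬ Uni p T → st T = Nat.card H →
      ∃ x : PG, x ^ p ≠ 1 ∧ H ≤ Subgroup.normalizer (tor x : Set PG) := fun T hT h => by
    obtain ⟨x, -, hx, hTx⟩ := semis_rep p hT
    exact ⟨x, hx, hTx ▸ le_normalizer_of_st h⟩
  have orbit4 : ∀ T : Mem H, st T * 4 = Nat.card H → Nat.card (MulAction.orbit H T) = 4 := fun T h =>
    Nat.eq_of_mul_eq_mul_right (st_pos T) (by rw [card_orbit_mul, ← h, mul_comm])
  by_cases hp : p ∣ Nat.card H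
  · obtain ⟨T, hT⟩ := exists_uni p hp
    obtain ⟨k, hk, hks, hk1⟩ := uni_data p hT
    obtain ⟨j, hj⟩ := uni_orbit_mod p hT
    set N := Nat.card (MulAction.orbit H T)
    have hg : Nat.card H = am T * k * N := by rw [← hk, mul_comm, card_orbit_mul]
    rcases Nat.lt_or_ge N 2 with hN | hN
    · right; left
      obtain ⟨x, -, hx1, hxp, hTx⟩ := uni_rep p hT
      refine ⟨x, hx1, hxp, hTx ▸ le_normalizer_of_st ?_⟩
      rw [hg, show N = 1 by omega, mul_one, hk]
    set ω0 : Cls H := Quotient.mk'' T with hω0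
    have hne : ∀ ω : Cls H, ω ≠ ω0 → ¬ Uni p (Quotient.out ω) := fun ω hω hu => hω (by
      rw [← Quotient.out_eq' ω, hω0, mk_eq_iff]
      exact uni_orbit p hT hu)
    have hk0 : 1 ≤ k := Nat.pos_of_ne_zero fun e => by
      rw [e, mul_zero, zero_mul] at hg
      exact Nat.card_pos.ne' hg
    have he : (1 : ℚ) - 1 / Nat.card H = ((am T : ℚ) - 1) / (am T * k) +
        ∑ ω : {ω : Cls H // ω ≠ ω0}, ((am (Quotient.out ω.1) : ℚ) - 1) / st (Quotient.out ω.1) := by
      rw [hid, ← Finset.add_sum_erase _ _ (Finset.mem_univ ω0), am_eq_of_mem_orbit (out_mem_orbit T),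
        st_eq_of_mem_orbit (out_mem_orbit T), hk, Nat.cast_mul]
      congr 1
      exact Finset.sum_subtype _ (fun ω => by simp) _
    rcases arith_dvd (one_lt_am T) hk0 hks hN ⟨j, hj⟩ hg (fun ω : {ω : Cls H // ω ≠ ω0} => am (Quotient.out ω.1))
      (fun ω => st (Quotient.out ω.1)) (fun ω => one_lt_am _) (fun ω => (semis_am p (hne _ ω.2)).2)
      (fun hk2 => by
        obtain ⟨T', hT', hk'⟩ := hk1 hk2
        refine ⟨⟨Quotient.mk'' T', fun e => hT' ?_⟩, ?_⟩
        · obtain ⟨c, hc⟩ := mk_eq_iff.1 e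
          exact hc ▸ (uni_smul p).2 hT
        · rw [am_eq_of_mem_orbit (out_mem_orbit T'), hk'])
      he with ⟨ω, hω⟩ | ⟨hN', hs3, hbound⟩ | ⟨h60, hs, hk', i, l, hil, hall, hi, hl⟩
    · exact Or.inl (semi _ (hne _ ω.2) hω)
    · iterate 5 right
      obtain ⟨K, i1, i2, m, h1, h2, hemb, h3⟩ := sub_main p hT hN'
      refine ⟨K, i1, i2, m, h2, h1 ▸ hs3, hemb, fun x hx hxp => ?_, h3⟩
      have hx1 := ne_one_of_semis p hxp
      have hns : ¬ Uni p (memOf x hx hx1) := fun hu => hxp (hu x (mem_tor x))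
      have hω : (Quotient.mk'' (memOf x hx hx1) : Cls H) ≠ ω0 := fun e => by
        obtain ⟨c, hc⟩ := mk_eq_iff.1 e
        exact hns (hc ▸ (uni_smul p).2 hT)
      have h4 := hbound ⟨_, hω⟩
      rw [am_eq_of_mem_orbit (out_mem_orbit _)] at h4
      rw [h1]
      exact (Nat.le_of_dvd Nat.card_pos (Subgroup.orderOf_dvd_natCard _
        (show x ∈ (tor x ⊓ H : Subgroup PG) from ⟨mem_tor x, hx⟩))).trans h4
    · iterate 4 right
      left
      refine ⟨equiv_five ⟨h60, i.1, ω0, l.1, i.2, fun e => hil (Subtype.ext e), l.2.symm, fun ω => ?_, hi, ⟨?_, ?_⟩, hl⟩, Or.inr ?_⟩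
      · by_cases hω : ω = ω0
        · exact Or.inr (Or.inl hω)
        · rcases hall ⟨ω, hω⟩ with e | e
          exacts [Or.inl (congrArg Subtype.val e), Or.inr (Or.inr (congrArg Subtype.val e))]
      · rw [am_eq_of_mem_orbit (out_mem_orbit T), hs]
      · rw [st_eq_of_mem_orbit (out_mem_orbit T), hk, hs, hk']
      · have hd : p ∣ am T := by
          obtain ⟨x, hx, hx1, hxp, hTx⟩ := uni_rep p hT
          rw [← orderOf_eq_prime hxp hx1]
          exact Subgroup.orderOf_dvd_natCard (T.1 ⊓ H) ⟨hTx ▸ mem_tor x, hx⟩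
        rw [hs] at hd
        exact (Nat.prime_dvd_prime_iff_eq Fact.out Nat.prime_three).1 hd
  · have hns := not_uni_of_not_dvd p (H := H) hp
    rcases arith_coprime Nat.card_pos (fun ω : Cls H => am (Quotient.out ω)) (fun ω => st (Quotient.out ω))
      (fun ω => one_lt_am _) (fun ω => (semis_am p (hns _)).2) (fun ω => Nat.le_of_dvd Nat.card_pos (st_dvd _)) hid with
      h | ⟨ω, h⟩ | ⟨h, ω, ha, hs⟩ | ⟨h, i, j, hij, hi, hj⟩ | ⟨h, ω, ha, hs⟩ | ⟨h, hdata⟩
    · obtain ⟨x, h1, h2, -⟩ := exists_eq_tor_rootP (F := F) p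
      refine Or.inr (Or.inl ⟨x, h1, h2, ?_⟩)
      rw [Subgroup.card_eq_one.1 h]
      exact bot_le
    · exact Or.inl (semi _ (hns _) h)
    · exact Or.inr (Or.inr (Or.inl ⟨(equiv_four p (hns _) ha (orbit4 _ (by rw [hs, h]))).1 h, hp⟩))
    · exfalso
      refine hij ?_
      rw [← Quotient.out_eq' i, ← Quotient.out_eq' j, mk_eq_iff]
      exact orbit_of_three h hj hi
    · exact Or.inr (Or.inr (Or.inr (Or.inl ⟨(equiv_four p (hns _) ha (orbit4 _ (by rw [hs, h]))).2 h, hp⟩)))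
    · iterate 4 right
      left
      exact ⟨equiv_five ⟨h, hdata⟩, Or.inl hp⟩

theorem classify (H : Subgroup PG) :
    (∃ x : PG, x ^ p ≠ 1 ∧ H ≤ Subgroup.normalizer (tor x : Set PG)) ∨
    (∃ x : PG, x ≠ 1 ∧ x ^ p = 1 ∧ H ≤ Subgroup.normalizer (tor x : Set PG)) ∨
    Nonempty (H ≃* alternatingGroup (Fin 4)) ∨ Nonempty (H ≃* Equiv.Perm (Fin 4)) ∨
    Nonempty (H ≃* alternatingGroup (Fin 5)) ∨ SubCase p H :=
  (classify_strong p H).imp id (Or.imp id (Or.imp And.left (Or.imp And.left (Or.imp And.left id))))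

end Cfsg.Agent.Classical.Dickson2
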