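import Mathlib
import Cfsg.Agent.Classical.Dickson2.Main
import Cfsg.Agent.Classical.SmallPSL
import Cfsg.Agent.Classical.A5InPSL

/-!
Orders, solvability and element orders in the subgroups of PSL(2,q).
-/

set_option autoImplicit false

namespace Cfsg.Agent.Classical.Dickson2

open Matrix Cfsg.Agent.SL2Class
open scoped MatrixGroups commutatorElement

variable {F : Type*} [Field F] [Fintype F]

local notation "PG" => Matrix.ProjectiveSpecialLinearGroup (Fin 2) F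

theorem card_pg : Nat.gcd 2 (Fintype.card F - 1) * Nat.card PG =
    Fintype.card F * (Fintype.card F ^ 2 - 1) := A5InPSL.card_psl

theorem d_cases : (Nat.gcd 2 (Fintype.card F - 1) = 1 ∧ Fintype.card F % 2 = 0) ∨
    (Nat.gcd 2 (Fintype.card F - 1) = 2 ∧ Fintype.card F % 2 = 1) := by
  have := Fintype.one_lt_card (α := F)
  rcases Nat.mod_two_eq_zero_or_one (Fintype.card F) with h | h
  · exact Or.inl ⟨Nat.prime_two.coprime_iff_not_dvd.2 (by omega), h⟩
  · exact Or.inr ⟨Nat.gcd_eq_left (by omega), h⟩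

theorem card_pgl_two (K : Type*) [Field K] [Fintype K] :
    Nat.card (Matrix.ProjGenLinGroup (Fin 2) K) = Fintype.card K * (Fintype.card K ^ 2 - 1) := by
  classical
  rw [Classical.card_pgl, Classical.card_sl2]

theorem two_q (s : ℕ) : s * (s ^ 2 - 1) = s * ((s - 1) * (s + 1)) := by
  rw [mul_comm (s - 1), ← Nat.sq_sub_sq, one_pow]

theorem mul_div_gcd {a b c : ℕ} (hc : 0 < c) (h : a * c = b) : a = b / c := by
  rw [← h, Nat.mul_div_cancel _ hc]

theorem solvable_of_comm_le {G : Type*} [Group G] (H S : Subgroup G)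
    (hS : ∀ a ∈ S, ∀ b ∈ S, a * b = b * a)
    (hc : ∀ y ∈ H, ∀ z ∈ H, y * z * y⁻¹ * z⁻¹ ∈ S) : Group.IsSolvable H := by
  refine ⟨⟨2, ?_⟩⟩
  have h1 : derivedSeries H 1 ≤ S.subgroupOf H := by
    rw [derivedSeries_one, commutator_def, Subgroup.commutator_le]
    intro y _ z _
    rw [Subgroup.mem_subgroupOf, commutatorElement_def]
    exact hc y y.2 z z.2
  refine le_bot_iff.mp ((Subgroup.commutator_mono h1 h1).trans (Subgroup.commutator_le.mpr ?_))
  intro a ha b hb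
  rw [Subgroup.mem_bot, commutatorElement_eq_one_iff_mul_comm]
  exact Subtype.ext (hS _ ha _ hb)

variable (p : ℕ) [Fact p.Prime] [CharP F p]

theorem solvable_toral {H : Subgroup PG} {x : PG} (hx : x ^ p ≠ 1)
    (hH : H ≤ Subgroup.normalizer (tor x : Set PG)) : Group.IsSolvable H := by
  refine solvable_of_comm_le H (tor x) (fun a ha b hb => tor_comm (ne_one_of_semis p hx) ha hb) ?_
  intro y hy z hz
  by_cases hyT : y ∈ tor x <;> by_cases hzT : z ∈ tor x
  · exact mul_mem (mul_mem (mul_mem hyT hzT) (inv_mem hyT)) (inv_mem hzT)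
  · obtain ⟨-, hi⟩ := inverts_of_not_mem p hx (hH hz) hzT
    have e := hi _ (inv_mem hyT)
    rw [inv_inv] at e
    rw [show y * z * y⁻¹ * z⁻¹ = y * (z * y⁻¹ * z⁻¹) by group, e]
    exact mul_mem hyT hyT
  · obtain ⟨-, hi⟩ := inverts_of_not_mem p hx (hH hy) hyT
    rw [hi z hzT]
    exact mul_mem (inv_mem hzT) (inv_mem hzT)
  · obtain ⟨w, -, -, -, -, hc⟩ := normalizer_semis p hx
    have hyz : y⁻¹ * z ∈ tor x := by
      have := mul_mem (inv_mem ((hc y (hH hy)).resolve_left hyT)) ((hc z (hH hz)).resolve_left hzT)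
      simpa [mul_assoc] using this
    have hy2 := (inverts_of_not_mem p hx (hH hy) hyT).1
    have hz2 := (inverts_of_not_mem p hx (hH hz) hzT).1
    have e1 : y⁻¹ = y := inv_eq_of_mul_eq_one_right hy2
    have e2 : z⁻¹ = z := inv_eq_of_mul_eq_one_right hz2
    rw [e1] at hyz
    rw [e1, e2, mul_assoc (y * z)]
    exact mul_mem hyz hyz

theorem solvable_borel {H : Subgroup PG} {x : PG} (hx1 : x ≠ 1) (hx : x ^ p = 1)
    (hH : H ≤ Subgroup.normalizer (tor x : Set PG)) : Group.IsSolvable H :=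
  solvable_of_comm_le H (tor x) (fun _ ha _ hb => tor_comm hx1 ha hb)
    fun _ hy _ hz => borel_comm p hx1 hx (hH hy) (hH hz)

omit [Fact p.Prime] [CharP F p] in
theorem isSimple_pg (h : 4 ≤ Fintype.card F) : IsSimpleGroup PG :=
  isSimpleGroup_psl (ι := Fin 2) (F := F) (Or.inr ⟨by simp, Small.exists_sq_ne_one h⟩)

omit [Fact p.Prime] [CharP F p] in
theorem not_comm_pg : ∃ a b : PG, a * b ≠ b * a := by
  obtain ⟨r, hr⟩ := CharP.exists F
  haveI : Fact r.Prime := by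
    obtain ⟨n, hp, -⟩ := FiniteField.card F r
    exact ⟨hp⟩
  obtain ⟨u, h1, h2, h3⟩ := exists_eq_tor_rootP (F := F) r
  refine ⟨u, proj ⟨!![0, -1; 1, 0], by simp [det_fin_two_of]⟩, fun e => ?_⟩
  have h4 := centralizer_unip r h1 h2 e.symm
  rw [← h3] at h4
  have h5 := proj_mem_normalizer_rootP.1 (Subgroup.le_normalizer h4)
  simp at h5

omit [Fact p.Prime] [CharP F p] in
theorem not_solvable_psl (h : 4 ≤ Fintype.card F) : ¬ Group.IsSolvable PG := fun hs => by
  haveI := isSimple_pg (F := F) h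
  haveI := hs
  obtain ⟨a, b, hab⟩ := not_comm_pg (F := F)
  rcases (Subgroup.commutator_normal (⊤ : Subgroup PG) ⊤).eq_bot_or_eq_top with hb | ht
  · refine hab ?_
    have := (Subgroup.commutator_le.1 hb.le) a (Subgroup.mem_top _) b (Subgroup.mem_top _)
    exact commutatorElement_eq_one_iff_mul_comm.1 (Subgroup.mem_bot.1 this)
  · exact (IsSolvable.commutator_lt_top_of_nontrivial PG).ne (by rw [commutator_def]; exact ht)

theorem perm_four_facts :
    (∀ σ : Equiv.Perm (Fin 4), σ = 1 ∨ σ ^ 2 = 1 ∨ σ ^ 3 = 1 ∨ σ ^ 4 = 1) ∧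
    (∀ a b : Equiv.Perm (Fin 4), Equiv.Perm.sign a = 1 → Equiv.Perm.sign b = 1 → b * b = 1 → b ≠ 1 →
      a ^ 3 = 1 → b * a * b⁻¹ = a⁻¹ → a = 1) := by
  refine ⟨by decide +kernel, ?_⟩
  have h : ∀ a b : Equiv.Perm (Fin 4), (Equiv.Perm.sign a = 1 ∧ Equiv.Perm.sign b = 1 ∧ b * b = 1 ∧ b ≠ 1 ∧
      a ^ 3 = 1 ∧ b * a * b⁻¹ = a⁻¹) → a = 1 := by decide +kernel
  exact fun a b h1 h2 h3 h4 h5 h6 => h a b ⟨h1, h2, h3, h4, h5, h6⟩

theorem perm_five_facts :
    ∀ σ : Equiv.Perm (Fin 5), Equiv.Perm.sign σ = 1 → σ = 1 ∨ σ ^ 2 = 1 ∨ σ ^ 3 = 1 ∨ σ ^ 5 = 1 := by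
  decide +kernel

theorem le_of_pow_cases {G : Type*} [Group G] {x : G} {k : ℕ} (hk : 0 < k) (h : x ^ k = 1) : orderOf x ≤ k :=
  Nat.le_of_dvd hk (orderOf_dvd_of_pow_eq_one h)

theorem orderOf_sym_four (σ : Equiv.Perm (Fin 4)) : orderOf σ ≤ 4 := by
  rcases perm_four_facts.1 σ with h | h | h | h
  · rw [h, orderOf_one]; norm_num
  · exact (le_of_pow_cases two_pos h).trans (by norm_num)
  · exact (le_of_pow_cases three_pos h).trans (by norm_num)
  · exact le_of_pow_cases four_pos h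

theorem orderOf_alt_four (σ : alternatingGroup (Fin 4)) : orderOf σ ≤ 4 := by
  rw [← Subgroup.orderOf_coe]
  exact orderOf_sym_four _

theorem orderOf_alt_five (σ : alternatingGroup (Fin 5)) : orderOf σ ≤ 5 := by
  rw [← Subgroup.orderOf_coe]
  rcases perm_five_facts σ (Equiv.Perm.mem_alternatingGroup.1 σ.2) with h | h | h | h
  · rw [h, orderOf_one]; norm_num
  · exact (le_of_pow_cases two_pos h).trans (by norm_num)
  · exact (le_of_pow_cases three_pos h).trans (by norm_num)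
  · exact le_of_pow_cases (by norm_num) h

theorem orderOf_equiv {A : Type*} [Group A] {H : Subgroup PG} (e : H ≃* A) {x : PG} (hx : x ∈ H) :
    orderOf (e ⟨x, hx⟩) = orderOf x := by
  rw [← Subgroup.orderOf_mk x hx]
  exact orderOf_injective e.toMonoidHom e.injective _

theorem card_a4 : Nat.card (alternatingGroup (Fin 4)) = 12 := by
  rw [Nat.card_eq_fintype_card, ← Nat.card_eq_fintype_card, nat_card_alternatingGroup, Nat.card_eq_fintype_card,
    Fintype.card_fin]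
  rfl

theorem card_a5 : Nat.card (alternatingGroup (Fin 5)) = 60 := by
  rw [nat_card_alternatingGroup, Nat.card_eq_fintype_card, Fintype.card_fin]
  rfl

theorem card_s4 : Nat.card (Equiv.Perm (Fin 4)) = 24 := by
  rw [Nat.card_perm, Nat.card_fin]
  rfl

theorem no_dihedral_in_a4 {H : Subgroup PG} (e : H ≃* alternatingGroup (Fin 4)) {a b : PG} (ha : a ∈ H)
    (hb : b ∈ H) (hb2 : b * b = 1) (hb1 : b ≠ 1) (ha3 : a ^ 3 = 1) (hconj : b * a * b⁻¹ = a⁻¹) : a = 1 := by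
  have h := perm_four_facts.2 (e ⟨a, ha⟩ : Equiv.Perm (Fin 4)) (e ⟨b, hb⟩ : Equiv.Perm (Fin 4))
    (Equiv.Perm.mem_alternatingGroup.1 (e ⟨a, ha⟩).2) (Equiv.Perm.mem_alternatingGroup.1 (e ⟨b, hb⟩).2)
    (by rw [← Subgroup.coe_mul, ← map_mul, show (⟨b, hb⟩ : H) * ⟨b, hb⟩ = 1 from Subtype.ext hb2, map_one]; rfl)
    (fun h => hb1 (by
      have h' : e ⟨b, hb⟩ = 1 := Subtype.ext h
      exact congrArg Subtype.val (e.map_eq_one_iff.1 h')))
    (by rw [← Subgroup.coe_pow, ← map_pow, show (⟨a, ha⟩ : H) ^ 3 = 1 from Subtype.ext ha3, map_one]; rfl)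
    (by rw [← Subgroup.coe_inv, ← Subgroup.coe_mul, ← Subgroup.coe_inv, ← Subgroup.coe_mul, ← map_inv, ← map_inv,
      ← map_mul, ← map_mul,
      show (⟨b, hb⟩ : H) * ⟨a, ha⟩ * (⟨b, hb⟩ : H)⁻¹ = (⟨a, ha⟩ : H)⁻¹ from Subtype.ext hconj])
  exact congrArg Subtype.val (e.map_eq_one_iff.1 (Subtype.ext h : e ⟨a, ha⟩ = 1))

/-- The orders in the subfield case. -/
theorem sub_card {H : Subgroup PG} (h : SubCase p H) :
    ∃ s m : ℕ, s ^ m = Fintype.card F ∧ 3 ≤ s ∧ (∀ x ∈ H, x ^ p ≠ 1 → orderOf x ≤ s + 1) ∧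
      (Nat.card H * Nat.gcd 2 (s - 1) = s * (s ^ 2 - 1) ∨
        (Nat.card H = s * (s ^ 2 - 1) ∧ Odd (Fintype.card F) ∧ Even m)) ∧ (4 ≤ s → ¬ Group.IsSolvable H) := by
  obtain ⟨K, iK, iF, m, hm, hs, -, hord, hiso⟩ := h
  refine ⟨Fintype.card K, m, hm, hs, hord, ?_, fun h4 hsol => ?_⟩
  · rcases hiso with ⟨⟨e⟩⟩ | ⟨⟨e⟩, ho, he⟩
    · left
      rw [Nat.card_congr e.toEquiv, mul_comm]
      exact A5InPSL.card_psl
    · exact Or.inr ⟨by rw [Nat.card_congr e.toEquiv, card_pgl_two], ho, he⟩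
  · rcases hiso with ⟨⟨e⟩⟩ | ⟨⟨e⟩, -⟩
    · exact not_solvable_psl h4 (solvable_of_surjective (f := e.toMonoidHom) e.surjective)
    · haveI : Group.IsSolvable (Matrix.ProjGenLinGroup (Fin 2) K) :=
        solvable_of_surjective (f := e.toMonoidHom) e.surjective
      exact not_solvable_psl h4 (solvable_of_solvable_injective
        (ProjectiveSpecialLinearGroup.toPGL_injective (n := Fin 2) (R := K)))

theorem sub_card_le {H : Subgroup PG} {s m : ℕ}
    (h : Nat.card H * Nat.gcd 2 (s - 1) = s * (s ^ 2 - 1) ∨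
      (Nat.card H = s * (s ^ 2 - 1) ∧ Odd (Fintype.card F) ∧ Even m)) :
    Nat.card H ≤ s * (s ^ 2 - 1) := by
  rcases h with h | ⟨h, -⟩
  · rw [← h]
    exact Nat.le_mul_of_pos_right _ (Nat.gcd_pos_of_pos_left _ two_pos)
  · exact h.le

theorem sub_proper {H : Subgroup PG} {s m : ℕ} (hm : s ^ m = Fintype.card F)
    (h : Nat.card H * Nat.gcd 2 (s - 1) = s * (s ^ 2 - 1) ∨
      (Nat.card H = s * (s ^ 2 - 1) ∧ Odd (Fintype.card F) ∧ Even m)) (htop : H ≠ ⊤) : 2 ≤ m := by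
  by_contra hc
  interval_cases m
  · have := Fintype.one_lt_card (α := F)
    simp at hm
    omega
  · rw [pow_one] at hm
    subst hm
    rcases h with h | ⟨-, -, he⟩
    · refine htop (Subgroup.eq_top_of_card_eq _ ?_)
      rw [← card_pg, mul_comm (Nat.gcd 2 _)] at h
      exact Nat.eq_of_mul_eq_mul_right (Nat.gcd_pos_of_pos_left _ two_pos) h
    · exact Nat.not_even_one he

end Cfsg.Agent.Classical.Dickson2
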