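import Mathlib
import Cfsg.Agent.Classical.Dickson2.Tools

/-!
Maximality of the normalisers of the tori.
-/

set_option autoImplicit false

namespace Cfsg.Agent.Classical.Dickson2

open Matrix Cfsg.Agent.SL2Class
open scoped MatrixGroups

variable {F : Type*} [Field F] [Fintype F]

local notation "PG" => Matrix.ProjectiveSpecialLinearGroup (Fin 2) F

variable (p : ℕ) [Fact p.Prime] [CharP F p]

theorem semis_of_tr {g : Matrix.SpecialLinearGroup (Fin 2) F} (ht : tr g * tr g ≠ 4) : proj g ^ p ≠ 1 :=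
  fun e => ht ((pow_p_iff p (nonScalar_of_sq_ne ht)).1 e)

theorem exists_elliptic_tor : ∃ x : PG, x ^ p ≠ 1 ∧
    Nat.card (tor x) * Nat.gcd 2 (Fintype.card F - 1) = Fintype.card F + 1 := by
  obtain ⟨t, ht⟩ := exists_noRoot (F := F)
  have h4 : tr (comp t) * tr (comp t) ≠ 4 := by
    rw [tr_comp]
    by_cases h2 : (2 : F) = 0
    · intro e
      refine ht 1 ?_
      rw [(sq_eq_four_iff_even h2 t).1 e]
      linear_combination h2
    · exact sq_ne_four_of_noRoot h2 ht
  refine ⟨proj (comp t), semis_of_tr p h4, ?_⟩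
  rw [tor_proj, card_torus]
  exact card_cent_noRoot (by rwa [tr_comp]) (nonScalar_comp t)

theorem exists_split_tor (hq : 4 ≤ Fintype.card F) : ∃ x : PG, x ^ p ≠ 1 ∧
    Nat.card (tor x) * Nat.gcd 2 (Fintype.card F - 1) = Fintype.card F - 1 := by
  obtain ⟨t, r, hr, h4⟩ := exists_split (F := F) hq
  have h4' : tr (comp t) * tr (comp t) ≠ 4 := by rwa [tr_comp]
  refine ⟨proj (comp t), semis_of_tr p h4', ?_⟩
  rw [tor_proj, card_torus]
  exact card_cent_split (r := r) (by rwa [tr_comp]) h4'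

theorem normalizer_dihedral {x : PG} (hx : x ^ p ≠ 1) :
    Nonempty (Subgroup.normalizer (tor x : Set PG) ≃* DihedralGroup (Nat.card (tor x))) := by
  obtain ⟨w, hw, -, hwN, -, -⟩ := normalizer_semis p hx
  rcases cyclic_or_dihedral p hx (le_refl (Subgroup.normalizer (tor x : Set PG))) with
    ⟨hle, -⟩ | ⟨-, k, -, -, ⟨e⟩, hk⟩
  · exact absurd (hle hwN) hw
  · rw [card_normalizer_semis p hx] at hk
    rw [show Nat.card (tor x) = k by omega]
    exact ⟨e⟩

theorem exists_generator_tor {x : PG} (hx : x ^ p ≠ 1) :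
    ∃ t ∈ tor x, orderOf t = Nat.card (tor x) := by
  haveI := isCyclic_tor p hx
  obtain ⟨⟨t, ht⟩, hgen⟩ := IsCyclic.exists_generator (α := tor x)
  refine ⟨t, ht, ?_⟩
  rw [← orderOf_eq_card_of_forall_mem_zpowers hgen, Subgroup.orderOf_mk]

theorem overgroup_toral (hq : 4 ≤ Fintype.card F) (h9 : Fintype.card F ≠ 9) {x : PG} (hx : x ^ p ≠ 1)
    (hn : 3 ≤ Nat.card (tor x)) {M : Subgroup PG} (hle : Subgroup.normalizer (tor x : Set PG) ≤ M)
    (hne : M ≠ Subgroup.normalizer (tor x : Set PG)) (htop : M ≠ ⊤) :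
    (Nonempty (M ≃* alternatingGroup (Fin 4)) ∧ Nat.card (tor x) ≤ 4) ∨
      (Nonempty (M ≃* Equiv.Perm (Fin 4)) ∧ Nat.card (tor x) ≤ 4) ∨
      (Nonempty (M ≃* alternatingGroup (Fin 5)) ∧ Nat.card (tor x) ≤ 5) := by
  obtain ⟨t, ht, hord⟩ := exists_generator_tor p hx
  have htM : t ∈ M := hle (Subgroup.le_normalizer ht)
  have hd : Nat.gcd 2 (Fintype.card F - 1) ≤ 2 := Nat.gcd_le_left _ two_pos
  have hlow : Fintype.card F - 1 ≤ Nat.card (tor x) * Nat.gcd 2 (Fintype.card F - 1) := by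
    rcases card_tor_semis p hx with e | e <;> omega
  rcases classify p M with ⟨y, hy, hM⟩ | ⟨y, hy1, hy, hM⟩ | ⟨⟨e⟩⟩ | ⟨⟨e⟩⟩ | ⟨⟨e⟩⟩ | h
  · exfalso
    have h1 := Subgroup.card_le_of_le hM
    rw [card_normalizer_semis p hy] at h1
    obtain ⟨c, hc⟩ := Subgroup.card_dvd_of_le hle
    rw [card_normalizer_semis p hx] at hc
    have hc2 : 2 ≤ c := by
      by_contra hc2
      have := Nat.mul_le_mul_left (2 * Nat.card (tor x)) (show c ≤ 1 by omega)
      exact hne (Subgroup.eq_of_le_of_card_ge hle (by rw [card_normalizer_semis p hx, hc]; omega)).symm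
    have h2 : 4 * Nat.card (tor x) ≤ 2 * Nat.card (tor y) := by
      refine le_trans ?_ h1
      rw [hc]
      calc 4 * Nat.card (tor x) = 2 * Nat.card (tor x) * 2 := by ring
        _ ≤ _ := Nat.mul_le_mul_left _ hc2
    have h3 : 2 * Nat.card (tor x) * Nat.gcd 2 (Fintype.card F - 1) ≤
        Nat.card (tor y) * Nat.gcd 2 (Fintype.card F - 1) := Nat.mul_le_mul_right _ (by omega)
    rw [mul_assoc] at h3
    rcases card_tor_semis p hy with e | e <;> omega
  · exfalso
    obtain ⟨w, hwn, -, hwN, hinv, -⟩ := normalizer_semis p hx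
    have h1 := borel_comm p hy1 hy (hM (hle hwN)) (hM htM)
    rw [hinv t ht] at h1
    have h2 := unip_of_mem p hy1 hy h1
    have h3 : t⁻¹ * t⁻¹ = 1 := by
      by_contra h
      exact semis_of_mem p hx (mul_mem (inv_mem ht) (inv_mem ht)) h h2
    have h4 : orderOf t ∣ 2 := by
      rw [← orderOf_inv]
      exact orderOf_dvd_of_pow_eq_one (by rw [pow_two, h3])
    have := Nat.le_of_dvd two_pos h4
    omega
  · refine Or.inl ⟨⟨e⟩, ?_⟩
    rw [← hord, ← orderOf_equiv e htM]
    exact orderOf_alt_four _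
  · refine Or.inr (Or.inl ⟨⟨e⟩, ?_⟩)
    rw [← hord, ← orderOf_equiv e htM]
    exact orderOf_sym_four _
  · refine Or.inr (Or.inr ⟨⟨e⟩, ?_⟩)
    rw [← hord, ← orderOf_equiv e htM]
    exact orderOf_alt_five _
  · exfalso
    obtain ⟨s, m, hm, hs, hbound, hcard, -⟩ := sub_card p h
    have hm2 := sub_proper hm hcard htop
    have ht1 : t ≠ 1 := fun h => by rw [h, orderOf_one] at hord; omega
    have h1 := hbound t htM (semis_of_mem p hx ht ht1)
    rw [hord] at h1
    have h2 : Nat.card (tor x) * Nat.gcd 2 (Fintype.card F - 1) ≤ (s + 1) * 2 := Nat.mul_le_mul h1 hd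
    have h3 : s ^ 2 ≤ Fintype.card F := hm ▸ Nat.pow_le_pow_right (by omega) hm2
    have hq2 : Fintype.card F ≤ (s + 1) * 2 + 1 := by omega
    have hs3 : s = 3 := by nlinarith
    subst hs3
    rcases Nat.lt_or_ge m 3 with h | h
    · obtain rfl : m = 2 := by omega
      exact h9 hm.symm
    · have : 3 ^ 3 ≤ Fintype.card F := hm ▸ Nat.pow_le_pow_right (by norm_num) h
      omega

theorem isCoatom_toral (hq : 4 ≤ Fintype.card F) (h9 : Fintype.card F ≠ 9) {x : PG} (hx : x ^ p ≠ 1)
    (hn : 6 ≤ Nat.card (tor x) ∨ (3 ≤ Nat.card (tor x) ∧ (Fintype.card F = 4 ∨ Fintype.card F = 5))) :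
    IsCoatom (Subgroup.normalizer (tor x : Set PG)) := by
  have hn3 : 3 ≤ Nat.card (tor x) := by omega
  have hG := card_pg (F := F)
  have hcard := card_normalizer_semis p hx
  refine ⟨fun e => ?_, fun M hM => ?_⟩
  · rw [e, Subgroup.card_top] at hcard
    have h1 : Nat.card (tor x) * Nat.gcd 2 (Fintype.card F - 1) ≤ Fintype.card F + 1 := by
      rcases card_tor_semis p hx with e | e <;> omega
    have h2 : Fintype.card F * (Fintype.card F ^ 2 - 1) ≤ 2 * (Fintype.card F + 1) := by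
      rw [← hG, hcard, mul_comm, mul_assoc]
      exact Nat.mul_le_mul_left _ h1
    have h3 : 4 * 4 - 1 ≤ Fintype.card F ^ 2 - 1 := Nat.sub_le_sub_right (by rw [pow_two]; exact Nat.mul_le_mul hq hq) 1
    have h4 : Fintype.card F * 15 ≤ Fintype.card F * (Fintype.card F ^ 2 - 1) := Nat.mul_le_mul_left _ h3
    omega
  · by_contra htop
    obtain ⟨hle, hne⟩ := lt_iff_le_and_ne.1 hM
    rcases overgroup_toral p hq h9 hx hn3 hle hne.symm htop with ⟨⟨e⟩, h⟩ | ⟨⟨e⟩, h⟩ | ⟨⟨e⟩, h⟩
    · obtain ⟨t, ht, hord⟩ := exists_generator_tor p hx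
      obtain ⟨w, hwn, hw2, hwN, hinv, -⟩ := normalizer_semis p hx
      have hw1 : w ≠ 1 := fun h => hwn (h ▸ one_mem _)
      have hd : Nat.card (Subgroup.normalizer (tor x : Set PG)) ∣ Nat.card M := Subgroup.card_dvd_of_le hle
      rw [hcard, Nat.card_congr e.toEquiv, card_a4] at hd
      have h3 : Nat.card (tor x) = 3 := by
        rcases hn with hn | hn
        · omega
        · by_contra h3
          have : Nat.card (tor x) = 4 := by omega
          rw [this] at hd
          norm_num at hd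
      have ht1 := no_dihedral_in_a4 e (hle (Subgroup.le_normalizer ht)) (hle hwN) hw2 hw1
        (by rw [← h3, ← hord, pow_orderOf_eq_one]) (hinv t ht)
      rw [ht1, orderOf_one] at hord
      omega
    · have hd := M.card_subgroup_dvd_card
      rw [Nat.card_congr e.toEquiv, card_s4] at hd
      rcases hn with hn | ⟨-, h4 | h5⟩
      · omega
      · rw [h4] at hG; norm_num at hG; omega
      · rw [h5] at hG; norm_num at hG; omega
    · refine htop (Subgroup.eq_top_of_card_eq _ ?_)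
      rw [Nat.card_congr e.toEquiv, card_a5]
      rcases hn with hn | ⟨-, h4 | h5⟩
      · omega
      · rw [h4] at hG; norm_num at hG; omega
      · rw [h5] at hG; norm_num at hG; omega

theorem prime_pow_not_six : Fintype.card F ≠ 6 := fun e => by
  have := FiniteField.isPrimePow_card F
  rw [e] at this
  exact absurd this (by decide)

omit [Fact p.Prime] [CharP F p] in
theorem maximal_elliptic {q : ℕ} (hF : Fintype.card F = q) (hq : q ∉ ({2, 7, 9} : Finset ℕ)) :
    ∃ H : Subgroup PG, IsCoatom H ∧ Nonempty (H ≃* DihedralGroup ((q + 1) / Nat.gcd 2 (q - 1))) := by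
  subst hF
  obtain ⟨r, hr⟩ := CharP.exists F
  haveI : Fact r.Prime := by
    obtain ⟨n, hp, -⟩ := FiniteField.card F r
    exact ⟨hp⟩
  simp only [Finset.mem_insert, Finset.mem_singleton] at hq
  have h1 := Fintype.one_lt_card (α := F)
  have h6 := prime_pow_not_six (F := F)
  obtain ⟨x, hx, hcard⟩ := exists_elliptic_tor (F := F) r
  have hdd : 0 < Nat.gcd 2 (Fintype.card F - 1) := Nat.gcd_pos_of_pos_left _ two_pos
  rw [← mul_div_gcd hdd hcard]
  refine ⟨_, ?_, normalizer_dihedral r hx⟩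
  by_cases h3 : Fintype.card F = 3
  · have hG := card_pg (F := F)
    have hcN := card_normalizer_semis r hx
    rw [h3] at hG hcard
    norm_num at hG hcard
    refine ⟨fun e => ?_, fun M hM => ?_⟩
    · rw [e, Subgroup.card_top] at hcN
      omega
    · obtain ⟨c, hc⟩ := Subgroup.card_dvd_of_le hM.le
      obtain ⟨c', hc'⟩ := M.card_subgroup_dvd_card
      rw [hcN, show Nat.card (tor x) = 2 by omega] at hc
      have hc1 : c ≠ 1 := fun h => hM.ne (Subgroup.eq_of_le_of_card_ge hM.le (by rw [hcN, hc, h]; omega))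
      have hprod : c * c' = 3 := by
        rw [hc, mul_assoc] at hc'
        omega
      refine Subgroup.eq_top_of_card_eq _ ?_
      rcases Nat.prime_three.eq_one_or_self_of_dvd c ⟨c', hprod.symm⟩ with h | h
      · exact absurd h hc1
      · rw [hc, h]; omega
  · refine isCoatom_toral r (by omega) (by omega) hx ?_
    rcases d_cases (F := F) with ⟨hd, hp⟩ | ⟨hd, hp⟩ <;> rw [hd] at hcard <;> omega

omit [Fact p.Prime] [CharP F p] in
theorem maximal_split {q : ℕ} (hF : Fintype.card F = q) (hq : q ∉ ({2, 3, 5, 7, 9, 11} : Finset ℕ)) :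
    ∃ H : Subgroup PG, IsCoatom H ∧ Nonempty (H ≃* DihedralGroup ((q - 1) / Nat.gcd 2 (q - 1))) := by
  subst hF
  obtain ⟨r, hr⟩ := CharP.exists F
  haveI : Fact r.Prime := by
    obtain ⟨n, hp, -⟩ := FiniteField.card F r
    exact ⟨hp⟩
  simp only [Finset.mem_insert, Finset.mem_singleton] at hq
  have h1 := Fintype.one_lt_card (α := F)
  have h6 := prime_pow_not_six (F := F)
  obtain ⟨x, hx, hcard⟩ := exists_split_tor (F := F) r (by omega)
  rw [← mul_div_gcd (Nat.gcd_pos_of_pos_left _ two_pos) hcard]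
  refine ⟨_, isCoatom_toral r (by omega) (by omega) hx ?_, normalizer_dihedral r hx⟩
  rcases d_cases (F := F) with ⟨hd, hp⟩ | ⟨hd, hp⟩ <;> rw [hd] at hcard <;> omega

end Cfsg.Agent.Classical.Dickson2
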