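import Mathlib
import Cfsg.Agent.Classical.Dickson2.Tools

/-!
The list of subgroups and the index bound.
-/

set_option autoImplicit false

namespace Cfsg.Agent.Classical.Dickson2

open Matrix Cfsg.Agent.SL2Class
open scoped MatrixGroups

variable {F : Type*} [Field F] [Fintype F]

local notation "PG" => Matrix.ProjectiveSpecialLinearGroup (Fin 2) F

variable (p : ℕ) [Fact p.Prime] [CharP F p]

theorem dickson_list (H : Subgroup PG) {q : ℕ} (hF : Fintype.card F = q) :
    (∃ k : ℕ, (k ∣ (q + 1) / Nat.gcd 2 (q - 1) ∨ k ∣ (q - 1) / Nat.gcd 2 (q - 1)) ∧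
      ((IsCyclic H ∧ Nat.card H = k) ∨ Nonempty (H ≃* DihedralGroup k))) ∨
    (∃ (P : Sylow p PG) (K : Subgroup PG),
      K ≤ Subgroup.normalizer ((P : Subgroup PG) : Set PG) ∧ Nonempty (H ≃* K)) ∨
    Nonempty (H ≃* alternatingGroup (Fin 4)) ∨ Nonempty (H ≃* Equiv.Perm (Fin 4)) ∨
    Nonempty (H ≃* alternatingGroup (Fin 5)) ∨
    (∃ (K : Type) (_ : Field K) (_ : Fintype K) (m : ℕ), Fintype.card K ^ m = q ∧
      (Nonempty (H ≃* Matrix.ProjectiveSpecialLinearGroup (Fin 2) K) ∨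
        Nonempty (H ≃* Matrix.ProjGenLinGroup (Fin 2) K))) := by
  subst hF
  rcases classify p H with ⟨x, hx, hH⟩ | ⟨x, hx1, hx, hH⟩ | h | h | h | ⟨K, i1, i2, m, hm, -, -, -, hiso⟩
  · left
    have hd : 0 < Nat.gcd 2 (Fintype.card F - 1) := Nat.gcd_pos_of_pos_left _ two_pos
    have key : ∀ k, k ∣ Nat.card (tor x) →
        k ∣ (Fintype.card F + 1) / Nat.gcd 2 (Fintype.card F - 1) ∨
        k ∣ (Fintype.card F - 1) / Nat.gcd 2 (Fintype.card F - 1) := fun k hk => by
      rcases card_tor_semis p hx with e | e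
      · exact Or.inr (hk.trans (mul_div_gcd hd e).dvd)
      · exact Or.inl (hk.trans (mul_div_gcd hd e).dvd)
    rcases cyclic_or_dihedral p hx hH with ⟨-, hc, hdvd⟩ | ⟨-, k, -, hk, he, -⟩
    · exact ⟨_, key _ hdvd, Or.inl ⟨hc, rfl⟩⟩
    · exact ⟨k, key k hk, Or.inr he⟩
  · obtain ⟨P, hP⟩ := exists_sylow_eq_tor p hx1 hx
    exact Or.inr (Or.inl ⟨P, H, hP ▸ hH, ⟨MulEquiv.refl H⟩⟩)
  · exact Or.inr (Or.inr (Or.inl h))
  · exact Or.inr (Or.inr (Or.inr (Or.inl h)))
  · exact Or.inr (Or.inr (Or.inr (Or.inr (Or.inl h))))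
  · exact Or.inr (Or.inr (Or.inr (Or.inr (Or.inr ⟨K, i1, i2, m, hm, hiso.imp id And.left⟩))))

theorem sub_bound {s m q : ℕ} (hs : 2 ≤ s) (hm : 2 ≤ m) (h : s ^ m = q) : s ^ 2 ≤ q ∧ 2 * s ≤ q := by
  subst h
  have h1 : s ^ 2 ≤ s ^ m := Nat.pow_le_pow_right (by omega) hm
  exact ⟨h1, le_trans (by rw [pow_two]; exact Nat.mul_le_mul_right _ hs) h1⟩

theorem index_bound {q : ℕ} (hF : Fintype.card F = q) (hq : q ∉ ({2, 3, 5, 7, 9, 11} : Finset ℕ)) :
    (∀ H : Subgroup PG, H ≠ ⊤ → q + 1 ≤ H.index) ∧ ∃ H : Subgroup PG, H.index = q + 1 := by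
  subst hF
  obtain ⟨p, hchar⟩ := CharP.exists F
  haveI : Fact p.Prime := by
    obtain ⟨n, hpr, -⟩ := FiniteField.card F p
    exact ⟨hpr⟩
  simp only [Finset.mem_insert, Finset.mem_singleton] at hq
  have h1 := Fintype.one_lt_card (α := F)
  have hG := card_pg (F := F)
  rw [two_q] at hG
  have h6 : Fintype.card F ≠ 6 := fun e => by
    have := FiniteField.isPrimePow_card F
    rw [e] at this
    exact absurd this (by decide)
  have hGpos : 0 < Nat.card PG := Nat.card_pos
  constructor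
  · intro H htop
    have hpos : 0 < Nat.gcd 2 (Fintype.card F - 1) * Nat.card H :=
      Nat.mul_pos (Nat.gcd_pos_of_pos_left _ two_pos) (Nat.card_pos (α := H))
    refine Nat.le_of_mul_le_mul_left ?_ hpos
    rw [mul_assoc _ (Nat.card H) H.index, H.card_mul_index, hG, ← mul_assoc (Fintype.card F)]
    refine Nat.mul_le_mul_right _ ?_
    have hdvd := H.card_subgroup_dvd_card
    have hne : Nat.card H ≠ Nat.card PG := fun e => htop (Subgroup.eq_top_of_card_eq _ e)
    rcases classify p H with ⟨x, hx, hH⟩ | ⟨x, hx1, hx, hH⟩ | ⟨⟨e⟩⟩ | ⟨⟨e⟩⟩ | ⟨⟨e⟩⟩ | h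
    · have h2 := Subgroup.card_le_of_le hH
      rw [card_normalizer_semis p hx] at h2
      have h3 : Nat.card (tor x) * Nat.gcd 2 (Fintype.card F - 1) ≤ Fintype.card F + 1 := by
        rcases card_tor_semis p hx with e | e <;> omega
      have h4 : 2 * (Fintype.card F + 1) ≤ Fintype.card F * (Fintype.card F - 1) := by
        have : Fintype.card F * 3 ≤ Fintype.card F * (Fintype.card F - 1) := Nat.mul_le_mul_left _ (by omega)
        omega
      calc Nat.gcd 2 (Fintype.card F - 1) * Nat.card H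
          ≤ Nat.gcd 2 (Fintype.card F - 1) * (2 * Nat.card (tor x)) := Nat.mul_le_mul_left _ h2
        _ = 2 * (Nat.card (tor x) * Nat.gcd 2 (Fintype.card F - 1)) := by ring
        _ ≤ _ := (Nat.mul_le_mul_left _ h3).trans h4
    · rw [mul_comm, mul_comm (Fintype.card F) (Fintype.card F - 1), ← card_normalizer_unip p hx1 hx]
      exact Nat.mul_le_mul_right _ (Subgroup.card_le_of_le hH)
    all_goals try (have hc := Nat.card_congr e.toEquiv)
    · rw [hc, card_a4]
      rcases d_cases (F := F) with ⟨hd, hpar⟩ | ⟨hd, hpar⟩ <;> rw [hd]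
      · have : 4 * 3 ≤ Fintype.card F * (Fintype.card F - 1) := Nat.mul_le_mul (by omega) (by omega)
        omega
      · have : 13 * 12 ≤ Fintype.card F * (Fintype.card F - 1) := Nat.mul_le_mul (by omega) (by omega)
        omega
    · rw [hc, card_s4] at hdvd ⊢
      rcases d_cases (F := F) with ⟨hd, hpar⟩ | ⟨hd, hpar⟩ <;> rw [hd] at hG ⊢
      · by_cases h4 : Fintype.card F = 4
        · rw [h4] at hG
          omega
        · have : 8 * 7 ≤ Fintype.card F * (Fintype.card F - 1) := Nat.mul_le_mul (by omega) (by omega)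
          omega
      · have : 13 * 12 ≤ Fintype.card F * (Fintype.card F - 1) := Nat.mul_le_mul (by omega) (by omega)
        omega
    · rw [hc, card_a5] at hdvd hne ⊢
      rcases d_cases (F := F) with ⟨hd, hpar⟩ | ⟨hd, hpar⟩ <;> rw [hd] at hG ⊢
      · by_cases h4 : Fintype.card F = 4
        · rw [h4] at hG
          omega
        by_cases h8 : Fintype.card F = 8
        · rw [h8] at hG
          omega
        have : 10 * 9 ≤ Fintype.card F * (Fintype.card F - 1) := Nat.mul_le_mul (by omega) (by omega)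
        omega
      · have : 13 * 12 ≤ Fintype.card F * (Fintype.card F - 1) := Nat.mul_le_mul (by omega) (by omega)
        omega
    · obtain ⟨s, m, hm, hs, -, hcard, -⟩ := sub_card p h
      have hm2 := sub_proper hm hcard htop
      obtain ⟨hs2, hs2'⟩ := sub_bound (by omega) hm2 hm
      have hd : Nat.gcd 2 (Fintype.card F - 1) ≤ 2 := Nat.gcd_le_left _ two_pos
      calc Nat.gcd 2 (Fintype.card F - 1) * Nat.card H ≤ 2 * (s * (s ^ 2 - 1)) :=
            Nat.mul_le_mul hd (sub_card_le hcard)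
        _ = 2 * s * (s ^ 2 - 1) := by ring
        _ ≤ _ := Nat.mul_le_mul hs2' (Nat.sub_le_sub_right hs2 1)
  · refine ⟨Subgroup.normalizer ((rootP : Subgroup PG) : Set PG), ?_⟩
    have hN := card_normalizer_rootP (F := F)
    have h := (Subgroup.normalizer ((rootP : Subgroup PG) : Set PG)).card_mul_index
    refine Nat.eq_of_mul_eq_mul_left (Nat.mul_pos (Nat.sub_pos_of_lt h1) (Nat.zero_lt_of_lt h1)) ?_
    rw [← hN, mul_right_comm, h, mul_comm (Nat.card PG), hG, hN]
    ring

end Cfsg.Agent.Classical.Dickson2
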