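import Mathlib
import Cfsg.Prelude.Def_CaseTheorems
import Cfsg.Agent.Classical.Dickson2.Tools
import Cfsg.Agent.Char.Integral

/-!
The minimal simple groups PSL(2,q).
-/

set_option autoImplicit false

namespace Cfsg.Agent.Classical.Dickson2

open Matrix Cfsg.Agent.SL2Class
open scoped MatrixGroups

variable {F : Type*} [Field F] [Fintype F]

local notation "PG" => Matrix.ProjectiveSpecialLinearGroup (Fin 2) F

theorem solvable_two_three {G : Type*} [Group G] [Finite G]
    (h : Nat.card G = 6 ∨ Nat.card G = 12 ∨ Nat.card G = 24) : Group.IsSolvable G := by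
  refine Char.isSolvable_of_card_eq 2 3 Nat.prime_two Nat.prime_three _ G rfl ?_
  rcases h with h | h | h <;> rw [h]
  exacts [⟨1, 1, rfl⟩, ⟨2, 1, rfl⟩, ⟨3, 1, rfl⟩]

theorem alt_five_not_solvable : ¬ Group.IsSolvable (alternatingGroup (Fin 5)) := fun h => by
  haveI := h
  refine Equiv.Perm.not_isSolvable_fin_5 ?_
  exact solvable_of_ker_le_range (alternatingGroup (Fin 5)).subtype Equiv.Perm.sign
    (fun x hx => ⟨⟨x, Equiv.Perm.mem_alternatingGroup.2 (MonoidHom.mem_ker.1 hx)⟩, rfl⟩)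

theorem four_pow_mod {r : ℕ} (hr : Odd r) : 4 ^ r % 5 = 4 := by
  obtain ⟨j, rfl⟩ := hr
  rw [pow_succ, pow_mul, Nat.mul_mod, Nat.pow_mod]
  simp

theorem five_not_dvd {q : ℕ} (h : (∃ r : ℕ, r.Prime ∧ r ≠ 2 ∧ q = 2 ^ r) ∨
    (∃ r : ℕ, r.Prime ∧ r ≠ 2 ∧ q = 3 ^ r) ∨ (q % 5 = 2 ∨ q % 5 = 3)) : ¬ 5 ∣ q * (q ^ 2 - 1) := by
  have key : q % 5 ≠ 0 ∧ q ^ 2 % 5 = 4 := by
    rcases h with ⟨r, hr, hr2, rfl⟩ | ⟨r, hr, hr2, rfl⟩ | h
    · refine ⟨fun e => ?_, ?_⟩
      · have := Nat.prime_five.dvd_of_dvd_pow (Nat.dvd_of_mod_eq_zero e)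
        norm_num at this
      · rw [pow_right_comm]
        exact four_pow_mod (hr.odd_of_ne_two hr2)
    · refine ⟨fun e => ?_, ?_⟩
      · have := Nat.prime_five.dvd_of_dvd_pow (Nat.dvd_of_mod_eq_zero e)
        norm_num at this
      · rw [pow_right_comm, Nat.pow_mod]
        exact four_pow_mod (hr.odd_of_ne_two hr2)
    · rcases h with h | h <;> refine ⟨by omega, ?_⟩ <;> rw [Nat.pow_mod, h]
  intro hd
  rcases Nat.prime_five.dvd_mul.1 hd with h1 | h1
  · omega
  · omega

theorem exists_nonsolvable {q : ℕ} (hF : Fintype.card F = q) (h4 : 4 ≤ q)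
    (hnot : ¬ ((∃ r : ℕ, r.Prime ∧ q = 2 ^ r) ∨ (∃ r : ℕ, r.Prime ∧ r ≠ 2 ∧ q = 3 ^ r) ∨
      (q.Prime ∧ 5 < q ∧ (q % 5 = 2 ∨ q % 5 = 3)) ∨ q = 5)) :
    ∃ H : Subgroup PG, H ≠ ⊤ ∧ ¬ Group.IsSolvable H := by
  subst hF
  have hG := card_pg (F := F)
  obtain ⟨p, hchar⟩ := CharP.exists F
  obtain ⟨f, hpr, hf⟩ := FiniteField.card F p
  haveI : Fact p.Prime := ⟨hpr⟩
  simp only [not_or, not_exists, not_and] at hnot
  obtain ⟨n2, n3, np, n5⟩ := hnot
  by_cases hsub : ∃ e : ℕ, e ∣ (f : ℕ) ∧ e < f ∧ 4 ≤ p ^ e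
  · obtain ⟨e, ⟨m, hm⟩, he, h4e⟩ := hsub
    have he0 : e ≠ 0 := fun h => by rw [h, pow_zero] at h4e; omega
    haveI : Fintype (GaloisField p e) := Fintype.ofFinite _
    have hK : Fintype.card (GaloisField p e) = p ^ e := by
      rw [← Nat.card_eq_fintype_card, GaloisField.card p e he0]
    obtain ⟨ι⟩ := SubfieldPSL.exists_ringHom (F := F) (K := GaloisField p e) (m := m)
      (by rw [hK, ← pow_mul, ← hm, ← hf])
    obtain ⟨H, ⟨eH⟩⟩ := SubfieldPSL.exists_psl ι
    refine ⟨H, fun htop => ?_, fun hs => ?_⟩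
    · have hc := Nat.card_congr eH.toEquiv
      rw [htop, Subgroup.card_top] at hc
      have hlt : p ^ e < Fintype.card F := by rw [hf]; exact Nat.pow_lt_pow_right hpr.one_lt he
      have hsq : (p ^ e) ^ 2 ≤ Fintype.card F := by
        rw [hf, ← pow_mul]
        refine Nat.pow_le_pow_right hpr.pos ?_
        rw [hm] at he ⊢
        refine Nat.mul_le_mul_left _ ?_
        by_contra hc2
        interval_cases m <;> omega
      have hK' := card_pg (F := GaloisField p e)
      rw [← hc, hK] at hK'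
      have h1 : Nat.gcd 2 (p ^ e - 1) ≥ 1 := Nat.gcd_pos_of_pos_left _ two_pos
      have h2 : Nat.gcd 2 (Fintype.card F - 1) ≤ 2 := Nat.gcd_le_left _ two_pos
      have h3 : Fintype.card F * (Fintype.card F ^ 2 - 1) ≤ 2 * (p ^ e * ((p ^ e) ^ 2 - 1)) := by
        rw [← hG, ← hK']
        calc Nat.gcd 2 (Fintype.card F - 1) * Nat.card PG ≤ 2 * Nat.card PG := Nat.mul_le_mul_right _ h2
          _ ≤ _ := Nat.mul_le_mul_left _ (Nat.le_mul_of_pos_left _ h1)
      have h4' : 2 * (p ^ e * ((p ^ e) ^ 2 - 1)) < Fintype.card F * (Fintype.card F ^ 2 - 1) := by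
        have h5 : 2 * p ^ e ≤ Fintype.card F := le_trans (by rw [pow_two]; exact Nat.mul_le_mul_right _ (by omega)) hsq
        calc 2 * (p ^ e * ((p ^ e) ^ 2 - 1)) = 2 * p ^ e * ((p ^ e) ^ 2 - 1) := by ring
          _ < Fintype.card F * (Fintype.card F ^ 2 - 1) := by
            refine Nat.mul_lt_mul_of_le_of_lt h5 ?_ (by omega)
            have : (p ^ e) ^ 2 < Fintype.card F ^ 2 := Nat.pow_lt_pow_left hlt two_ne_zero
            have : 0 < (p ^ e) ^ 2 := by positivity
            omega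
      omega
    · haveI := hs
      exact not_solvable_psl (F := GaloisField p e) (by rw [hK]; exact h4e)
        (solvable_of_surjective (f := eH.toMonoidHom) eH.surjective)
  simp only [not_exists, not_and, not_le] at hsub
  have h5 : 5 ∣ Fintype.card F * (Fintype.card F ^ 2 - 1) ∧ 5 < Fintype.card F := by
    have main : ∀ a : ℕ, Fintype.card F = a → 5 < a → (a ^ 2 % 5 = 1 ∨ a % 5 = 0) →
        5 ∣ Fintype.card F * (Fintype.card F ^ 2 - 1) ∧ 5 < Fintype.card F := by
      intro a ha h5a hmod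
      rw [ha]
      refine ⟨?_, h5a⟩
      rcases hmod with h | h
      · exact dvd_mul_of_dvd_right (Nat.dvd_of_mod_eq_zero (by omega)) _
      · exact dvd_mul_of_dvd_left (Nat.dvd_of_mod_eq_zero h) _
    by_cases hf1 : (f : ℕ) = 1
    · rw [hf1, pow_one] at hf
      rw [hf] at np n5 h4
      have hp5 : 5 < p := by
        by_contra hc
        interval_cases p <;> simp_all (config := {decide := true})
      refine main p hf hp5 ?_
      have h1 := np hpr hp5
      rw [Nat.pow_mod]
      have : p % 5 = 0 ∨ p % 5 = 1 ∨ p % 5 = 4 := by omega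
      rcases this with h | h | h <;> simp [h]
    · have hf2 : 2 ≤ (f : ℕ) := by have := f.pos; omega
      have hp : p < 4 := by
        have := hsub 1 (one_dvd _) (by omega)
        rwa [pow_one] at this
      obtain ⟨hfp⟩ : Nonempty ((f : ℕ).Prime) := by
        refine ⟨Nat.prime_def_lt.2 ⟨hf2, fun m hm hmd => ?_⟩⟩
        by_contra hm1
        have hm0 : m ≠ 0 := fun h => by rw [h, zero_dvd_iff] at hmd; omega
        have := hsub m hmd hm
        have h4m : 2 ^ 2 ≤ p ^ m := le_trans (Nat.pow_le_pow_left hpr.two_le 2)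
          (Nat.pow_le_pow_right hpr.pos (by omega))
        omega
      have hp2 := hpr.two_le
      interval_cases p
      · exact absurd hf (n2 _ hfp)
      · have hr : (f : ℕ) = 2 := by
          by_contra hr
          exact n3 _ hfp hr hf
        rw [hr] at hf
        exact main 9 hf (by norm_num) (Or.inl rfl)
  obtain ⟨H, ⟨eH⟩⟩ := (A5InPSL.main (F := F) rfl).2 h5.1
  refine ⟨H, fun htop => ?_, fun hs => ?_⟩
  · have hc := Nat.card_congr eH.toEquiv
    rw [htop, Subgroup.card_top, card_a5] at hc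
    have h1 : Fintype.card F * (Fintype.card F ^ 2 - 1) ≤ 2 * 60 := by
      rw [← hG, hc]
      exact Nat.mul_le_mul_right _ (Nat.gcd_le_left _ two_pos)
    have h6 : 6 * (6 ^ 2 - 1) ≤ Fintype.card F * (Fintype.card F ^ 2 - 1) :=
      Nat.mul_le_mul h5.2 (Nat.sub_le_sub_right (Nat.pow_le_pow_left h5.2 2) 1)
    omega
  · haveI := hs
    exact alt_five_not_solvable (solvable_of_surjective (f := eH.toMonoidHom) eH.surjective)

theorem minimal_simple_iff {q : ℕ} (hF : Fintype.card F = q) :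
    Cfsg.IsMinimalSimple PG ↔ ((∃ r : ℕ, r.Prime ∧ q = 2 ^ r) ∨ (∃ r : ℕ, r.Prime ∧ r ≠ 2 ∧ q = 3 ^ r) ∨
      (q.Prime ∧ 5 < q ∧ (q % 5 = 2 ∨ q % 5 = 3)) ∨ q = 5) := by
  subst hF
  obtain ⟨p, hchar⟩ := CharP.exists F
  obtain ⟨f, hpr, hf⟩ := FiniteField.card F p
  haveI : Fact p.Prime := ⟨hpr⟩
  have hG := card_pg (F := F)
  have h1q := Fintype.one_lt_card (α := F)
  constructor
  · rintro ⟨hsimple, hnc, hsolv⟩
    have h4 : 4 ≤ Fintype.card F := by
      by_contra hc
      have hcard : Nat.card PG = 6 ∨ Nat.card PG = 12 ∨ Nat.card PG = 24 := by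
        interval_cases h : Fintype.card F
        · norm_num at hG; omega
        · norm_num at hG; omega
      haveI := solvable_two_three hcard
      haveI := hsimple
      refine hnc ⟨⟨fun a b => ?_⟩⟩
      rcases (Subgroup.commutator_normal (⊤ : Subgroup PG) ⊤).eq_bot_or_eq_top with hb | ht
      · have := (Subgroup.commutator_le.1 hb.le) a (Subgroup.mem_top _) b (Subgroup.mem_top _)
        exact commutatorElement_eq_one_iff_mul_comm.1 (Subgroup.mem_bot.1 this)
      · exact absurd (by rw [commutator_def]; exact ht) (IsSolvable.commutator_lt_top_of_nontrivial PG).ne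
    by_contra hnot
    obtain ⟨H, h1, h2⟩ := exists_nonsolvable rfl h4 hnot
    exact h2 (hsolv H h1)
  · intro hlist
    have h4 : 4 ≤ Fintype.card F := by
      rcases hlist with ⟨r, hr, e⟩ | ⟨r, hr, -, e⟩ | ⟨-, h, -⟩ | h
      · rw [e]; exact le_trans (le_of_eq (by norm_num : 4 = 2 ^ 2)) (Nat.pow_le_pow_right (by norm_num) hr.two_le)
      · rw [e]; exact le_trans (by norm_num : 4 ≤ 3 ^ 2) (Nat.pow_le_pow_right (by norm_num) hr.two_le)
      · omega
      · omega
    refine ⟨isSimple_pg h4, fun hc => ?_, fun H htop => ?_⟩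
    · obtain ⟨a, b, hab⟩ := not_comm_pg (F := F)
      exact hab (hc.is_comm.comm a b)
    rcases classify p H with ⟨x, hx, hH⟩ | ⟨x, hx1, hx, hH⟩ | ⟨⟨e⟩⟩ | ⟨⟨e⟩⟩ | ⟨⟨e⟩⟩ | h
    · exact solvable_toral p hx hH
    · exact solvable_borel p hx1 hx hH
    · exact solvable_two_three (Or.inr (Or.inl (by rw [Nat.card_congr e.toEquiv, card_a4])))
    · exact solvable_two_three (Or.inr (Or.inr (by rw [Nat.card_congr e.toEquiv, card_s4])))
    · exfalso
      have hc : Nat.card H = 60 := by rw [Nat.card_congr e.toEquiv, card_a5]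
      have hd := H.card_subgroup_dvd_card
      rw [hc] at hd
      have h5 : ∀ q, Fintype.card F = q → q = 4 ∨ q = 5 → False := by
        intro q hq h
        refine htop (Subgroup.eq_top_of_card_eq _ ?_)
        rw [hq] at hG
        rcases h with rfl | rfl <;> norm_num at hG <;> omega
      have hnd : ∀ _ : ¬ 5 ∣ Fintype.card F * (Fintype.card F ^ 2 - 1), False := fun h =>
        h (hG ▸ dvd_mul_of_dvd_right ((show 5 ∣ 60 by norm_num).trans hd) _)
      rcases hlist with ⟨r, hr, e⟩ | ⟨r, hr, hr2, e⟩ | ⟨-, -, h⟩ | h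
      · by_cases hr2 : r = 2
        · exact h5 4 (by rw [e, hr2]; norm_num) (Or.inl rfl)
        · exact hnd (five_not_dvd (Or.inl ⟨r, hr, hr2, e⟩))
      · exact hnd (five_not_dvd (Or.inr (Or.inl ⟨r, hr, hr2, e⟩)))
      · exact hnd (five_not_dvd (Or.inr (Or.inr h)))
      · exact h5 5 h (Or.inr rfl)
    · obtain ⟨s, m, hm, hs, -, hcard, -⟩ := sub_card p h
      have hm2 := sub_proper hm hcard htop
      have hprime : ∀ q : ℕ, q.Prime → Fintype.card F ≠ q := fun q hq e => by
        rw [e] at hm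
        have := (Nat.prime_def_lt.1 (hm ▸ hq : (s ^ m).Prime)).2 s (by
          calc s = s ^ 1 := (pow_one s).symm
            _ < s ^ m := Nat.pow_lt_pow_right (by omega) hm2) (dvd_pow_self s (by omega))
        omega
      have key : ∀ b r : ℕ, b.Prime → r.Prime → Fintype.card F = b ^ r → s = b := by
        intro b r hb hr e
        rw [e] at hm
        obtain ⟨a, -, ha⟩ := (Nat.dvd_prime_pow hb).1 (hm ▸ dvd_pow_self s (by omega))
        rw [ha, ← pow_mul] at hm
        have h' := Nat.pow_right_injective hb.two_le hm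
        rcases hr.eq_one_or_self_of_dvd a ⟨m, h'.symm⟩ with h1 | h1
        · rw [ha, h1, pow_one]
        · exfalso
          rw [h1] at h'
          have : r * 2 ≤ r * m := Nat.mul_le_mul_left _ hm2
          have := hr.two_le
          omega
      rcases hlist with ⟨r, hr, e⟩ | ⟨r, hr, -, e⟩ | ⟨h1, -⟩ | h
      · have := key 2 r Nat.prime_two hr e
        omega
      · have hs3 := key 3 r Nat.prime_three hr e
        subst hs3
        refine solvable_two_three ?_
        rcases hcard with h | ⟨h, -⟩ <;> norm_num at h <;> omega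
      · exact absurd rfl (hprime _ h1)
      · exact absurd h (hprime 5 Nat.prime_five)

end Cfsg.Agent.Classical.Dickson2
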