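import Mathlib
import Cfsg.Agent.Classical.Dickson2.Minimal
import Cfsg.Agent.Classical.PSLFour
import Cfsg.Agent.S0251

/-!
Maximality of the tetrahedral, octahedral, icosahedral and subfield subgroups.
-/

set_option autoImplicit false

namespace Cfsg.Agent.Classical.Dickson2

open Matrix Cfsg.Agent.SL2Class
open scoped MatrixGroups

variable {F : Type*} [Field F] [Fintype F]

local notation "PG" => Matrix.ProjectiveSpecialLinearGroup (Fin 2) F

theorem exists_threes_perm : ∃ a b : Equiv.Perm (Fin 4), Equiv.Perm.sign a = 1 ∧ Equiv.Perm.sign b = 1 ∧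
    a ^ 3 = 1 ∧ b ^ 3 = 1 ∧ a * b ≠ b * a ∧ (a * b * a⁻¹ * b⁻¹) ^ 2 = 1 :=
  ⟨Equiv.swap 0 1 * Equiv.swap 1 2, Equiv.swap 0 1 * Equiv.swap 1 3, by decide +kernel, by decide +kernel,
    by decide +kernel, by decide +kernel, by decide +kernel, by decide +kernel⟩

/-- Two elements of order three which do not commute, with an involutive commutator. -/
def HasThrees (H : Subgroup (Matrix.ProjectiveSpecialLinearGroup (Fin 2) F)) : Prop :=
  ∃ a ∈ H, ∃ b ∈ H, a ^ 3 = 1 ∧ b ^ 3 = 1 ∧ a * b ≠ b * a ∧ (a * b * a⁻¹ * b⁻¹) ^ 2 = 1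

theorem hasThrees_of_hom {A : Type*} [Group A] {H : Subgroup PG} (e : A →* H) (he : Function.Injective e)
    (h : ∃ a b : A, a ^ 3 = 1 ∧ b ^ 3 = 1 ∧ a * b ≠ b * a ∧ (a * b * a⁻¹ * b⁻¹) ^ 2 = 1) : HasThrees H := by
  obtain ⟨a, b, h1, h2, h3, h4⟩ := h
  refine ⟨e a, (e a).2, e b, (e b).2, ?_, ?_, fun h => h3 (he ?_), ?_⟩
  · rw [← Subgroup.coe_pow, ← map_pow, h1, map_one, Subgroup.coe_one]
  · rw [← Subgroup.coe_pow, ← map_pow, h2, map_one, Subgroup.coe_one]
  · rw [map_mul, map_mul]; exact Subtype.ext h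
  · rw [← Subgroup.coe_inv, ← Subgroup.coe_inv, ← Subgroup.coe_mul, ← Subgroup.coe_mul, ← Subgroup.coe_mul,
      ← Subgroup.coe_pow, ← map_inv, ← map_inv, ← map_mul, ← map_mul, ← map_mul, ← map_pow, h4, map_one,
      Subgroup.coe_one]

theorem hasThrees_a4 {H : Subgroup PG} (e : H ≃* alternatingGroup (Fin 4)) : HasThrees H := by
  obtain ⟨a, b, ha, hb, h1, h2, h3, h4⟩ := exists_threes_perm
  refine hasThrees_of_hom e.symm.toMonoidHom e.symm.injective
    ⟨⟨a, Equiv.Perm.mem_alternatingGroup.2 ha⟩, ⟨b, Equiv.Perm.mem_alternatingGroup.2 hb⟩,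
      Subtype.ext h1, Subtype.ext h2, fun h => h3 (congrArg Subtype.val h), Subtype.ext h4⟩

theorem hasThrees_s4 {H : Subgroup PG} (e : H ≃* Equiv.Perm (Fin 4)) : HasThrees H := by
  obtain ⟨a, b, -, -, h1, h2, h3, h4⟩ := exists_threes_perm
  exact hasThrees_of_hom e.symm.toMonoidHom e.symm.injective ⟨a, b, h1, h2, h3, h4⟩

variable (p : ℕ) [Fact p.Prime] [CharP F p]

theorem threes_cases {M H : Subgroup PG} (hp : p ≠ 2) (h : HasThrees H) (hle : H ≤ M) :
    Nonempty (M ≃* alternatingGroup (Fin 4)) ∨ Nonempty (M ≃* Equiv.Perm (Fin 4)) ∨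
      Nonempty (M ≃* alternatingGroup (Fin 5)) ∨ SubCase p M := by
  obtain ⟨a, ha, b, hb, ha3, hb3, hab, hc⟩ := h
  rcases classify p M with ⟨x, hx, hM⟩ | ⟨x, hx1, hx, hM⟩ | h
  · exfalso
    have key : ∀ c ∈ H, c ^ 3 = 1 → c ∈ tor x := fun c hcH hc3 => by
      by_contra hn
      obtain ⟨h2, -⟩ := inverts_of_not_mem p hx (hM (hle hcH)) hn
      refine hn ?_
      rw [show c = 1 by calc c = c ^ 3 * (c * c)⁻¹ := by group
            _ = 1 := by rw [hc3, h2, inv_one, mul_one]]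
      exact one_mem _
    exact hab (tor_comm (ne_one_of_semis p hx) (key a ha ha3) (key b hb hb3))
  · exfalso
    have h1 := unip_of_mem p hx1 hx (borel_comm p hx1 hx (hM (hle ha)) (hM (hle hb)))
    have h2 : orderOf (a * b * a⁻¹ * b⁻¹) ∣ Nat.gcd p 2 :=
      Nat.dvd_gcd (orderOf_dvd_of_pow_eq_one h1) (orderOf_dvd_of_pow_eq_one hc)
    rw [(Nat.coprime_primes Fact.out Nat.prime_two).2 hp, Nat.dvd_one, orderOf_eq_one_iff,
      mul_inv_eq_one, mul_inv_eq_iff_eq_mul] at h2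
    exact hab h2
  · exact h

theorem insoluble_cases {M H : Subgroup PG} (h : ¬ Group.IsSolvable H) (hle : H ≤ M) :
    Nonempty (M ≃* alternatingGroup (Fin 5)) ∨ SubCase p M := by
  have hM : ¬ Group.IsSolvable M := fun hs => h (haveI := hs; solvable_of_solvable_injective (Subgroup.inclusion_injective hle))
  rcases classify p M with ⟨x, hx, h1⟩ | ⟨x, hx1, hx, h1⟩ | ⟨⟨e⟩⟩ | ⟨⟨e⟩⟩ | h
  · exact absurd (solvable_toral p hx h1) hM
  · exact absurd (solvable_borel p hx1 hx h1) hM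
  · exact absurd (solvable_two_three (Or.inr (Or.inl (by rw [Nat.card_congr e.toEquiv, card_a4])))) hM
  · exact absurd (solvable_two_three (Or.inr (Or.inr (by rw [Nat.card_congr e.toEquiv, card_s4])))) hM
  · exact h

omit [Fact p.Prime] [CharP F p] in
theorem coatom_of {H : Subgroup PG} (htop : H ≠ ⊤)
    (h : ∀ M : Subgroup PG, H ≤ M → M ≠ ⊤ → Nat.card M ≤ Nat.card H) : IsCoatom H :=
  ⟨htop, fun M hM => by
    by_contra hne
    exact hM.ne (Subgroup.eq_of_le_of_card_ge hM.le (h M hM.le hne))⟩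

theorem sub_prime {q : ℕ} {M : Subgroup PG} (hq : q.Prime) (hF : Fintype.card F = q) (h : SubCase p M)
    (htop : M ≠ ⊤) : False := by
  obtain ⟨s, m, hm, hs, -, hcard, -⟩ := sub_card p h
  have hm2 := sub_proper hm hcard htop
  rw [hF] at hm
  have := (Nat.prime_def_lt.1 hq).2 s (by
    calc s = s ^ 1 := (pow_one s).symm
      _ < s ^ m := Nat.pow_lt_pow_right (by omega) hm2
      _ = q := hm) (hm ▸ dvd_pow_self s (by omega))
  omega

theorem pg_large (h : 7 ≤ Fintype.card F) : 168 ≤ Nat.card PG := by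
  have hG := card_pg (F := F)
  have h2 : Nat.gcd 2 (Fintype.card F - 1) * Nat.card PG ≤ 2 * Nat.card PG :=
    Nat.mul_le_mul_right _ (Nat.gcd_le_left _ two_pos)
  have h3 : 7 * (7 ^ 2 - 1) ≤ Fintype.card F * (Fintype.card F ^ 2 - 1) :=
    Nat.mul_le_mul h (Nat.sub_le_sub_right (Nat.pow_le_pow_left h 2) 1)
  omega

omit [Fact p.Prime] [CharP F p] in
theorem charP_of_card {q : ℕ} [Fact q.Prime] (hF : Fintype.card F = q) : CharP F q :=
  charP_of_card_eq_prime hF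

omit [Fact p.Prime] [CharP F p] in
theorem maximal_s4 (q : ℕ) [Fact q.Prime] (hF : Fintype.card F = q) (hq : q % 8 = 1 ∨ q % 8 = 7) :
    ∃ H : Subgroup PG, IsCoatom H ∧ Nonempty (H ≃* Equiv.Perm (Fin 4)) := by
  haveI := charP_of_card (F := F) hF
  have h16 : q ^ 2 % 16 = 1 := by
    obtain ⟨k, hk⟩ : ∃ k, q = 8 * k + 1 ∨ q = 8 * k + 7 := ⟨q / 8, by omega⟩
    rcases hk with rfl | rfl
    · rw [show (8 * k + 1) ^ 2 = 1 + 16 * (4 * k ^ 2 + k) by ring, Nat.add_mul_mod_self_left]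
    · rw [show (8 * k + 7) ^ 2 = 1 + 16 * (4 * k ^ 2 + 7 * k + 3) by ring, Nat.add_mul_mod_self_left]
  obtain ⟨H, ⟨e⟩⟩ := (PKlein.sym_four_iff hF).2 h16
  have hq7 : 7 ≤ q := by
    have := (Fact.out : q.Prime).two_le
    omega
  have hc : Nat.card H = 24 := by rw [Nat.card_congr e.toEquiv, card_s4]
  refine ⟨H, coatom_of (fun h => ?_) (fun M hle htop => ?_), ⟨e⟩⟩
  · rw [h, Subgroup.card_top] at hc
    have := pg_large (F := F) (hF ▸ hq7)
    omega
  · have hd := Subgroup.card_dvd_of_le hle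
    rw [hc] at hd ⊢
    rcases threes_cases q (by omega) (hasThrees_s4 e) hle with ⟨⟨f⟩⟩ | ⟨⟨f⟩⟩ | ⟨⟨f⟩⟩ | h
    · rw [Nat.card_congr f.toEquiv, card_a4] at hd; omega
    · rw [Nat.card_congr f.toEquiv, card_s4]
    · rw [Nat.card_congr f.toEquiv, card_a5] at hd; omega
    · exact (sub_prime q Fact.out hF h htop).elim

omit [Fact p.Prime] [CharP F p] in
theorem coatom_a4 (q : ℕ) [Fact q.Prime] (hF : Fintype.card F = q) (h5 : 5 ≤ q) (h8 : q % 8 = 3 ∨ q % 8 = 5)
    (h10 : q % 10 ≠ 1 ∧ q % 10 ≠ 9) {H : Subgroup PG} (e : H ≃* alternatingGroup (Fin 4)) : IsCoatom H := by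
  haveI := charP_of_card (F := F) hF
  have hc : Nat.card H = 12 := by rw [Nat.card_congr e.toEquiv, card_a4]
  have hodd : Odd (Fintype.card F) := by rw [hF, Nat.odd_iff]; omega
  have hG := card_pg (F := F)
  have hd2 : Nat.gcd 2 (Fintype.card F - 1) = 2 := Nat.gcd_eq_left (by
    rw [hF]; omega)
  refine coatom_of (fun h => ?_) (fun M hle htop => ?_)
  · rw [h, Subgroup.card_top] at hc
    rw [hd2, hc, hF] at hG
    have : 5 * (5 ^ 2 - 1) ≤ q * (q ^ 2 - 1) := Nat.mul_le_mul h5 (Nat.sub_le_sub_right (Nat.pow_le_pow_left h5 2) 1)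
    omega
  · have hd := M.card_subgroup_dvd_card
    rw [hc]
    rcases threes_cases q (by omega) (hasThrees_a4 e) hle with ⟨⟨f⟩⟩ | ⟨⟨f⟩⟩ | ⟨⟨f⟩⟩ | h
    · rw [Nat.card_congr f.toEquiv, card_a4]
    · exfalso
      rw [Nat.card_congr f.toEquiv, card_s4] at hd
      exact (PKlein.card_pg_two_part (PKlein.two_ne hodd) hF).2 h8 ((show 8 ∣ 24 by norm_num).trans hd)
    · exfalso
      have hc5 : Nat.card M = 60 := by rw [Nat.card_congr f.toEquiv, card_a5]
      rw [hc5] at hd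
      by_cases hq5 : q = 5
      · refine htop (Subgroup.eq_top_of_card_eq _ ?_)
        rw [hd2, hF, hq5] at hG
        omega
      · refine five_not_dvd (q := q) (Or.inr (Or.inr ?_)) ?_
        · have : ¬ 5 ∣ q := fun h => hq5 (((Nat.prime_dvd_prime_iff_eq Nat.prime_five Fact.out).1 h).symm)
          omega
        · rw [← hF, ← hG]
          exact dvd_mul_of_dvd_right ((show 5 ∣ 60 by norm_num).trans hd) _
    · exact (sub_prime q Fact.out hF h htop).elim

omit [Fact p.Prime] [CharP F p] in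
theorem maximal_a4 (q : ℕ) [Fact q.Prime] (hF : Fintype.card F = q) (h5 : 5 ≤ q) (h8 : q % 8 = 3 ∨ q % 8 = 5)
    (h10 : q % 10 ≠ 1 ∧ q % 10 ≠ 9) :
    ∃ H : Subgroup PG, IsCoatom H ∧ Nonempty (H ≃* alternatingGroup (Fin 4)) := by
  haveI := charP_of_card (F := F) hF
  obtain ⟨H, ⟨e⟩⟩ := (PKlein.alt_four_iff (F := F) q 1 (by rw [pow_one, hF])).2 (fun h => by omega)
  exact ⟨H, coatom_a4 q hF h5 h8 h10 e, ⟨e⟩⟩

theorem maximal_a5 (h : (Fintype.card F = p ∧ (p % 10 = 1 ∨ p % 10 = 9)) ∨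
    (Fintype.card F = p ^ 2 ∧ (p % 10 = 3 ∨ p % 10 = 7))) :
    ∃ H : Subgroup PG, IsCoatom H ∧ Nonempty (H ≃* alternatingGroup (Fin 5)) := by
  have hsq : ∀ n, (n % 10 = 3 ∨ n % 10 = 7) → (n ^ 2) % 5 = 4 := by
    intro n hn
    have : n % 5 = 3 ∨ n % 5 = 2 := by omega
    rw [Nat.pow_mod]
    rcases this with h | h <;> rw [h]
  have h5 : 5 ∣ Fintype.card F * (Fintype.card F ^ 2 - 1) := by
    refine dvd_mul_of_dvd_right (Nat.dvd_of_mod_eq_zero ?_) _
    have h1 : (Fintype.card F) ^ 2 % 5 = 1 := by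
      rcases h with ⟨e, hp⟩ | ⟨e, hp⟩ <;> rw [e]
      · have : p % 5 = 1 ∨ p % 5 = 4 := by omega
        rw [Nat.pow_mod]
        rcases this with h | h <;> rw [h]
      · rw [Nat.pow_mod, hsq p hp]
    omega
  obtain ⟨H, ⟨e⟩⟩ := (A5InPSL.main (F := F) rfl).2 h5
  have hc : Nat.card H = 60 := by rw [Nat.card_congr e.toEquiv, card_a5]
  have hp2 := (Fact.out : p.Prime).two_le
  have hq : 7 ≤ Fintype.card F := by
    rcases h with ⟨e, hp⟩ | ⟨e, hp⟩ <;> rw [e]
    · omega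
    · have : 3 ^ 2 ≤ p ^ 2 := Nat.pow_le_pow_left (by omega) 2
      omega
  refine ⟨H, coatom_of (fun h => ?_) (fun M hle htop => ?_), ⟨e⟩⟩
  · rw [h, Subgroup.card_top] at hc
    have := pg_large (F := F) hq
    omega
  · have hns : ¬ Group.IsSolvable H := fun hs =>
      alt_five_not_solvable (haveI := hs; solvable_of_surjective (f := e.toMonoidHom) e.surjective)
    rw [hc]
    rcases insoluble_cases p hns hle with ⟨⟨f⟩⟩ | hsub
    · rw [Nat.card_congr f.toEquiv, card_a5]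
    · exfalso
      obtain ⟨s, m, hm, hs, -, hcard, -⟩ := sub_card p hsub
      have hm2 := sub_proper hm hcard htop
      rcases h with ⟨hF, -⟩ | ⟨hF, hp⟩
      · exact sub_prime p Fact.out hF hsub htop
      rw [hF] at hm
      have hps : s = p := by
        obtain ⟨a, -, ha⟩ := (Nat.dvd_prime_pow Fact.out).1 (hm ▸ dvd_pow_self s (by omega))
        rw [ha, ← pow_mul] at hm
        have h' := Nat.pow_right_injective hp2 hm
        have ha0 : a ≠ 0 := fun h => by rw [h, pow_zero] at ha; omega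
        have : a * 2 ≤ a * m := Nat.mul_le_mul_left _ hm2
        rw [ha, show a = 1 by omega, pow_one]
      subst hps
      have hd : 60 ∣ s * (s ^ 2 - 1) := by
        have h1 := Subgroup.card_dvd_of_le hle
        rw [hc] at h1
        rcases hcard with h | ⟨h, -⟩
        · exact h ▸ dvd_mul_of_dvd_left h1 _
        · exact h ▸ h1
      have h55 : 5 ∣ s * (s ^ 2 - 1) := (show 5 ∣ 60 by norm_num).trans hd
      exact five_not_dvd (q := s) (Or.inr (Or.inr (by omega))) h55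

theorem dvd_exp {b a e d : ℕ} (hb : 2 ≤ b) (he : 0 < e) (hd : d ≤ 2) (hd0 : 0 < d)
    (h : b ^ (2 * e) - 1 ∣ d * (b ^ (2 * a) - 1)) : e ∣ a := by
  set c := a % e with hc
  have hce : c < e := Nat.mod_lt _ he
  have ha : a = e * (a / e) + c := (Nat.div_add_mod a e).symm
  have h1 : b ^ (2 * e) - 1 ∣ (b ^ (2 * e)) ^ (a / e) - 1 := by
    simpa using Nat.sub_dvd_pow_sub_pow (b ^ (2 * e)) 1 (a / e)
  have hsplit : b ^ (2 * a) - 1 = ((b ^ (2 * e)) ^ (a / e) - 1) * b ^ (2 * c) + (b ^ (2 * c) - 1) := by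
    have e1 : b ^ (2 * a) = (b ^ (2 * e)) ^ (a / e) * b ^ (2 * c) := by
      rw [← pow_mul, ← pow_add]; congr 1; nth_rw 1 [ha]; ring
    have h2 : 1 ≤ b ^ (2 * c) := Nat.one_le_pow _ _ (by omega)
    have h3 : b ^ (2 * c) ≤ (b ^ (2 * e)) ^ (a / e) * b ^ (2 * c) :=
      Nat.le_mul_of_pos_left _ (Nat.pow_pos (Nat.pow_pos (by omega)))
    rw [e1, Nat.sub_mul, one_mul]
    omega
  have hdiv : b ^ (2 * e) - 1 ∣ d * (b ^ (2 * c) - 1) := by
    rw [hsplit, mul_add] at h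
    exact (Nat.dvd_add_right (dvd_mul_of_dvd_right (h1.mul_right _) _)).1 h
  refine Nat.dvd_of_mod_eq_zero ?_
  rw [← hc]
  by_contra hc0
  have h4 : b ^ (2 * c) * 4 ≤ b ^ (2 * e) := by
    calc b ^ (2 * c) * 4 ≤ b ^ (2 * c) * b ^ 2 := Nat.mul_le_mul_left _ (by nlinarith)
      _ = b ^ (2 * c + 2) := (pow_add _ _ _).symm
      _ ≤ _ := Nat.pow_le_pow_right (by omega) (by omega)
  have h5 : 1 < b ^ (2 * c) := Nat.one_lt_pow (by omega) hb
  have h6 : d * (b ^ (2 * c) - 1) ≤ 2 * (b ^ (2 * c) - 1) := Nat.mul_le_mul_right _ hd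
  have h7 := Nat.le_of_dvd (Nat.mul_pos hd0 (by omega)) hdiv
  omega

theorem subfield_step {H M : Subgroup PG} {k r : ℕ} (hk : 3 ≤ k) (hF : Fintype.card F = k ^ r) (hr : r.Prime)
    (hH : Nat.card H * Nat.gcd 2 (k - 1) = k * (k ^ 2 - 1))
    (hpar : ¬ (Odd (Fintype.card F) ∧ Even r)) (hsub : SubCase p M) (hle : H ≤ M) (htop : M ≠ ⊤) :
    Nat.card M ≤ Nat.card H := by
  obtain ⟨s, m, hm, hs, -, hcard, -⟩ := sub_card p hsub
  have hm2 := sub_proper hm hcard htop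
  obtain ⟨f, hf, hq⟩ := Classical.card_field_eq_pow (F := F) p
  have hpr : p.Prime := Fact.out
  obtain ⟨e, -, he⟩ := (Nat.dvd_prime_pow hpr).1 (hq ▸ hF ▸ dvd_pow_self k hr.ne_zero : k ∣ p ^ f)
  obtain ⟨a, -, ha⟩ := (Nat.dvd_prime_pow hpr).1 (hq ▸ hm ▸ dvd_pow_self s (by omega) : s ∣ p ^ f)
  have he0 : 0 < e := Nat.pos_of_ne_zero fun h => by rw [h, pow_zero] at he; omega
  have ha0 : 0 < a := Nat.pos_of_ne_zero fun h => by rw [h, pow_zero] at ha; omega
  have hgcd : Nat.gcd 2 (s - 1) = Nat.gcd 2 (k - 1) := by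
    have hmod : ∀ j, 0 < j → (p ^ j) % 2 = p % 2 := fun j hj => by
      rcases hpr.eq_two_or_odd with rfl | h
      · rw [Nat.pow_mod]; simp [Nat.pos_iff_ne_zero.1 hj]
      · rw [Nat.pow_mod, h, one_pow]; rfl
    have h1 := hmod e he0
    have h2 := hmod a ha0
    rw [← he] at h1
    rw [← ha] at h2
    rcases Nat.mod_two_eq_zero_or_one p with hp2 | hp2
    · rw [Nat.prime_two.coprime_iff_not_dvd.2 (by omega : ¬ 2 ∣ s - 1),
        Nat.prime_two.coprime_iff_not_dvd.2 (by omega : ¬ 2 ∣ k - 1)]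
    · rw [Nat.gcd_eq_left (by omega : 2 ∣ s - 1), Nat.gcd_eq_left (by omega : 2 ∣ k - 1)]
  have hd : Nat.card H ∣ Nat.card M := Subgroup.card_dvd_of_le hle
  set d := Nat.gcd 2 (k - 1)
  have hdpos : 0 < d := Nat.gcd_pos_of_pos_left _ two_pos
  have hd2 : d ≤ 2 := Nat.gcd_le_left _ two_pos
  have h1 : k * (k ^ 2 - 1) ∣ d * (s * (s ^ 2 - 1)) := by
    rw [← hH]
    rcases hcard with h | ⟨h, -⟩
    · rw [hgcd] at h
      rw [← h]
      exact dvd_mul_of_dvd_right (Nat.mul_dvd_mul_right hd _) _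
    · rw [← h, mul_comm _ d]
      exact Nat.mul_dvd_mul_left _ hd
  have h2 : k ^ 2 - 1 ∣ d * (s ^ 2 - 1) := by
    have hcop : Nat.Coprime (k ^ 2 - 1) s := by
      rw [ha]
      refine Nat.Coprime.pow_right _ (Nat.Coprime.symm (hpr.coprime_iff_not_dvd.2 fun h => ?_))
      have h' : p ∣ k ^ 2 := dvd_pow (he ▸ dvd_pow_self p he0.ne') two_ne_zero
      have h'' := Nat.dvd_sub h' h
      have hk2 : 1 ≤ k ^ 2 := Nat.one_le_pow _ _ (by omega)
      rw [show k ^ 2 - (k ^ 2 - 1) = 1 by omega, Nat.dvd_one] at h''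
      exact hpr.ne_one h''
    refine hcop.dvd_of_dvd_mul_left ?_
    refine (dvd_mul_left _ k).trans (h1.trans (dvd_of_eq ?_))
    ring
  rw [he, ha, ← pow_mul, ← pow_mul, mul_comm e, mul_comm a] at h2
  obtain ⟨c, rfl⟩ := dvd_exp hpr.two_le he0 hd2 hdpos h2
  have h3 : c * m = r := by
    have h4 : p ^ (e * r) = p ^ (e * c * m) := by
      rw [pow_mul, ← he, ← hF, ← hm, ha, ← pow_mul]
    have h5 := Nat.pow_right_injective hpr.two_le h4
    exact (Nat.eq_of_mul_eq_mul_left he0 (by rw [h5]; ring)).symm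
  rcases hr.eq_one_or_self_of_dvd c ⟨m, h3.symm⟩ with rfl | rfl
  · rw [mul_one] at ha
    have hsk : s = k := by rw [ha, he]
    subst hsk
    rw [one_mul] at h3
    subst h3
    rcases hcard with h | ⟨-, ho, hev⟩
    · exact (Nat.eq_of_mul_eq_mul_right hdpos (h.trans hH.symm)).le
    · exact absurd ⟨ho, hev⟩ hpar
  · exfalso
    have := hr.two_le
    have : c * 2 ≤ c * m := Nat.mul_le_mul_left _ hm2
    omega

theorem ne_top_of_small {H : Subgroup PG} {k : ℕ} (hk : k < Fintype.card F) (hk2 : 2 ≤ k)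
    (hH : Nat.card H * Nat.gcd 2 (Fintype.card F - 1) ≤ k * (k ^ 2 - 1)) : H ≠ ⊤ := fun h => by
  rw [h, Subgroup.card_top, mul_comm, card_pg] at hH
  have h1 : k * (k ^ 2 - 1) < Fintype.card F * (Fintype.card F ^ 2 - 1) := by
    refine Nat.mul_lt_mul_of_lt_of_le hk (Nat.sub_le_sub_right (Nat.pow_le_pow_left hk.le 2) 1) ?_
    have : 2 ^ 2 ≤ Fintype.card F ^ 2 := Nat.pow_le_pow_left (hk2.trans hk.le) 2
    omega
  omega

omit [Fact p.Prime] [CharP F p] in
/-- A subgroup isomorphic to PSL(2) over a subfield of prime index, outside the quadratic case, is maximal. -/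
theorem coatom_psl {K : Type*} [Field K] [Fintype K] (q r : ℕ) (hK : Fintype.card K = q)
    (hF : Fintype.card F = q ^ r) (hr : r.Prime) (hq : (Odd q ∧ r ≠ 2) ∨ (Even q ∧ q ≠ 2))
    {H : Subgroup PG} (e : H ≃* Matrix.ProjectiveSpecialLinearGroup (Fin 2) K) : IsCoatom H := by
  obtain ⟨l, hl⟩ := CharP.exists F
  haveI : Fact l.Prime := by
    obtain ⟨n, hp, -⟩ := FiniteField.card F l
    exact ⟨hp⟩
  have h1 := Fintype.one_lt_card (α := K)
  rw [hK] at h1
  have hq3 : 3 ≤ q := by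
    rcases hq with ⟨h, -⟩ | ⟨-, h⟩
    · rw [Nat.odd_iff] at h; omega
    · omega
  have hH : Nat.card H * Nat.gcd 2 (q - 1) = q * (q ^ 2 - 1) := by
    rw [Nat.card_congr e.toEquiv, ← hK, mul_comm]
    exact A5InPSL.card_psl
  have hgcd : Nat.gcd 2 (Fintype.card F - 1) = Nat.gcd 2 (q - 1) := by
    have hmod : Fintype.card F % 2 = q % 2 := by
      rw [hF, Nat.pow_mod]
      rcases Nat.mod_two_eq_zero_or_one q with h | h <;> rw [h]
      · rw [zero_pow hr.ne_zero]; rfl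
      · rw [one_pow]; rfl
    have := Fintype.one_lt_card (α := F)
    rcases Nat.mod_two_eq_zero_or_one q with h | h
    · rw [Nat.prime_two.coprime_iff_not_dvd.2 (by omega : ¬ 2 ∣ Fintype.card F - 1),
        Nat.prime_two.coprime_iff_not_dvd.2 (by omega : ¬ 2 ∣ q - 1)]
    · rw [Nat.gcd_eq_left (by omega : 2 ∣ Fintype.card F - 1), Nat.gcd_eq_left (by omega : 2 ∣ q - 1)]
  have hlt : q < Fintype.card F := by
    rw [hF]
    calc q = q ^ 1 := (pow_one q).symm
      _ < _ := Nat.pow_lt_pow_right h1 hr.one_lt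
  have hpar : ¬ (Odd (Fintype.card F) ∧ Even r) := fun ⟨ho, hev⟩ => by
    rcases hq with ⟨-, h⟩ | ⟨h, -⟩
    · exact h ((Nat.prime_dvd_prime_iff_eq Nat.prime_two hr).1 hev.two_dvd).symm
    · rw [hF] at ho
      exact Nat.not_even_iff_odd.2 ho (h.pow_of_ne_zero hr.ne_zero)
  refine coatom_of (ne_top_of_small hlt (by omega) (by rw [hgcd, hH])) (fun M hle htop => ?_)
  by_cases h3 : q = 3
  · subst h3
    obtain ⟨e3⟩ := Cfsg.Agent.S0251.result hK
    have hodd : Odd (Fintype.card F) := hF ▸ Odd.pow (by decide)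
    have hl2 : l ≠ 2 := fun h => by
      subst h
      have := FiniteField.even_card_iff_char_two.1 (ringChar.eq F 2)
      rw [Nat.odd_iff] at hodd
      omega
    have hr2 : r ≠ 2 := by
      rcases hq with ⟨-, h⟩ | ⟨h, -⟩
      · exact h
      · exact absurd h (by decide)
    have hcH : Nat.card H = 12 := by rw [Nat.card_congr (e.trans e3).toEquiv, card_a4]
    rw [hcH]
    have hd := M.card_subgroup_dvd_card
    rcases threes_cases l hl2 (hasThrees_a4 (e.trans e3)) hle with ⟨⟨f⟩⟩ | ⟨⟨f⟩⟩ | ⟨⟨f⟩⟩ | h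
    · rw [Nat.card_congr f.toEquiv, card_a4]
    · exfalso
      rw [Nat.card_congr f.toEquiv, card_s4] at hd
      refine (PKlein.card_pg_two_part (PKlein.two_ne hodd) hF).2 (Or.inl ?_) ((show 8 ∣ 24 by norm_num).trans hd)
      obtain ⟨j, rfl⟩ := hr.odd_of_ne_two hr2
      rw [pow_succ, pow_mul, Nat.mul_mod, Nat.pow_mod]
      simp
    · exfalso
      rw [Nat.card_congr f.toEquiv, card_a5] at hd
      refine five_not_dvd (q := Fintype.card F) (Or.inr (Or.inl ⟨r, hr, hr2, hF⟩)) ?_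
      rw [← card_pg]
      exact dvd_mul_of_dvd_right ((show 5 ∣ 60 by norm_num).trans hd) _
    · exact hcH ▸ subfield_step l (le_refl 3) hF hr hH hpar h hle htop
  · have hns : ¬ Group.IsSolvable H := fun hs =>
      not_solvable_psl (F := K) (by rw [hK]; omega) (haveI := hs; solvable_of_surjective (f := e.toMonoidHom) e.surjective)
    rcases insoluble_cases l hns hle with ⟨⟨f⟩⟩ | h
    · have hd := Subgroup.card_dvd_of_le hle
      rw [Nat.card_congr f.toEquiv, card_a5] at hd ⊢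
      have hsq : 4 * (4 ^ 2 - 1) ≤ q * (q ^ 2 - 1) :=
        Nat.mul_le_mul (by omega) (Nat.sub_le_sub_right (Nat.pow_le_pow_left (by omega) 2) 1)
      by_cases h5 : 6 ≤ q
      · exfalso
        have h7 : 6 * (6 ^ 2 - 1) ≤ q * (q ^ 2 - 1) :=
          Nat.mul_le_mul h5 (Nat.sub_le_sub_right (Nat.pow_le_pow_left h5 2) 1)
        have h8 : q * (q ^ 2 - 1) ≤ 60 * 2 := by
          rw [← hH]; exact Nat.mul_le_mul (Nat.le_of_dvd (by norm_num) hd) (Nat.gcd_le_left _ two_pos)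
        omega
      · interval_cases q
        · exact absurd rfl h3
        · rw [show Nat.gcd 2 (4 - 1) = 1 from rfl] at hH; omega
        · rw [show Nat.gcd 2 (5 - 1) = 2 from rfl] at hH; omega
    · exact subfield_step l hq3 hF hr hH hpar h hle htop

omit [Fact p.Prime] [CharP F p] in
theorem maximal_psl {K : Type*} [Field K] [Fintype K] (q r : ℕ) (hK : Fintype.card K = q)
    (hF : Fintype.card F = q ^ r) (hr : r.Prime) (hq : (Odd q ∧ r ≠ 2) ∨ (Even q ∧ q ≠ 2)) :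
    ∃ H : Subgroup PG, IsCoatom H ∧ Nonempty (H ≃* Matrix.ProjectiveSpecialLinearGroup (Fin 2) K) := by
  obtain ⟨ι⟩ := SubfieldPSL.exists_ringHom (F := F) (K := K) (m := r) (by rw [hK, hF])
  obtain ⟨H, ⟨e⟩⟩ := SubfieldPSL.exists_psl ι
  exact ⟨H, coatom_psl q r hK hF hr hq e, ⟨e⟩⟩

omit [Fact p.Prime] [CharP F p] in
theorem maximal_pgl {K : Type*} [Field K] [Fintype K] (q : ℕ) (hK : Fintype.card K = q)
    (hF : Fintype.card F = q ^ 2) (hq : Odd q) :
    ∃ H : Subgroup PG, IsCoatom H ∧ Nonempty (H ≃* Matrix.ProjGenLinGroup (Fin 2) K) := by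
  obtain ⟨ι⟩ := SubfieldPSL.exists_ringHom (F := F) (K := K) (m := 2) (by rw [hK, hF])
  have hodd : Odd (Fintype.card F) := hF ▸ hq.pow
  obtain ⟨l, hl⟩ := CharP.exists F
  haveI : Fact l.Prime := by
    obtain ⟨n, hp, -⟩ := FiniteField.card F l
    exact ⟨hp⟩
  have h2 : ringChar F ≠ 2 := fun h => by
    have := FiniteField.even_card_iff_char_two.1 h
    rw [Nat.odd_iff] at hodd
    omega
  obtain ⟨H, ⟨e⟩⟩ := SubfieldPSL.exists_pgl ι h2 even_two (by rw [hK, hF])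
  have h1 := Fintype.one_lt_card (α := K)
  rw [hK] at h1
  have hqo := Nat.odd_iff.1 hq
  have hH : Nat.card H = q * (q ^ 2 - 1) := by rw [Nat.card_congr e.toEquiv, card_pgl_two, hK]
  have hd2 : Nat.gcd 2 (Fintype.card F - 1) = 2 := Nat.gcd_eq_left (by rw [Nat.odd_iff] at hodd; omega)
  have hbig : 2 * (q ^ 2 + 1) < 2 * (q * (q ^ 2 - 1)) := by
    have : 3 * (q ^ 2 - 1) ≤ q * (q ^ 2 - 1) := Nat.mul_le_mul_right _ (by omega)
    have : 3 ^ 2 ≤ q ^ 2 := Nat.pow_le_pow_left (by omega) 2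
    omega
  refine ⟨H, coatom_of ?_ (fun M hle htop => ?_), ⟨e⟩⟩
  · intro h
    rw [h, Subgroup.card_top] at hH
    have hG := card_pg (F := F)
    rw [hd2, hH, hF] at hG
    have h5 : 3 * q ≤ q ^ 2 := by rw [pow_two]; exact Nat.mul_le_mul_right _ (by omega)
    have h6 : (q ^ 2 - 1) ≤ (q ^ 2) ^ 2 - 1 := Nat.sub_le_sub_right (Nat.le_self_pow two_ne_zero _) 1
    have h7 : 3 * q * (q ^ 2 - 1) ≤ q ^ 2 * ((q ^ 2) ^ 2 - 1) := Nat.mul_le_mul h5 h6
    have h8 : 0 < q * (q ^ 2 - 1) := hH ▸ Nat.card_pos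
    rw [mul_assoc] at h7
    omega
  · have hd := Subgroup.card_dvd_of_le hle
    have hMpos : 0 < Nat.card M := Nat.card_pos
    have hge := Nat.le_of_dvd hMpos hd
    rw [hH] at hge hd ⊢
    have h24 : 24 ≤ q * (q ^ 2 - 1) :=
      le_trans (by norm_num : 24 ≤ 3 * (3 ^ 2 - 1))
        (Nat.mul_le_mul (by omega) (Nat.sub_le_sub_right (Nat.pow_le_pow_left (by omega) 2) 1))
    rcases classify l M with ⟨x, hx, hM⟩ | ⟨x, hx1, hx, hM⟩ | ⟨⟨f⟩⟩ | ⟨⟨f⟩⟩ | ⟨⟨f⟩⟩ | h
    · exfalso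
      have h3 := Subgroup.card_le_of_le hM
      rw [card_normalizer_semis l hx] at h3
      have h4 : Nat.card (tor x) * 2 ≤ q ^ 2 + 1 := by
        rcases card_tor_semis l hx with e | e <;> rw [hd2, hF] at e <;> omega
      omega
    · exfalso
      have h3 := Subgroup.card_dvd_of_le hM
      have h4 := card_normalizer_unip l hx1 hx
      rw [hd2, hF] at h4
      obtain ⟨c, hc⟩ := hd.trans h3
      rw [hc] at h4
      have h5 : q * (q ^ 2 - 1) * (c * 2) = q * (q ^ 2 - 1) * q := by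
        rw [← mul_assoc, h4]; ring
      have := Nat.eq_of_mul_eq_mul_left (hH ▸ Nat.card_pos) h5
      omega
    · rw [Nat.card_congr f.toEquiv, card_a4] at hd hge
      omega
    · rw [Nat.card_congr f.toEquiv, card_s4] at hd hge ⊢
      omega
    · exfalso
      rw [Nat.card_congr f.toEquiv, card_a5] at hd hge
      by_cases h5 : q = 3
      · subst h5
        norm_num at hd
      · have : 5 * (5 ^ 2 - 1) ≤ q * (q ^ 2 - 1) :=
          Nat.mul_le_mul (by omega) (Nat.sub_le_sub_right (Nat.pow_le_pow_left (by omega) 2) 1)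
        omega
    · obtain ⟨s, m, hm, hs, -, hcard, -⟩ := sub_card l h
      have hm2 := sub_proper hm hcard htop
      have hsq : s ^ 2 ≤ q ^ 2 := by
        rw [← hF, ← hm]; exact Nat.pow_le_pow_right (by omega) hm2
      have hle' : s ≤ q := (Nat.pow_le_pow_iff_left two_ne_zero).1 hsq
      exact (sub_card_le hcard).trans (Nat.mul_le_mul hle' (Nat.sub_le_sub_right hsq 1))

end Cfsg.Agent.Classical.Dickson2
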