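import Mathlib
import Cfsg.Agent.Classical.Dickson2.Dihedral
import Cfsg.Agent.Classical.PSLFour
import Cfsg.Prelude.Def_OddOrderLocal

/-!
The Hall {2,3}-subgroups of PSL(2,q), q coprime to 6.
-/

set_option autoImplicit false

namespace Cfsg.Agent.Classical.Dickson2

open Matrix Cfsg.Agent.SL2Class
open scoped MatrixGroups Pointwise

variable {F : Type*} [Field F] [Fintype F]

local notation "PG" => Matrix.ProjectiveSpecialLinearGroup (Fin 2) F

theorem exists_toral_hall (p : ℕ) [Fact p.Prime] [CharP F p] {x : PG} (hx : x ^ p ≠ 1) (a b : ℕ)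
    (ha : 2 ^ a ∣ 2 * Nat.card (tor x)) (hb : 3 ^ b ∣ Nat.card (tor x)) :
    ∃ K : Subgroup PG, Nat.card K = 2 ^ a * 3 ^ b := by
  haveI : Fact (Nat.Prime 2) := ⟨Nat.prime_two⟩
  haveI : Fact (Nat.Prime 3) := ⟨Nat.prime_three⟩
  rw [← card_normalizer_semis p hx] at ha
  obtain ⟨P₀, hP₀⟩ := Sylow.exists_subgroup_card_pow_prime 2 ha
    (G := Subgroup.normalizer (tor x : Set PG))
  obtain ⟨Q₀, hQ₀⟩ := Sylow.exists_subgroup_card_pow_prime 3 hb (G := tor x)
  set P := P₀.map (Subgroup.normalizer (tor x : Set PG)).subtype with hPdef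
  set Q := Q₀.map (tor x).subtype with hQdef
  have hP : Nat.card P = 2 ^ a := by rw [hPdef, Subgroup.card_map_of_injective (Subgroup.subtype_injective _), hP₀]
  have hQ : Nat.card Q = 3 ^ b := by rw [hQdef, Subgroup.card_map_of_injective (Subgroup.subtype_injective _), hQ₀]
  have hQle : Q ≤ tor x := Subgroup.map_subtype_le _
  have hPle : P ≤ Subgroup.normalizer (Q : Set PG) := by
    intro y hy
    have hyN : y ∈ Subgroup.normalizer (tor x : Set PG) := Subgroup.map_subtype_le _ hy
    refine Subgroup.mem_normalizer_fintype fun t ht => ?_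
    by_cases hyT : y ∈ tor x
    · rw [tor_comm (ne_one_of_semis p hx) hyT (hQle ht), mul_inv_cancel_right]
      exact ht
    · rw [(inverts_of_not_mem p hx hyN hyT).2 t (hQle ht)]
      exact inv_mem ht
  refine ⟨P ⊔ Q, Nat.le_antisymm ?_ (Nat.le_of_dvd Nat.card_pos ?_)⟩
  · rw [← hP, ← hQ]
    have h := Subgroup.coe_mul_of_left_le_normalizer_right P Q hPle
    calc Nat.card (P ⊔ Q : Subgroup PG) = Nat.card ((P : Set PG) * (Q : Set PG) : Set PG) := by
          rw [← h]; rfl
      _ ≤ _ := Set.natCard_mul_le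
  · refine Nat.Coprime.mul_dvd_of_dvd_of_dvd (Nat.Coprime.pow _ _ (by norm_num)) ?_ ?_
    · rw [← hP]; exact Subgroup.card_dvd_of_le le_sup_left
    · rw [← hQ]; exact Subgroup.card_dvd_of_le le_sup_right

theorem isPiHall_of_card {G : Type*} [Group G] [Finite G] {H : Subgroup G} {a b : ℕ}
    (ha : (Nat.card G).factorization 2 = a) (hb : (Nat.card G).factorization 3 = b)
    (hH : Nat.card H = 2 ^ a * 3 ^ b) : Cfsg.IsPiHall ({2, 3} : Set ℕ) H := by
  have hG : Nat.card G ≠ 0 := Nat.card_pos.ne'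
  refine ⟨fun r hr hrd => ?_, fun r hr hrπ hrd => ?_⟩
  · rw [hH] at hrd
    rcases hr.dvd_mul.1 hrd with h | h
    · exact Or.inl ((Nat.prime_dvd_prime_iff_eq hr Nat.prime_two).1 (hr.dvd_of_dvd_pow h))
    · exact Or.inr ((Nat.prime_dvd_prime_iff_eq hr Nat.prime_three).1 (hr.dvd_of_dvd_pow h))
  · have h := mul_dvd_mul (dvd_refl (Nat.card H)) hrd
    rw [Subgroup.card_mul_index] at h
    rcases hrπ with rfl | rfl
    · have h' : 2 ^ (a + 1) ∣ Nat.card G :=
        dvd_trans ⟨3 ^ b, by rw [hH, pow_succ]; ring⟩ h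
      have := (Nat.prime_two.pow_dvd_iff_le_factorization hG).1 h'
      omega
    · have h' : 3 ^ (b + 1) ∣ Nat.card G :=
        dvd_trans ⟨2 ^ a, by rw [hH, pow_succ]; ring⟩ h
      have := (Nat.prime_three.pow_dvd_iff_le_factorization hG).1 h'
      omega

theorem pow_dvd_of_isPiHall {G : Type*} [Group G] [Finite G] {H : Subgroup G}
    (hH : Cfsg.IsPiHall ({2, 3} : Set ℕ) H) {r : ℕ} (hr : r.Prime) (hrπ : r ∈ ({2, 3} : Set ℕ)) :
    r ^ (Nat.card G).factorization r ∣ Nat.card H :=
  Nat.Coprime.dvd_of_dvd_mul_right ((hr.coprime_iff_not_dvd.2 (hH.2 r hr hrπ)).pow_left _)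
    (by rw [Subgroup.card_mul_index]; exact Nat.ordProj_dvd _ _)

theorem hall_two_three (p : ℕ) [Fact p.Prime] [CharP F p] (hp : 5 ≤ p) (q : ℕ) (hq : Fintype.card F = q) :
    (∃ H : Subgroup PG, Cfsg.IsPiHall ({2, 3} : Set ℕ) H) ↔
      (3 ∣ q - 1 ∧ q % 4 = 1) ∨ (3 ∣ q + 1 ∧ q % 4 = 3) ∨
        2 ^ (q ^ 2 - 1).factorization 2 * 3 ^ (q ^ 2 - 1).factorization 3 = 24 ∨
        2 ^ (q ^ 2 - 1).factorization 2 * 3 ^ (q ^ 2 - 1).factorization 3 = 48 := by
  have hp' : p.Prime := Fact.out
  obtain ⟨f, hf1, hf⟩ := Classical.card_field_eq_pow (F := F) p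
  rw [hq] at hf
  have hq5 : 5 ≤ q := by
    rw [hf]
    exact hp.trans (Nat.le_self_pow (by omega) _)
  have hpq : p ∣ q := hf ▸ dvd_pow_self p (by omega)
  have hndvd : ∀ r : ℕ, r.Prime → r < 5 → ¬ r ∣ q := fun r hr hr5 h => by
    rw [hf] at h
    have := (Nat.prime_dvd_prime_iff_eq hr hp').1 (hr.dvd_of_dvd_pow h)
    omega
  have h2q : q % 2 = 1 := by
    have := hndvd 2 Nat.prime_two (by norm_num)
    omega
  have h3q : q % 3 ≠ 0 := fun h => hndvd 3 Nat.prime_three (by norm_num) (Nat.dvd_of_mod_eq_zero h)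
  have hgcd : Nat.gcd 2 (Fintype.card F - 1) = 2 := by rw [hq]; exact Nat.gcd_eq_left (by omega)
  have hcard : 2 * Nat.card PG = q * (q ^ 2 - 1) := by
    have := card_pg (F := F); rwa [hgcd, hq] at this
  have hsq : q ^ 2 - 1 = (q - 1) * (q + 1) := by rw [mul_comm, ← Nat.sq_sub_sq, one_pow]
  have hG : Nat.card PG ≠ 0 := Nat.card_pos.ne'
  have hm1 : q - 1 ≠ 0 := by omega
  have hsq0 : q ^ 2 - 1 ≠ 0 := by rw [hsq]; exact mul_ne_zero hm1 (by omega)
  have hfac : ∀ r : ℕ, r.Prime → r < 5 → (q ^ 2 - 1).factorization r =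
      (2 : ℕ).factorization r + (Nat.card PG).factorization r := by
    intro r hr hr5
    have h := congrArg (fun n : ℕ => n.factorization r) hcard
    beta_reduce at h
    rw [Nat.factorization_mul two_ne_zero hG, Nat.factorization_mul (by omega) hsq0,
      Finsupp.add_apply, Finsupp.add_apply, Nat.factorization_eq_zero_of_not_dvd (hndvd r hr hr5)] at h
    omega
  have h22 : (2 : ℕ).factorization 2 = 1 := Nat.prime_two.factorization_self
  have h23 : (2 : ℕ).factorization 3 = 0 := Nat.factorization_eq_zero_of_not_dvd (by norm_num)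
  have hv : ∀ r : ℕ, (q ^ 2 - 1).factorization r = (q - 1).factorization r + (q + 1).factorization r :=
    fun r => by rw [hsq, Nat.factorization_mul hm1 (by omega), Finsupp.add_apply]
  set a := (Nat.card PG).factorization 2 with ha
  set b := (Nat.card PG).factorization 3 with hb
  have ea : (q ^ 2 - 1).factorization 2 = 1 + a := by rw [hfac 2 Nat.prime_two (by norm_num), h22]
  have eb : (q ^ 2 - 1).factorization 3 = b := by rw [hfac 3 Nat.prime_three (by norm_num), h23, zero_add]
  have hb1 : 1 ≤ b := by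
    rw [← eb, hv]
    have : 3 ∣ q - 1 ∨ 3 ∣ q + 1 := by
      rcases (show q % 3 = 1 ∨ q % 3 = 2 by omega) with h | h
      · exact Or.inl (Nat.dvd_of_mod_eq_zero (by omega))
      · exact Or.inr (Nat.dvd_of_mod_eq_zero (by omega))
    rcases this with h | h
    · have := Nat.prime_three.factorization_pos_of_dvd hm1 h; omega
    · have := Nat.prime_three.factorization_pos_of_dvd (by omega : q + 1 ≠ 0) h; omega
  have v4 : ∀ n : ℕ, n % 4 = 2 → n.factorization 2 = 1 := by
    intro n hn
    have h0 : n ≠ 0 := by omega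
    have h1 := Nat.prime_two.factorization_pos_of_dvd h0 (by omega)
    by_contra hne
    have h4 : 2 ^ 2 ∣ n := (Nat.prime_two.pow_dvd_iff_le_factorization h0).2 (by omega)
    norm_num at h4
    omega
  have v4' : ∀ n : ℕ, n ≠ 0 → 4 ∣ n → 2 ≤ n.factorization 2 := fun n h0 h =>
    (Nat.prime_two.pow_dvd_iff_le_factorization h0).1 h
  have ha2 : 2 ≤ a := by
    have : 3 ≤ (q ^ 2 - 1).factorization 2 := by
      rw [hv]
      rcases (show q % 4 = 1 ∨ q % 4 = 3 by omega) with h | h
      · have := v4 (q + 1) (by omega); have := v4' (q - 1) hm1 (by omega); omega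
      · have := v4 (q - 1) (by omega); have := v4' (q + 1) (by omega) (by omega); omega
    omega
  constructor
  · rintro ⟨H, hH⟩
    have h2H : 2 ^ a ∣ Nat.card H := pow_dvd_of_isPiHall hH Nat.prime_two (Or.inl rfl)
    have h3H : 3 ^ b ∣ Nat.card H := pow_dvd_of_isPiHall hH Nat.prime_three (Or.inr rfl)
    have h4H : 4 ∣ Nat.card H := (pow_dvd_pow 2 ha2).trans h2H
    have h33 : 3 ∣ Nat.card H := (dvd_pow_self 3 (by omega)).trans h3H
    have hcases : ∀ c : ℕ, Nat.card H = 12 * c → c ∣ 2 → 2 ^ (1 + a) * 3 ^ b = 24 * c := by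
      intro c hc hc2
      have hdG : Nat.card H ∣ Nat.card PG := H.card_subgroup_dvd_card
      have hb' : b = 1 := by
        refine le_antisymm ?_ hb1
        by_contra hlt
        have h9 : 9 ∣ 12 * c := hc ▸ (pow_dvd_pow 3 (show 2 ≤ b by omega)).trans h3H
        rcases (Nat.dvd_prime Nat.prime_two).1 hc2 with rfl | rfl <;> omega
      rcases (Nat.dvd_prime Nat.prime_two).1 hc2 with rfl | rfl
      · have : a = 2 := by
          refine le_antisymm ?_ ha2
          by_contra hlt
          have h8 : 8 ∣ 12 * 1 := hc ▸ (pow_dvd_pow 2 (show 3 ≤ a by omega)).trans h2H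
          omega
        rw [this, hb']
        norm_num
      · have : a = 3 := by
          refine le_antisymm ?_ ((Nat.prime_two.pow_dvd_iff_le_factorization hG).1 (dvd_trans ⟨3, ?_⟩ hdG))
          · by_contra hlt
            have h16 : 16 ∣ 12 * 2 := hc ▸ (pow_dvd_pow 2 (show 4 ≤ a by omega)).trans h2H
            omega
          · rw [hc]; norm_num
        rw [this, hb']
        norm_num
    rcases classify p H with ⟨x, hx, hle⟩ | ⟨x, hx1, hx, hle⟩ | ⟨⟨e⟩⟩ | ⟨⟨e⟩⟩ | ⟨⟨e⟩⟩ | h
    · have hd := Subgroup.card_dvd_of_le hle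
      rw [card_normalizer_semis p hx] at hd
      have h4 := h4H.trans hd
      have h3 := h33.trans hd
      have ht := card_tor_semis p hx
      rw [hgcd, mul_comm, hq] at ht
      rcases ht with e | e <;> rw [e] at h4 h3
      · exact Or.inl ⟨h3, by omega⟩
      · exact Or.inr (Or.inl ⟨h3, by omega⟩)
    · exfalso
      have hd := h2H.trans (Subgroup.card_dvd_of_le hle)
      have hN := card_normalizer_unip p hx1 hx
      rw [hgcd, hq] at hN
      have hd' : 2 ^ (a + 1) ∣ (q - 1) * q := by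
        rw [← hN, pow_succ]; exact mul_dvd_mul hd dvd_rfl
      have hd'' : 2 ^ (a + 1) ∣ q - 1 :=
        Nat.Coprime.dvd_of_dvd_mul_right
          ((Nat.prime_two.coprime_iff_not_dvd.2 (hndvd 2 Nat.prime_two (by norm_num))).pow_left _) hd'
      have h1 := (Nat.prime_two.pow_dvd_iff_le_factorization hm1).1 hd''
      have h2 := Nat.prime_two.factorization_pos_of_dvd (by omega : q + 1 ≠ 0) (by omega)
      have h3 := hv 2
      omega
    · refine Or.inr (Or.inr (Or.inl ?_))
      rw [ea, eb, hcases 1 (by rw [Nat.card_congr e.toEquiv, card_a4]) (one_dvd 2)]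
    · refine Or.inr (Or.inr (Or.inr ?_))
      rw [ea, eb, hcases 2 (by rw [Nat.card_congr e.toEquiv, card_s4]) dvd_rfl]
    · exfalso
      have := hH.1 5 Nat.prime_five (by rw [Nat.card_congr e.toEquiv, card_a5]; norm_num)
      simp at this
    · exfalso
      obtain ⟨s, m, hm, -, -, hc, -⟩ := sub_card p h
      have hps : p ∣ s := hp'.dvd_of_dvd_pow (by rw [hm, hq]; exact hpq : p ∣ s ^ m)
      have hpH : p ∣ Nat.card H := by
        rcases hc with hc | ⟨hc, -⟩
        · have hd : p ∣ Nat.card H * Nat.gcd 2 (s - 1) := hc ▸ dvd_mul_of_dvd_left hps _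
          refine (hp'.dvd_mul.1 hd).resolve_right fun h => ?_
          have := Nat.le_of_dvd two_pos (h.trans (Nat.gcd_dvd_left _ _))
          omega
        · exact hc ▸ dvd_mul_of_dvd_left hps _
      have := hH.1 p hp' hpH
      simp only [Set.mem_insert_iff, Set.mem_singleton_iff] at this
      omega
  · intro h
    suffices ∃ K : Subgroup PG, Nat.card K = 2 ^ a * 3 ^ b from
      this.imp fun K hK => isPiHall_of_card rfl rfl hK
    rcases h with ⟨h3, h4⟩ | ⟨h3, h4⟩ | h | h
    · obtain ⟨x, hx, hc⟩ := exists_split_tor (F := F) p (by omega)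
      rw [hgcd, hq] at hc
      have e2 := hv 2
      have e3 := hv 3
      rw [ea, v4 (q + 1) (by omega)] at e2
      rw [eb, Nat.factorization_eq_zero_of_not_dvd (by omega : ¬ 3 ∣ q + 1)] at e3
      refine exists_toral_hall p hx a b ?_ ?_
      · rw [mul_comm, hc]
        exact (Nat.prime_two.pow_dvd_iff_le_factorization hm1).2 (by omega)
      · refine Nat.Coprime.dvd_of_dvd_mul_right (Nat.Coprime.pow_left _ (by norm_num : Nat.Coprime 3 2)) ?_
        rw [hc]
        exact (Nat.prime_three.pow_dvd_iff_le_factorization hm1).2 (by omega)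
    · obtain ⟨x, hx, hc⟩ := exists_elliptic_tor (F := F) p
      rw [hgcd, hq] at hc
      have e2 := hv 2
      have e3 := hv 3
      rw [ea, v4 (q - 1) (by omega)] at e2
      rw [eb, Nat.factorization_eq_zero_of_not_dvd (by omega : ¬ 3 ∣ q - 1)] at e3
      refine exists_toral_hall p hx a b ?_ ?_
      · rw [mul_comm, hc]
        exact (Nat.prime_two.pow_dvd_iff_le_factorization (by omega : q + 1 ≠ 0)).2 (by omega)
      · refine Nat.Coprime.dvd_of_dvd_mul_right (Nat.Coprime.pow_left _ (by norm_num : Nat.Coprime 3 2)) ?_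
        rw [hc]
        exact (Nat.prime_three.pow_dvd_iff_le_factorization (by omega : q + 1 ≠ 0)).2 (by omega)
    · rw [ea, eb] at h
      obtain ⟨H, ⟨e⟩⟩ := (PKlein.alt_four_iff (F := F) p f (hq.trans hf)).2 (fun h => by omega)
      refine ⟨H, ?_⟩
      rw [Nat.card_congr e.toEquiv, card_a4]
      have : 2 * (2 ^ a * 3 ^ b) = 24 := by rw [← h, pow_add]; ring
      omega
    · rw [ea, eb] at h
      have ha3 : 1 + a = 4 := by
        refine le_antisymm (not_lt.1 fun hlt => ?_) ((Nat.pow_dvd_pow_iff_le_right (by norm_num)).1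
          (Nat.Coprime.dvd_of_dvd_mul_right (k := 2 ^ 4) (n := 3 ^ b) (Nat.Coprime.pow _ _ (by norm_num))
            (h ▸ (by norm_num : 2 ^ 4 ∣ 48))))
        have h32 : 2 ^ 5 ∣ 48 := h ▸ dvd_mul_of_dvd_left (pow_dvd_pow 2 hlt) _
        norm_num at h32
      have h16 : q ^ 2 % 16 = 1 := by
        have hd : 2 ^ 4 ∣ q ^ 2 - 1 := (Nat.prime_two.pow_dvd_iff_le_factorization hsq0).2 (by omega)
        have h1 : 1 ≤ q ^ 2 := Nat.one_le_pow _ _ (by omega)
        omega
      obtain ⟨H, ⟨e⟩⟩ := (PKlein.sym_four_iff hq).2 h16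
      refine ⟨H, ?_⟩
      rw [Nat.card_congr e.toEquiv, card_s4]
      have : 2 * (2 ^ a * 3 ^ b) = 48 := by rw [← h, pow_add]; ring
      omega

end Cfsg.Agent.Classical.Dickson2
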