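import Mathlib
import Cfsg.Agent.Classical.Dickson2.Dihedral
import Cfsg.Agent.Classical.PSLKlein

/-!
The stabilisers of the points of the projective line in PSL(2,q).
-/

set_option autoImplicit false

namespace Cfsg.Agent.Classical.Dickson2

open Matrix Cfsg.Agent.SL2Class
open scoped MatrixGroups

variable {F : Type*} [Field F]

local notation "SG" => Matrix.SpecialLinearGroup (Fin 2) F
local notation "M2" => Matrix (Fin 2) (Fin 2) F
local notation "PG" => Matrix.ProjectiveSpecialLinearGroup (Fin 2) F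
local notation:1024 "↥ₘ" A:1024 => ((A : Matrix.SpecialLinearGroup (Fin 2) F) : Matrix (Fin 2) (Fin 2) F)

/-- The elements of SL(2) fixing the line through `v`. -/
def lineStabSG (v : Fin 2 → F) : Subgroup (Matrix.SpecialLinearGroup (Fin 2) F) where
  carrier := {g | ∃ c : F, c ≠ 0 ∧ (g.1 *ᵥ v) = c • v}
  one_mem' := ⟨1, one_ne_zero, by simp⟩
  mul_mem' := by
    rintro g h ⟨c, hc, hg⟩ ⟨d, hd, hh⟩
    refine ⟨d * c, mul_ne_zero hd hc, ?_⟩
    rw [Matrix.SpecialLinearGroup.coe_mul, ← Matrix.mulVec_mulVec, hh, Matrix.mulVec_smul, hg, smul_smul]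
  inv_mem' := by
    rintro g ⟨c, hc, hg⟩
    refine ⟨c⁻¹, inv_ne_zero hc, ?_⟩
    have h := congrArg (fun w => (g⁻¹).1 *ᵥ w) hg
    simp only [Matrix.mulVec_mulVec, ← Matrix.SpecialLinearGroup.coe_mul, inv_mul_cancel,
      Matrix.SpecialLinearGroup.coe_one, Matrix.one_mulVec, Matrix.mulVec_smul] at h
    exact (eq_inv_smul_iff₀ hc).2 h.symm

/-- The elements of PSL(2) fixing the line through `v`. -/
def lineStab (v : Fin 2 → F) : Subgroup (Matrix.ProjectiveSpecialLinearGroup (Fin 2) F) :=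
  (lineStabSG v).map proj

theorem mem_lineStabSG {v : Fin 2 → F} {g : SG} :
    g ∈ lineStabSG v ↔ ∃ c : F, c ≠ 0 ∧ (↥ₘ g *ᵥ v) = c • v := Iff.rfl

theorem proj_mem_lineStab {v : Fin 2 → F} {g : SG} :
    proj g ∈ lineStab v ↔ ∃ c : F, c ≠ 0 ∧ (↥ₘ g *ᵥ v) = c • v := by
  rw [lineStab, ← Subgroup.mem_comap, Subgroup.comap_map_eq_self, mem_lineStabSG]
  intro z hz
  rcases mem_center_cases.1 (proj_eq_one.1 hz) with rfl | rfl
  · exact one_mem _
  · exact ⟨-1, neg_ne_zero.2 one_ne_zero, by simp [Matrix.neg_mulVec]⟩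

theorem eigen_ne_zero {v : Fin 2 → F} (hv : v ≠ 0) {g : SG} {c : F} (h : ↥ₘ g *ᵥ v = c • v) : c ≠ 0 := by
  intro hc
  subst hc
  have e := congrArg (fun w => (g⁻¹).1 *ᵥ w) h
  simp only [Matrix.mulVec_mulVec, ← Matrix.SpecialLinearGroup.coe_mul, inv_mul_cancel,
    Matrix.SpecialLinearGroup.coe_one, Matrix.one_mulVec, zero_smul, Matrix.mulVec_zero] at e
  exact hv e

theorem lineStabSG_smul {v : Fin 2 → F} {a : F} (ha : a ≠ 0) : lineStabSG (a • v) = lineStabSG v := by
  ext g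
  rw [mem_lineStabSG, mem_lineStabSG]
  refine exists_congr fun c => and_congr_right fun _ => ?_
  rw [Matrix.mulVec_smul, smul_comm c a v, smul_right_inj ha]

theorem lineStab_smul {v : Fin 2 → F} {a : F} (ha : a ≠ 0) : lineStab (a • v) = lineStab v := by
  rw [lineStab, lineStab, lineStabSG_smul ha]

/-- The cross product of two vectors. -/
def cross (v w : Fin 2 → F) : F := v 0 * w 1 - v 1 * w 0

theorem smul_of_cross {v w : Fin 2 → F} (hv : v ≠ 0) (h : cross v w = 0) : ∃ a : F, w = a • v := by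
  simp only [cross] at h
  by_cases h0 : v 0 = 0
  · have h1 : v 1 ≠ 0 := fun h1 => hv (by ext i; fin_cases i <;> simp [h0, h1])
    refine ⟨w 1 / v 1, funext fun i => ?_⟩
    fin_cases i
    · simp [h0] at h ⊢
      rcases h with h | h
      · exact absurd h h1
      · exact h
    · simp [div_mul_cancel₀ _ h1]
  · refine ⟨w 0 / v 0, funext fun i => ?_⟩
    fin_cases i
    · simp [div_mul_cancel₀ _ h0]
    · simp
      field_simp
      linear_combination h

theorem eq_zero_of_two {M : M2} {v w : Fin 2 → F} (hd : cross v w ≠ 0) (hv : M *ᵥ v = 0) (hw : M *ᵥ w = 0) :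
    M = 0 := by
  have a0 := congrFun hv 0
  have a1 := congrFun hv 1
  have b0 := congrFun hw 0
  have b1 := congrFun hw 1
  simp [Matrix.mulVec, dotProduct, Fin.sum_univ_two] at a0 a1 b0 b1
  simp only [cross] at hd
  ext i j
  fin_cases i <;> fin_cases j <;> simp only [Fin.zero_eta, Fin.mk_one, Matrix.zero_apply] <;>
    refine (mul_eq_zero.1 ?_).resolve_right hd
  · linear_combination w 1 * a0 - v 1 * b0
  · linear_combination v 0 * b0 - w 0 * a0
  · linear_combination w 1 * a1 - v 1 * b1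
  · linear_combination v 0 * b1 - w 0 * a1

theorem proportional_of_eigen {g : SG} (hg : NonScalar g) {v w : Fin 2 → F} (hv : v ≠ 0) {c : F}
    (hgv : ↥ₘ g *ᵥ v = c • v) (hgw : ↥ₘ g *ᵥ w = c • w) : ∃ a : F, w = a • v := by
  refine smul_of_cross hv (by_contra fun hd => hg ?_)
  have h0 := eq_zero_of_two (M := ↥ₘ g - c • (1 : M2)) hd
    (by rw [Matrix.sub_mulVec, Matrix.smul_mulVec, Matrix.one_mulVec, hgv, sub_self])
    (by rw [Matrix.sub_mulVec, Matrix.smul_mulVec, Matrix.one_mulVec, hgw, sub_self])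
  have e := sub_eq_zero.1 h0
  exact ⟨by simp [e], by simp [e], by simp [e]⟩

theorem root_of_eigen {g : SG} {v : Fin 2 → F} (hv : v ≠ 0) {c : F} (h : ↥ₘ g *ᵥ v = c • v) :
    c * c - tr g * c + 1 = 0 := by
  have hd : (↥ₘ g - c • (1 : M2)).det = 0 :=
    Matrix.exists_mulVec_eq_zero_iff.1 ⟨v, hv, by
      rw [Matrix.sub_mulVec, Matrix.smul_mulVec, Matrix.one_mulVec, h, sub_self]⟩
  rw [det_fin_two] at hd
  simp [tr] at hd ⊢
  linear_combination hd - det_eq g

theorem exists_eigen {g : SG} {c : F} (h : c * c - tr g * c + 1 = 0) :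
    ∃ v : Fin 2 → F, v ≠ 0 ∧ ↥ₘ g *ᵥ v = c • v := by
  have hd : (↥ₘ g - c • (1 : M2)).det = 0 := by
    rw [det_fin_two]
    simp [tr] at h ⊢
    linear_combination h + det_eq g
  obtain ⟨v, hv, he⟩ := Matrix.exists_mulVec_eq_zero_iff.2 hd
  rw [Matrix.sub_mulVec, Matrix.smul_mulVec, Matrix.one_mulVec, sub_eq_zero] at he
  exact ⟨v, hv, he⟩

/-- The first basis vector. -/
def e0 : Fin 2 → F := ![1, 0]

theorem e0_ne_zero : (e0 : Fin 2 → F) ≠ 0 := fun h => by simpa [e0] using congrFun h 0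

theorem mulVec_e0 (M : M2) : M *ᵥ e0 = ![M 0 0, M 1 0] := by
  ext i
  fin_cases i <;> simp [e0, Matrix.mulVec, dotProduct, Fin.sum_univ_two]

theorem exists_sl_of_vec {v : Fin 2 → F} (hv : v ≠ 0) : ∃ k : SG, ↥ₘ k *ᵥ e0 = v := by
  by_cases h0 : v 0 = 0
  · have h1 : v 1 ≠ 0 := fun h1 => hv (by ext i; fin_cases i <;> simp [h0, h1])
    refine ⟨⟨!![0, -(v 1)⁻¹; v 1, 0], by simp [det_fin_two_of, h1]⟩, ?_⟩
    rw [mulVec_e0]
    ext i
    fin_cases i <;> simp [h0]
  · refine ⟨⟨!![v 0, 0; v 1, (v 0)⁻¹], by simp [det_fin_two_of, h0]⟩, ?_⟩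
    rw [mulVec_e0]
    ext i
    fin_cases i <;> simp

theorem eigen_conj_iff (k g : SG) (c : F) :
    ↥ₘ g *ᵥ (↥ₘ k *ᵥ e0) = c • (↥ₘ k *ᵥ e0) ↔ ↥ₘ(k⁻¹ * g * k) *ᵥ e0 = c • e0 := by
  simp only [Matrix.SpecialLinearGroup.coe_mul, ← Matrix.mulVec_mulVec]
  constructor
  · intro h
    rw [h, Matrix.mulVec_smul, Matrix.mulVec_mulVec, ← Matrix.SpecialLinearGroup.coe_mul, inv_mul_cancel,
      Matrix.SpecialLinearGroup.coe_one, Matrix.one_mulVec]
  · intro h
    have e := congrArg (fun w => ↥ₘ k *ᵥ w) h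
    simp only [Matrix.mulVec_smul] at e
    rwa [Matrix.mulVec_mulVec _ ↥ₘ k ↥ₘ(k⁻¹), ← Matrix.SpecialLinearGroup.coe_mul, mul_inv_cancel,
      Matrix.SpecialLinearGroup.coe_one, Matrix.one_mulVec] at e

theorem lineStab_e0 [Fintype F] : lineStab (e0 : Fin 2 → F) = Subgroup.normalizer ((rootP : Subgroup PG) : Set PG) := by
  ext y
  obtain ⟨g, rfl⟩ := proj_surjective y
  rw [proj_mem_lineStab, proj_mem_normalizer_rootP, mulVec_e0]
  constructor
  · rintro ⟨c, -, h⟩
    simpa [e0] using congrFun h 1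
  · intro h
    have hd := det_eq g
    rw [h, mul_zero, sub_zero] at hd
    exact ⟨_, left_ne_zero_of_mul_eq_one hd, by ext i; fin_cases i <;> simp [e0, h]⟩

theorem lineStab_mulVec (k : SG) :
    lineStab (↥ₘ k *ᵥ e0) = (lineStab (e0 : Fin 2 → F)).map (MulAut.conj (proj k)).toMonoidHom := by
  ext y
  obtain ⟨g, rfl⟩ := proj_surjective y
  rw [mem_map_conj, proj_mem_lineStab, ← map_inv, ← map_mul, ← map_mul, proj_mem_lineStab]
  exact exists_congr fun c => and_congr_right fun _ => eigen_conj_iff k g c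

variable [Fintype F] (p : ℕ) [Fact p.Prime] [CharP F p]

theorem lineStab_eq_normalizer {v : Fin 2 → F} (hv : v ≠ 0) :
    ∃ u : PG, u ≠ 1 ∧ u ^ p = 1 ∧ lineStab v = Subgroup.normalizer (tor u : Set PG) := by
  obtain ⟨k, rfl⟩ := exists_sl_of_vec hv
  obtain ⟨x, hx1, hxp, hx⟩ := exists_eq_tor_rootP (F := F) p
  refine ⟨proj k * x * (proj k)⁻¹, fun e => hx1 (conj_eq_one_iff.1 e), ?_, ?_⟩
  · rw [conj_pow, hxp, mul_one, mul_inv_cancel]
  · rw [lineStab_mulVec, lineStab_e0, hx, tor_conj, normalizer_map_conj]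

theorem exists_lineStab {u : PG} (hu : u ≠ 1) (hup : u ^ p = 1) :
    ∃ v : Fin 2 → F, v ≠ 0 ∧ Subgroup.normalizer (tor u : Set PG) = lineStab v := by
  obtain ⟨c, hc⟩ := exists_conj_rootP (F := F) p hu hup
  obtain ⟨k, rfl⟩ := proj_surjective c
  refine ⟨↥ₘ k *ᵥ e0, fun h => e0_ne_zero (F := F) ?_, ?_⟩
  · have e := congrArg (fun w => ↥ₘ(k⁻¹) *ᵥ w) h
    simp only [Matrix.mulVec_mulVec, ← Matrix.SpecialLinearGroup.coe_mul, inv_mul_cancel,
      Matrix.SpecialLinearGroup.coe_one, Matrix.one_mulVec, Matrix.mulVec_zero] at e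
    exact e
  · rw [lineStab_mulVec, lineStab_e0, hc, normalizer_map_conj]

include p in
theorem card_lineStab {v : Fin 2 → F} (hv : v ≠ 0) :
    Nat.card (lineStab v) * Nat.gcd 2 (Fintype.card F - 1) = (Fintype.card F - 1) * Fintype.card F := by
  obtain ⟨u, h1, h2, e⟩ := lineStab_eq_normalizer p hv
  rw [e, card_normalizer_unip p h1 h2]

include p in
theorem solvable_lineStab {v : Fin 2 → F} (hv : v ≠ 0) {H : Subgroup PG} (hH : H ≤ lineStab v) :
    Group.IsSolvable H := by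
  obtain ⟨u, h1, h2, e⟩ := lineStab_eq_normalizer p hv
  exact solvable_borel p h1 h2 (e ▸ hH)

omit [Fintype F] [Fact p.Prime] [CharP F p] in
/-- An element with two eigenvalues fixes exactly two lines. -/
theorem split_lines {g : SG} (ht : tr g * tr g ≠ 4) {r : F} (hr : r * r - tr g * r + 1 = 0) :
    ∃ v w : Fin 2 → F, v ≠ 0 ∧ w ≠ 0 ∧ lineStab v ⊓ lineStab w = torus g ∧
      (∀ u : Fin 2 → F, u ≠ 0 → proj g ∈ lineStab u → lineStab u = lineStab v ∨ lineStab u = lineStab w) ∧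
      (proj g * proj g ≠ 1 → ∀ h : SG, proj (h * g * h⁻¹) = proj g⁻¹ →
        proj h ∉ lineStab v ∧ proj h ∉ lineStab w) := by
  have hg := nonScalar_of_sq_ne ht
  set s := tr g - r with hs
  have hs' : s * s - tr g * s + 1 = 0 := by rw [hs]; linear_combination hr
  obtain ⟨v, hv, hgv⟩ := exists_eigen hr
  obtain ⟨w, hw, hgw⟩ := exists_eigen hs'
  have hne : r ≠ s := roots_ne hr ht
  have hd : cross v w ≠ 0 := fun h => by
    obtain ⟨a, rfl⟩ := smul_of_cross hv h
    rw [Matrix.mulVec_smul, hgv] at hgw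
    have ha : a ≠ 0 := fun ha => hw (by rw [ha, zero_smul])
    rw [smul_comm s a, smul_right_inj ha] at hgw
    exact hne (smul_left_injective F hv hgw)
  refine ⟨v, w, hv, hw, ?_, ?_, ?_⟩
  · ext y
    obtain ⟨h, rfl⟩ := proj_surjective y
    rw [Subgroup.mem_inf, proj_mem_lineStab, proj_mem_lineStab, proj_mem_torus_iff,
      Subgroup.mem_centralizer_singleton_iff]
    constructor
    · rintro ⟨⟨a, -, ha⟩, b, -, hb⟩
      refine Subtype.ext ?_
      rw [Matrix.SpecialLinearGroup.coe_mul, Matrix.SpecialLinearGroup.coe_mul]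
      refine sub_eq_zero.1 (eq_zero_of_two hd ?_ ?_) <;>
        rw [Matrix.sub_mulVec, ← Matrix.mulVec_mulVec, ← Matrix.mulVec_mulVec]
      · rw [hgv, Matrix.mulVec_smul, ha, Matrix.mulVec_smul, hgv, smul_comm, sub_self]
      · rw [hgw, Matrix.mulVec_smul, hb, Matrix.mulVec_smul, hgw, smul_comm, sub_self]
    · intro hc
      have key : ∀ (z : Fin 2 → F) (c : F), z ≠ 0 → ↥ₘ g *ᵥ z = c • z →
          ∃ a : F, a ≠ 0 ∧ ↥ₘ h *ᵥ z = a • z := by
        intro z c hz hgz
        have e : ↥ₘ g *ᵥ (↥ₘ h *ᵥ z) = c • (↥ₘ h *ᵥ z) := by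
          rw [Matrix.mulVec_mulVec, ← Matrix.SpecialLinearGroup.coe_mul, ← hc,
            Matrix.SpecialLinearGroup.coe_mul, ← Matrix.mulVec_mulVec, hgz, Matrix.mulVec_smul]
        obtain ⟨a, ha⟩ := proportional_of_eigen hg hz hgz e
        exact ⟨a, eigen_ne_zero hz ha, ha⟩
      exact ⟨key v r hv hgv, key w s hw hgw⟩
  · intro u hu hgu
    obtain ⟨c, -, hc⟩ := proj_mem_lineStab.1 hgu
    have hc' := root_of_eigen hu hc
    have : c = r ∨ c = s := by
      have e : (c - r) * (c - s) = 0 := by rw [hs]; linear_combination hc' - hr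
      exact (mul_eq_zero.1 e).imp sub_eq_zero.1 sub_eq_zero.1
    rcases this with rfl | rfl
    · obtain ⟨a, rfl⟩ := proportional_of_eigen hg hv hgv hc
      exact Or.inl (lineStab_smul fun ha => hu (by rw [ha, zero_smul]))
    · obtain ⟨a, rfl⟩ := proportional_of_eigen hg hw hgw hc
      exact Or.inr (lineStab_smul fun ha => hu (by rw [ha, zero_smul]))
  · intro hx h hh
    have key : ∀ (z : Fin 2 → F) (c : F), z ≠ 0 → ↥ₘ g *ᵥ z = c • z → proj h ∈ lineStab z → False := by
      intro z c hz hgz hhz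
      obtain ⟨a, ha0, ha⟩ := proj_mem_lineStab.1 hhz
      have hh' : h * g = g⁻¹ * h ∨ h * g = -(g⁻¹ * h) := by
        rcases proj_eq_iff.1 hh.symm with e | e
        · exact Or.inl (mul_inv_eq_iff_eq_mul.1 e)
        · refine Or.inr ?_
          rw [mul_inv_eq_iff_eq_mul.1 e, neg_eq_mul, mul_assoc, ← neg_eq_mul]
      have hc0 := eigen_ne_zero hz hgz
      have hinv : ↥ₘ(g⁻¹) *ᵥ z = c⁻¹ • z := by
        have e := congrArg (fun t => ↥ₘ(g⁻¹) *ᵥ t) hgz
        simp only [Matrix.mulVec_mulVec, ← Matrix.SpecialLinearGroup.coe_mul, inv_mul_cancel,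
          Matrix.SpecialLinearGroup.coe_one, Matrix.one_mulVec, Matrix.mulVec_smul] at e
        exact (eq_inv_smul_iff₀ hc0).2 e.symm
      have hcc : c * c = 1 ∨ c * c = -1 := by
        rcases hh' with e | e <;>
          have e' := congrArg (fun A : SG => ↥ₘ A *ᵥ z) e <;>
          simp only [Matrix.SpecialLinearGroup.coe_mul, Matrix.SpecialLinearGroup.coe_neg, Matrix.neg_mulVec,
            ← Matrix.mulVec_mulVec, hgz, ha, Matrix.mulVec_smul, hinv, smul_smul] at e'
        · left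
          have := smul_left_injective F hz e'
          field_simp at this
          linear_combination this
        · right
          rw [← neg_smul] at e'
          have := smul_left_injective F hz e'
          field_simp at this
          linear_combination this
      have hroot := root_of_eigen hz hgz
      rcases hcc with hcc | hcc
      · exact ht (mul_left_cancel₀ (mul_ne_zero hc0 hc0) (by
          linear_combination (-4 : F) * hcc - (tr g * c + (c * c + 1)) * hroot + (c * c + 3) * hcc))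
      · have htr : tr g = 0 := (mul_eq_zero.1 (show tr g * c = 0 by linear_combination hcc - hroot)).resolve_right hc0
        refine hx ?_
        rw [← map_mul, proj_eq_one, mem_center_cases]
        exact Or.inr (PKlein.mem_T0_of_tr htr)
    exact ⟨key v r hv hgv, key w s hw hgw⟩

omit [Fintype F] [Fact p.Prime] [CharP F p] in
theorem noRoot_lines {g : SG} (ht : NoRoot (tr g)) {u : Fin 2 → F} (hu : u ≠ 0) : proj g ∉ lineStab u := by
  intro h
  obtain ⟨c, -, hc⟩ := proj_mem_lineStab.1 h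
  exact ht c (root_of_eigen hu hc)

end Cfsg.Agent.Classical.Dickson2
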