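import Mathlib
import Cfsg.Agent.Classical.Dickson2.Tools
import Cfsg.Agent.Classical.PSLKlein

/-!
Conjugating the polyhedral subgroups into PGL(2) over a small subfield, and the groups so obtained.
-/

set_option autoImplicit false

namespace Cfsg.Agent.Classical.Dickson2

open Matrix Cfsg.Agent.SL2Class
open scoped MatrixGroups

section Pairs

variable {F : Type*} [Field F]

local notation "SG" => Matrix.SpecialLinearGroup (Fin 2) F
local notation "M2" => Matrix (Fin 2) (Fin 2) F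
local notation:1024 "↥ₘ" A:1024 => ((A : Matrix.SpecialLinearGroup (Fin 2) F) : Matrix (Fin 2) (Fin 2) F)

theorem mul_eq_of_commute {g b b' : M2} (hb : b * b = -1) (hb' : b' * b' = -1)
    (hgb : g * b = -(b * g)) (hgb' : g * b' = -(b' * g)) :
    (b' * b - 1) * b = b' * (b' * b - 1) ∧ (b' * b - 1) * g = g * (b' * b - 1) := by
  constructor
  · rw [sub_mul, mul_sub, one_mul, mul_one, mul_assoc, hb, ← mul_assoc b' b', hb']
    rw [Matrix.mul_neg, Matrix.neg_mul, mul_one, one_mul]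
    abel
  · rw [sub_mul, mul_sub, one_mul, mul_one, ← mul_assoc g b', hgb', Matrix.neg_mul, mul_assoc b' g b, hgb,
      Matrix.mul_neg, neg_neg, mul_assoc]

theorem pair_conj_aux (h2 : (2 : F) ≠ 0) {a b b' : SG} (ha : a * a = -1) (hb : b * b = -1) (hb' : b' * b' = -1)
    (hab : a * b = -(b * a)) (hab' : a * b' = -(b' * a)) :
    ∃ Z : M2, Z.det ≠ 0 ∧ Z * ↥ₘ a = ↥ₘ a * Z ∧ Z * ↥ₘ b = ↥ₘ b' * Z := by
  have hm : ∀ x y : SG, x = y → ↥ₘ x = ↥ₘ y := fun x y h => h ▸ rfl
  have ha' := hm _ _ ha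
  have hb0 := hm _ _ hb
  have hb0' := hm _ _ hb'
  have hab0 := hm _ _ hab
  have hab0' := hm _ _ hab'
  simp only [Matrix.SpecialLinearGroup.coe_mul, Matrix.SpecialLinearGroup.coe_neg,
    Matrix.SpecialLinearGroup.coe_one] at ha' hb0 hb0' hab0 hab0'
  obtain ⟨hns, htr, -, -⟩ := PKlein.t0_props h2 ha
  obtain ⟨hz1, hz2⟩ := mul_eq_of_commute hb0 hb0' hab0 hab0'
  obtain ⟨u, v, huv⟩ := exists_lin hns (M := ↥ₘ b' * ↥ₘ b) (by
    rw [sub_mul, mul_sub, one_mul, mul_one] at hz2
    exact sub_left_inj.1 hz2)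
  have hdet : N2 (tr a) u v = 1 := by rw [← det_lin, ← huv, Matrix.det_mul, b'.2, b.2, one_mul]
  by_cases hu : u = 1
  · refine ⟨↥ₘ a, by rw [a.2]; exact one_ne_zero, rfl, ?_⟩
    have hv : v = 0 := by
      rw [hu, htr] at hdet
      simp only [N2] at hdet
      exact mul_self_eq_zero.1 (by linear_combination hdet)
    rw [hu, hv, lin_one] at huv
    have e : ↥ₘ b' = -↥ₘ b := by
      have h := congrArg (fun M : M2 => M * ↥ₘ b) huv
      simp only [mul_assoc, hb0, one_mul, Matrix.mul_neg, mul_one] at h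
      rw [← h, neg_neg]
    rw [e, hab0, Matrix.neg_mul]
  · refine ⟨↥ₘ b' * ↥ₘ b - 1, ?_, hz2, hz1⟩
    rw [huv]
    have e : lin a u v - 1 = lin a (u - 1) v := by
      ext i j
      simp [lin_apply]
      ring
    rw [e, det_lin, htr]
    simp only [N2] at hdet ⊢
    rw [htr] at hdet
    intro h
    exact sub_ne_zero.2 hu (mul_left_cancel₀ h2 (by linear_combination hdet - h))

theorem conjSL_eq_of_mul {P : GL (Fin 2) F} {g g' : SG} (h : P.1 * ↥ₘ g = ↥ₘ g' * P.1) :
    AutPSL.conjSL P g = g' := by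
  refine Subtype.ext ?_
  rw [AutPSL.conjSL_coe, h, mul_assoc, Units.mul_inv, mul_one]

/-- Anticommuting pairs of square roots of minus one are conjugate under GL(2). -/
theorem pair_conj (h2 : (2 : F) ≠ 0) {a b a' b' : SG} (ha : a * a = -1) (hb : b * b = -1)
    (hab : a * b = -(b * a)) (ha' : a' * a' = -1) (hb' : b' * b' = -1) (hab' : a' * b' = -(b' * a')) :
    ∃ P : GL (Fin 2) F, AutPSL.conjSL P a = a' ∧ AutPSL.conjSL P b = b' := by
  obtain ⟨P, hP, hPa⟩ := exists_conjugator (PKlein.t0_props h2 ha).1 (PKlein.t0_props h2 ha').1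
    ((PKlein.t0_props h2 ha).2.1.trans (PKlein.t0_props h2 ha').2.1.symm)
  set P' := Matrix.GeneralLinearGroup.mkOfDetNeZero P hP with hP'
  have ea : AutPSL.conjSL P' a = a' := conjSL_eq_of_mul (by simpa [hP'] using hPa)
  have hn : ∀ x : SG, AutPSL.conjSL P' (-x) = -AutPSL.conjSL P' x := fun x => Subtype.ext (by
    rw [Matrix.SpecialLinearGroup.coe_neg, AutPSL.conjSL_coe, AutPSL.conjSL_coe,
      Matrix.SpecialLinearGroup.coe_neg, Matrix.mul_neg, Matrix.neg_mul])
  have eb : AutPSL.conjSL P' b * AutPSL.conjSL P' b = -1 := by rw [← map_mul, hb, hn, map_one]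
  have eab : a' * AutPSL.conjSL P' b = -(AutPSL.conjSL P' b * a') := by
    rw [← ea, ← map_mul, ← map_mul, hab, hn]
  obtain ⟨Z, hZ, hZa, hZb⟩ := pair_conj_aux h2 ha' eb hb' eab hab'
  set Z' := Matrix.GeneralLinearGroup.mkOfDetNeZero Z hZ with hZ'
  refine ⟨Z' * P', ?_, ?_⟩
  · rw [map_mul, MulAut.mul_apply, ea]
    exact conjSL_eq_of_mul (by simpa [hZ'] using hZa)
  · rw [map_mul, MulAut.mul_apply]
    exact conjSL_eq_of_mul (by simpa [hZ'] using hZb)

/-- The matrix `[[x, y], [y, -x]]` with `x² + y² = -1`. -/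
def symJ (x y : F) (h : x * x + y * y = -1) : SG :=
  ⟨!![x, y; y, -x], by rw [det_fin_two_of]; linear_combination -h⟩

theorem coe_symJ (x y : F) (h : x * x + y * y = -1) : ↥ₘ(symJ x y h) = !![x, y; y, -x] := rfl

theorem coe_map_symJ {K : Type*} [Field K] (ι : K →+* F) (x y : K) (h : x * x + y * y = -1) :
    ↥ₘ(Matrix.SpecialLinearGroup.map ι (symJ x y h)) = !![ι x, ι y; ι y, -ι x] := by
  rw [← map_neg ι]
  ext i j
  fin_cases i <;> fin_cases j <;> rfl

theorem coe_map_comp {K : Type*} [Field K] (ι : K →+* F) :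
    ↥ₘ(Matrix.SpecialLinearGroup.map ι (comp (0 : K))) = !![0, -1; 1, 0] := by
  show (!![0, -1; 1, 0] : Matrix (Fin 2) (Fin 2) K).map ι = _
  ext i j
  fin_cases i <;> fin_cases j <;> simp

theorem comp_symJ (x y : F) (h : x * x + y * y = -1) :
    comp (0 : F) * comp 0 = -1 ∧ symJ x y h * symJ x y h = -1 ∧
      comp (0 : F) * symJ x y h = -(symJ x y h * comp 0) := by
  refine ⟨?_, ?_, ?_⟩ <;> refine Subtype.ext ?_ <;>
    simp only [Matrix.SpecialLinearGroup.coe_mul, Matrix.SpecialLinearGroup.coe_neg,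
      Matrix.SpecialLinearGroup.coe_one, coe_comp, coe_symJ] <;>
    ext i j <;> fin_cases i <;> fin_cases j <;> simp [Matrix.mul_apply, Fin.sum_univ_two, Matrix.vecMul, dotProduct] <;>
    first
      | linear_combination h
      | ring1

theorem scalar_of_commute (h2 : (2 : F) ≠ 0) {x y : F} (h : x * x + y * y = -1) {Z : M2}
    (hJ : Z * ↥ₘ(comp (0 : F)) = ↥ₘ(comp (0 : F)) * Z)
    (hB : Z * ↥ₘ(symJ x y h) = ↥ₘ(symJ x y h) * Z) : Z = Z 0 0 • 1 := by
  have a00 := congrFun (congrFun hJ 0) 0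
  have a01 := congrFun (congrFun hJ 0) 1
  have b00 := congrFun (congrFun hB 0) 0
  have b01 := congrFun (congrFun hB 0) 1
  simp [coe_comp, Matrix.mul_apply, Fin.sum_univ_two] at a00 a01
  simp [coe_symJ, Matrix.mul_apply, Fin.sum_univ_two] at b00 b01
  have hy : y * (Z 1 0) * 2 = 0 := by linear_combination -b00 + y * a00
  have hx : x * (Z 1 0) * 2 = 0 := by linear_combination b01 - y * a01 + 2 * x * a00
  have hc : Z 1 0 = 0 := by
    have h2' : (x * x + y * y) * (Z 1 0 * 2) = 0 := by linear_combination x * hx + y * hy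
    rw [h] at h2'
    simpa [h2] using h2'
  have hb : Z 0 1 = 0 := by linear_combination a00 - hc
  ext i j
  fin_cases i <;> fin_cases j <;> simp [hc, hb]
  linear_combination -a01

end Pairs

variable {F : Type*} [Field F] {K : Type*} [Field K]

local notation "SG" => Matrix.SpecialLinearGroup (Fin 2) F
local notation "PG" => Matrix.ProjectiveSpecialLinearGroup (Fin 2) F

theorem mem_range_of_scalar (ι : K →+* F) {g : SG} {c : F} (hc : c ≠ 0) (M : Matrix (Fin 2) (Fin 2) K)
    (h : g.1 = c • M.map ι) :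
    ProjectiveSpecialLinearGroup.toPGL (proj g) ∈ (SubfieldPSL.pglMap ι).range := by
  have hdet : M.det ≠ 0 := by
    intro h0
    have e := congrArg Matrix.det h
    rw [g.2, Matrix.det_smul, ← RingHom.mapMatrix_apply, ← RingHom.map_det, h0, map_zero, mul_zero] at e
    exact one_ne_zero e
  refine ⟨ProjGenLinGroup.mk (Matrix.GeneralLinearGroup.mkOfDetNeZero _ hdet), ?_⟩
  rw [SubfieldPSL.pglMap_mk]
  show _ = ProjGenLinGroup.mk (Matrix.SpecialLinearGroup.toGL g)
  rw [ProjGenLinGroup.mk_eq_mk_iff]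
  refine ⟨Units.mk0 c hc, Units.ext ?_⟩
  rw [Units.val_mul, show (Matrix.SpecialLinearGroup.toGL g).1 = g.1 from rfl, h]
  ext i j
  fin_cases i <;> fin_cases j <;>
    simp [Matrix.mul_apply, Fin.sum_univ_two, Matrix.GeneralLinearGroup.mkOfDetNeZero] <;> ring

/-- The subgroup of PSL(2,F) which lies, after the automorphism `φ`, in PGL(2) over the subfield. -/
def subOver (ι : K →+* F) (φ : MulAut (Matrix.ProjectiveSpecialLinearGroup (Fin 2) F)) :
    Subgroup (Matrix.ProjectiveSpecialLinearGroup (Fin 2) F) :=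
  ((SubfieldPSL.pglMap ι).range.comap ProjectiveSpecialLinearGroup.toPGL).comap φ.toMonoidHom

theorem mem_subOver {ι : K →+* F} {φ : MulAut PG} {y : PG} :
    y ∈ subOver ι φ ↔ ProjectiveSpecialLinearGroup.toPGL (φ y) ∈ (SubfieldPSL.pglMap ι).range := Iff.rfl

theorem conjA_proj (P : GL (Fin 2) F) (g : SG) : AutPSL.conjA P (proj g) = proj (AutPSL.conjSL P g) := rfl

variable [Fintype F] [Fintype K]

theorem klein_frame (h2 : (2 : F) ≠ 0) (ι : K →+* F) (V : Subgroup PG) [IsKleinFour V] :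
    ∃ (x y : K) (h : x * x + y * y = -1) (a b : SG) (P : GL (Fin 2) F),
      proj a ∈ V ∧ proj b ∈ V ∧ proj a ≠ 1 ∧ proj b ≠ 1 ∧ proj a ≠ proj b ∧
      AutPSL.conjSL P a = Matrix.SpecialLinearGroup.map ι (comp 0) ∧
      AutPSL.conjSL P b = Matrix.SpecialLinearGroup.map ι (symJ x y h) := by
  have h2K : (2 : K) ≠ 0 := fun h => h2 (by rw [← map_ofNat ι 2, h, map_zero])
  obtain ⟨x, y, hxy⟩ := exists_N2_eq (F := K) (t := 0) (Or.inl (by
    rw [mul_zero]
    exact fun e => mul_ne_zero h2K h2K (by linear_combination -e))) (-1)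
  have hxy' : x * x + y * y = -1 := by simpa [N2] using hxy
  obtain ⟨u, v, hu, hv, u1, v1, huv⟩ := KleinN.exists_basis V
  obtain ⟨a, rfl⟩ := proj_surjective u
  obtain ⟨b, rfl⟩ := proj_surjective v
  obtain ⟨ha, hb, hab⟩ := PKlein.lifts_of_mem h2 V hu hv u1 v1 huv (g := a) (h := b) rfl rfl
  obtain ⟨e1, e2, e3⟩ := comp_symJ x y hxy'
  have hneg : ∀ g : Matrix.SpecialLinearGroup (Fin 2) K,
      Matrix.SpecialLinearGroup.map ι (-g) = -Matrix.SpecialLinearGroup.map ι g := fun g => Subtype.ext (by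
    ext i j; simp)
  obtain ⟨P, hP1, hP2⟩ := pair_conj h2 ha hb hab
    (a' := Matrix.SpecialLinearGroup.map ι (comp 0)) (b' := Matrix.SpecialLinearGroup.map ι (symJ x y hxy'))
    (by rw [← map_mul, e1, hneg, map_one]) (by rw [← map_mul, e2, hneg, map_one])
    (by rw [← map_mul, ← map_mul, e3, hneg])
  exact ⟨x, y, hxy', a, b, P, hu, hv, u1, v1, huv, hP1, hP2⟩

theorem realize_normalizer (h2 : (2 : F) ≠ 0) (ι : K →+* F) (V : Subgroup PG) [IsKleinFour V] (M : Subgroup PG)
    (hM : M ≤ Subgroup.normalizer (V : Set PG)) : ∃ φ : MulAut PG, M ≤ subOver ι φ := by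
  classical
  have h2K : (2 : K) ≠ 0 := fun h => h2 (by rw [← map_ofNat ι 2, h, map_zero])
  obtain ⟨x, y, hxy, a, b, P, hu, hv, u1, v1, huv, hP1, hP2⟩ := klein_frame h2 ι V
  refine ⟨AutPSL.conjA P, fun z hz => ?_⟩
  obtain ⟨g, rfl⟩ := proj_surjective z
  set m := Matrix.SpecialLinearGroup.map (n := Fin 2) ι with hm
  set h := AutPSL.conjSL P g with hh
  have hminj : Function.Injective m := fun A B e => Subtype.ext (by
    ext i j
    exact ι.injective (congrArg (fun S : SG => S.1 i j) e))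
  have hneg : ∀ A, m (-A) = -m A := fun A => Subtype.ext (by ext i j; simp [hm])
  have key : ∀ c : SG, proj c ∈ V → ∀ c0, AutPSL.conjSL P c = m c0 →
      ∃ d0 : Matrix.SpecialLinearGroup (Fin 2) K, h * AutPSL.conjSL P c * h⁻¹ = m d0 := by
    intro c hc c0 _
    have hmem : proj (g * c * g⁻¹) ∈ V := by
      rw [map_mul, map_mul, map_inv]
      exact (Subgroup.mem_normalizer_iff.1 (hM hz) _).1 hc
    have e : h * AutPSL.conjSL P c * h⁻¹ = AutPSL.conjSL P (g * c * g⁻¹) := by rw [hh, map_mul, map_mul, map_inv]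
    rw [e]
    have hneg' : ∀ w, AutPSL.conjSL P (-w) = -AutPSL.conjSL P w := fun w => Subtype.ext (by
      rw [Matrix.SpecialLinearGroup.coe_neg, AutPSL.conjSL_coe, AutPSL.conjSL_coe,
        Matrix.SpecialLinearGroup.coe_neg, Matrix.mul_neg, Matrix.neg_mul])
    have lift : ∀ w w' : SG, proj w = proj w' → ∀ w0, AutPSL.conjSL P w' = m w0 → ∃ d0, AutPSL.conjSL P w = m d0 := by
      intro w w' e w0 he
      rcases proj_eq_iff.1 e with rfl | rfl
      · exact ⟨w0, he⟩
      · refine ⟨-w0, ?_⟩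
        rw [hneg, ← he, hneg', PKlein.neg_neg']
    rcases KleinN.mem_cases V hu hv u1 v1 huv hmem with e' | e' | e' | e'
    · exact lift _ 1 (by rw [e', map_one]) 1 (by rw [map_one, map_one])
    · exact lift _ a e' _ hP1
    · exact lift _ b e' _ hP2
    · exact lift _ (a * b) (by rw [e', map_mul]) (comp 0 * symJ x y hxy) (by rw [map_mul, hP1, hP2, map_mul])
  obtain ⟨A', hA'⟩ := key a hu _ hP1
  obtain ⟨B', hB'⟩ := key b hv _ hP2
  rw [hP1] at hA'
  rw [hP2] at hB'
  obtain ⟨e1, e2, e3⟩ := comp_symJ x y hxy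
  have hA2 : A' * A' = -1 := hminj (by
    rw [map_mul, ← hA', hneg, map_one,
      show h * m (comp 0) * h⁻¹ * (h * m (comp 0) * h⁻¹) = h * m (comp 0 * comp 0) * h⁻¹ by rw [map_mul]; group,
      e1, hneg, map_one, PKlein.mul_neg', mul_one, PKlein.neg_mul', mul_inv_cancel])
  have hB2 : B' * B' = -1 := hminj (by
    rw [map_mul, ← hB', hneg, map_one,
      show h * m (symJ x y hxy) * h⁻¹ * (h * m (symJ x y hxy) * h⁻¹) = h * m (symJ x y hxy * symJ x y hxy) * h⁻¹ by
        rw [map_mul]; group,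
      e2, hneg, map_one, PKlein.mul_neg', mul_one, PKlein.neg_mul', mul_inv_cancel])
  have hAB : A' * B' = -(B' * A') := hminj (by
    rw [map_mul, hneg, map_mul, ← hA', ← hB',
      show h * m (comp 0) * h⁻¹ * (h * m (symJ x y hxy) * h⁻¹) = h * m (comp 0 * symJ x y hxy) * h⁻¹ by
        rw [map_mul]; group,
      e3, hneg, PKlein.mul_neg', PKlein.neg_mul', map_mul]
    congr 1
    group)
  obtain ⟨Q, hQ1, hQ2⟩ := pair_conj h2K e1 e2 e3 hA2 hB2 hAB
  have hQ : ∀ c0 d0, AutPSL.conjSL Q c0 = d0 → h * m c0 * h⁻¹ = m d0 →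
      (Q.1.map ι).adjugate * h.1 * (m c0).1 = (m c0).1 * ((Q.1.map ι).adjugate * h.1) := by
    intro c0 d0 e1 e2
    have f1 : h.1 * (m c0).1 = (m d0).1 * h.1 := by
      rw [← Matrix.SpecialLinearGroup.coe_mul, ← Matrix.SpecialLinearGroup.coe_mul, ← e2, inv_mul_cancel_right]
    have f2 : Q.1 * c0.1 = d0.1 * Q.1 := by
      rw [← e1, AutPSL.conjSL_coe, Units.inv_mul_cancel_right]
    have f3 : (Q.1.map ι) * (m c0).1 = (m d0).1 * (Q.1.map ι) := by
      show Q.1.map ι * c0.1.map ι = d0.1.map ι * Q.1.map ι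
      rw [← Matrix.map_mul, f2, Matrix.map_mul]
    have f4 : (Q.1.map ι).adjugate * (m d0).1 = (m c0).1 * (Q.1.map ι).adjugate := by
      have hdet : (Q.1.map ι).det ≠ 0 := by
        rw [← RingHom.mapMatrix_apply, ← RingHom.map_det]
        exact (map_ne_zero ι).2 ((Matrix.isUnit_iff_isUnit_det _).1 Q.isUnit).ne_zero
      have e := congrArg (fun M => (Q.1.map ι).adjugate * M * (Q.1.map ι).adjugate) f3
      simp only [← Matrix.mul_assoc, Matrix.adjugate_mul] at e
      simp only [Matrix.mul_assoc, Matrix.mul_adjugate] at e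
      simp [Matrix.smul_mul, Matrix.mul_smul] at e
      exact (smul_right_injective _ hdet e).symm
    rw [Matrix.mul_assoc, f1, ← Matrix.mul_assoc, f4, Matrix.mul_assoc]
  have hZ := scalar_of_commute h2 (x := ι x) (y := ι y) (Z := (Q.1.map ι).adjugate * h.1)
    (by rw [← map_mul, ← map_mul, ← map_add, hxy, map_neg, map_one]) (by
      have := hQ _ _ hQ1 hA'
      convert this using 2 <;> rw [hm, coe_map_comp] <;> rfl)
    (by
      have := hQ _ _ hQ2 hB'
      convert this using 2 <;> rw [hm, coe_map_symJ] <;> rfl)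
  set c := ((Q.1.map ι).adjugate * h.1) 0 0 with hc
  have hdet : (Q.1.map ι).det ≠ 0 := by
    rw [← RingHom.mapMatrix_apply, ← RingHom.map_det]
    exact (map_ne_zero ι).2 ((Matrix.isUnit_iff_isUnit_det _).1 Q.isUnit).ne_zero
  have e : h.1 = (c / (Q.1.map ι).det) • Q.1.map ι := by
    have e := congrArg (fun M => Q.1.map ι * M) hZ
    simp only [← Matrix.mul_assoc, Matrix.mul_adjugate, Matrix.smul_mul, Matrix.one_mul, Matrix.mul_smul,
      Matrix.mul_one] at e
    rw [div_eq_inv_mul, mul_smul, ← e, inv_smul_smul₀ hdet]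
  have hc0 : c ≠ 0 := fun h0 => by
    have := congrArg Matrix.det e
    rw [h.2, h0, zero_div, zero_smul, Matrix.det_zero] at this
    exact one_ne_zero this
  exact mem_subOver.2 (mem_range_of_scalar ι (div_ne_zero hc0 hdet) _ e)

theorem realize_traces (h2 : (2 : F) ≠ 0) (ι : K →+* F) (V : Subgroup PG) [IsKleinFour V] (M : Subgroup PG)
    (hV : V ≤ M) (htr : ∀ g : SG, proj g ∈ M → tr g ∈ Set.range ι) : ∃ φ : MulAut PG, M ≤ subOver ι φ := by
  classical
  obtain ⟨x, y, hxy, a, b, P, hu, hv, -, -, -, hP1, hP2⟩ := klein_frame h2 ι V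
  refine ⟨AutPSL.conjA P, fun z hz => ?_⟩
  obtain ⟨g, rfl⟩ := proj_surjective z
  have htrc : ∀ w : SG, tr (AutPSL.conjSL P w) = tr w := fun w => by
    have e : ∀ A : SG, tr A = Matrix.trace A.1 := fun A => by
      simp [tr, Matrix.trace, Matrix.diag, Fin.sum_univ_two]
    rw [e, e, AutPSL.conjSL_coe, Matrix.trace_mul_comm, ← Matrix.mul_assoc, Units.inv_mul, Matrix.one_mul]
  have hab : proj (a * b) ∈ V := by rw [map_mul]; exact mul_mem hu hv
  obtain ⟨T, hT⟩ := htr g hz
  obtain ⟨TA, hTA⟩ := htr (g * a) (by rw [map_mul]; exact mul_mem hz (hV hu))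
  obtain ⟨TB, hTB⟩ := htr (g * b) (by rw [map_mul]; exact mul_mem hz (hV hv))
  obtain ⟨TC, hTC⟩ := htr (g * (a * b)) (by rw [map_mul]; exact mul_mem hz (hV hab))
  rw [← htrc g] at hT
  rw [← htrc, map_mul, hP1] at hTA
  rw [← htrc, map_mul, hP2] at hTB
  rw [← htrc, map_mul, map_mul, hP1, hP2] at hTC
  set h := AutPSL.conjSL P g
  have hxy' : ι x * ι x + ι y * ι y = -1 := by rw [← map_mul, ← map_mul, ← map_add, hxy, map_neg, map_one]
  simp only [tr, Matrix.SpecialLinearGroup.coe_mul, coe_map_comp, coe_map_symJ] at hT hTA hTB hTC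
  simp [Matrix.mul_apply, Fin.sum_univ_two, Matrix.vecMul, dotProduct] at hT hTA
  simp [Matrix.mul_apply, Fin.sum_univ_two, Matrix.vecMul, dotProduct] at hTB hTC
  refine mem_subOver.2 (mem_range_of_scalar ι (g := h) (inv_ne_zero h2)
    !![T - (x * TB - y * TC), TA - (y * TB + x * TC); -TA - (y * TB + x * TC), T + (x * TB - y * TC)] ?_)
  ext i j
  fin_cases i <;> fin_cases j <;> simp <;> field_simp
  · linear_combination -hT + ι x * hTB - ι y * hTC + (h.1 0 0 - h.1 1 1) * hxy'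
  · linear_combination -hTA + ι y * hTB + ι x * hTC + (h.1 0 1 + h.1 1 0) * hxy'
  · linear_combination hTA + ι y * hTB + ι x * hTC + (h.1 0 1 + h.1 1 0) * hxy'
  · linear_combination -hT - ι x * hTB + ι y * hTC + (h.1 1 1 - h.1 0 0) * hxy'

/-! ### The orders of these groups -/

theorem card_subOver (ι : K →+* F) (φ : MulAut PG) :
    Nat.card (subOver ι φ) = Nat.card ((ProjectiveSpecialLinearGroup.toPGL (n := Fin 2) (R := F)).range ⊓
      (SubfieldPSL.pglMap ι).range : Subgroup (Matrix.ProjGenLinGroup (Fin 2) F)) := by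
  rw [subOver, Subgroup.comap_equiv_eq_map_symm', Subgroup.card_map_of_injective φ.symm.injective,
    ← Subgroup.map_comap_eq, Subgroup.card_map_of_injective ProjectiveSpecialLinearGroup.toPGL_injective]

theorem card_subOver_le (ι : K →+* F) (φ : MulAut PG) :
    Nat.card (subOver ι φ) ≤ Fintype.card K * (Fintype.card K ^ 2 - 1) := by
  haveI : Finite (Matrix.ProjGenLinGroup (Fin 2) F) := Finite.of_surjective _ ProjGenLinGroup.mk_surjective
  rw [card_subOver, ← card_pgl_two, Nat.card_congr (MonoidHom.ofInjective (SubfieldPSL.pglMap_injective ι)).toEquiv]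
  exact Subgroup.card_le_of_le inf_le_right

theorem card_psl_le_subOver (ι : K →+* F) (φ : MulAut PG) :
    Nat.card (Matrix.ProjectiveSpecialLinearGroup (Fin 2) K) ≤ Nat.card (subOver ι φ) := by
  haveI : Finite (Matrix.ProjGenLinGroup (Fin 2) F) := Finite.of_surjective _ ProjGenLinGroup.mk_surjective
  rw [card_subOver]
  let f := (SubfieldPSL.pglMap ι).comp (ProjectiveSpecialLinearGroup.toPGL (n := Fin 2) (R := K))
  have hf : Function.Injective f :=
    (SubfieldPSL.pglMap_injective ι).comp ProjectiveSpecialLinearGroup.toPGL_injective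
  rw [Nat.card_congr (MonoidHom.ofInjective hf).toEquiv]
  refine Subgroup.card_le_of_le (le_inf ?_ ?_)
  · rintro _ ⟨w, rfl⟩
    induction w using QuotientGroup.induction_on with | H g => ?_
    show SubfieldPSL.pglMap ι (ProjGenLinGroup.mk (Matrix.SpecialLinearGroup.toGL g)) ∈ _
    rw [SubfieldPSL.pglMap_mk]
    refine SubfieldPSL.mem_range_toPGL ⟨1, ?_⟩
    have h : (Matrix.GeneralLinearGroup.map ι (Matrix.SpecialLinearGroup.toGL g)).1 = g.1.map ι := rfl
    rw [h, ← RingHom.mapMatrix_apply, ← RingHom.map_det, g.2, map_one, mul_one]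
  · rintro _ ⟨w, rfl⟩
    exact ⟨_, rfl⟩

theorem card_subOver_sq (ι : K →+* F) (φ : MulAut PG) (hodd : Odd (Fintype.card F))
    (hK : Fintype.card F = Fintype.card K ^ 2) :
    Nat.card (subOver ι φ) = Fintype.card K * (Fintype.card K ^ 2 - 1) := by
  have h2 : ringChar F ≠ 2 := fun h => by
    have := FiniteField.even_card_iff_char_two.1 h
    rw [Nat.odd_iff] at hodd
    omega
  rw [card_subOver, ← card_pgl_two, Nat.card_congr (MonoidHom.ofInjective (SubfieldPSL.pglMap_injective ι)).toEquiv]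
  congr 2
  refine inf_of_le_right ?_
  rintro _ ⟨w, rfl⟩
  induction w using Matrix.ProjGenLinGroup.induction_on with | mk g => ?_
  rw [SubfieldPSL.pglMap_mk]
  refine SubfieldPSL.mem_range_toPGL ?_
  have h : (Matrix.GeneralLinearGroup.map ι g).1 = g.1.map ι := rfl
  rw [h, ← RingHom.mapMatrix_apply, ← RingHom.map_det]
  have hd := ((Matrix.isUnit_iff_isUnit_det _).1 g.isUnit).ne_zero
  rw [FiniteField.isSquare_iff h2 ((map_ne_zero ι).2 hd), ← map_pow]
  have hKodd : Fintype.card K % 2 = 1 := by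
    rw [hK, Nat.odd_iff, Nat.pow_mod] at hodd
    rcases Nat.mod_two_eq_zero_or_one (Fintype.card K) with h | h
    · rw [h] at hodd; simp at hodd
    · exact h
  obtain ⟨k, hk⟩ : ∃ k, Fintype.card K = 2 * k + 1 := ⟨Fintype.card K / 2, by omega⟩
  have e : Fintype.card F / 2 = (Fintype.card K - 1) * (k + 1) := by
    rw [hK, hk, Nat.add_sub_cancel, show (2 * k + 1) ^ 2 = 2 * (2 * k * (k + 1)) + 1 by ring]
    omega
  rw [e, pow_mul, FiniteField.pow_card_sub_one_eq_one _ hd, one_pow, map_one]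

end Cfsg.Agent.Classical.Dickson2
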