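import Mathlib
import Cfsg.Agent.Classical.Dickson2.Realize
import Cfsg.Agent.Classical.Dickson2.Exceptional

/-!
Preparations for the list of maximal subgroups.
-/

set_option autoImplicit false

namespace Cfsg.Agent.Classical.Dickson2

open Matrix Cfsg.Agent.SL2Class
open scoped MatrixGroups

variable {F : Type*} [Field F] [Fintype F]

local notation "SG" => Matrix.SpecialLinearGroup (Fin 2) F
local notation "PG" => Matrix.ProjectiveSpecialLinearGroup (Fin 2) F

theorem klein_perm_facts :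
    (∀ σ : Equiv.Perm (Fin 4), ∀ t ∈ ([Equiv.swap 0 1 * Equiv.swap 2 3, Equiv.swap 0 2 * Equiv.swap 1 3] :
        List (Equiv.Perm (Fin 4))),
      σ * t * σ⁻¹ = Equiv.swap 0 1 * Equiv.swap 2 3 ∨ σ * t * σ⁻¹ = Equiv.swap 0 2 * Equiv.swap 1 3 ∨
        σ * t * σ⁻¹ = Equiv.swap 0 1 * Equiv.swap 2 3 * (Equiv.swap 0 2 * Equiv.swap 1 3)) := by
  decide +kernel

theorem klein_of_pairs {H : Subgroup PG} {A : Type*} [Group A] (e : H ≃* A) (ι : A →* Equiv.Perm (Fin 4))
    (hι : Function.Injective ι) (a b : A) (ha : ι a = Equiv.swap 0 1 * Equiv.swap 2 3)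
    (hb : ι b = Equiv.swap 0 2 * Equiv.swap 1 3) :
    ∃ V : Subgroup PG, IsKleinFour V ∧ V ≤ H ∧ H ≤ Subgroup.normalizer (V : Set PG) := by
  set x : PG := ((e.symm a : H) : PG)
  set y : PG := ((e.symm b : H) : PG)
  have inj : ∀ u v : A, ((e.symm u : H) : PG) = e.symm v → ι u = ι v := fun u v h =>
    congrArg ι (e.symm.injective (Subtype.ext h))
  have hmul : ∀ u v : A, ((e.symm u : H) : PG) * e.symm v = e.symm (u * v) := fun u v => by
    rw [map_mul, Subgroup.coe_mul]
  have heq : ∀ u v : A, ι u = ι v → ((e.symm u : H) : PG) = e.symm v := fun u v h => by rw [hι h]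
  have hone : ((e.symm 1 : H) : PG) = 1 := by rw [map_one, Subgroup.coe_one]
  have hxx : x * x = 1 := by
    rw [hmul, ← hone]
    exact heq _ _ (by rw [map_mul, ha, map_one]; decide)
  have hyy : y * y = 1 := by
    rw [hmul, ← hone]
    exact heq _ _ (by rw [map_mul, hb, map_one]; decide)
  have hxy : x * y = y * x := by
    rw [hmul, hmul]
    exact heq _ _ (by rw [map_mul, map_mul, ha, hb]; decide)
  have hx1 : x ≠ 1 := fun h => by
    have h' := inj a 1 (h.trans hone.symm)
    rw [ha, map_one] at h'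
    exact absurd h' (by decide)
  have hy1 : y ≠ 1 := fun h => by
    have h' := inj b 1 (h.trans hone.symm)
    rw [hb, map_one] at h'
    exact absurd h' (by decide)
  have hne : x ≠ y := fun h => by
    have h' := inj a b h
    rw [ha, hb] at h'
    exact absurd h' (by decide)
  refine ⟨KleinN.ofPair x y hxx hyy hxy, KleinN.isKleinFour_ofPair hxx hyy hxy hx1 hy1 hne, ?_, ?_⟩
  · intro z hz
    rcases KleinN.mem_ofPair.1 hz with rfl | rfl | rfl | rfl
    exacts [one_mem _, (e.symm a).2, (e.symm b).2, mul_mem (e.symm a).2 (e.symm b).2]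
  · intro h hh
    refine Subgroup.mem_normalizer_fintype fun n hn => ?_
    have hconj : ∀ u : A, (ι u = Equiv.swap 0 1 * Equiv.swap 2 3 ∨ ι u = Equiv.swap 0 2 * Equiv.swap 1 3) →
        h * ((e.symm u : H) : PG) * h⁻¹ ∈ KleinN.ofPair x y hxx hyy hxy := by
      intro u hu
      have e1 : h * ((e.symm u : H) : PG) * h⁻¹ = e.symm (e ⟨h, hh⟩ * u * (e ⟨h, hh⟩)⁻¹) := by
        rw [map_mul, map_mul, map_inv, MulEquiv.symm_apply_apply]
        rfl
      rw [e1, KleinN.mem_ofPair]
      have h3 := klein_perm_facts (ι (e ⟨h, hh⟩)) (ι u) (by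
        rcases hu with hu | hu <;> rw [hu] <;> simp)
      rw [← map_inv, ← map_mul, ← map_mul, ← ha, ← hb, ← map_mul] at h3
      rcases h3 with h3 | h3 | h3
      · exact Or.inr (Or.inl (heq _ _ h3))
      · exact Or.inr (Or.inr (Or.inl (heq _ _ h3)))
      · exact Or.inr (Or.inr (Or.inr (by rw [heq _ _ h3, ← hmul])))
    rcases KleinN.mem_ofPair.1 hn with rfl | rfl | rfl | rfl
    · simpa using (KleinN.ofPair x y hxx hyy hxy).one_mem
    · exact hconj a (Or.inl ha)
    · exact hconj b (Or.inr hb)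
    · rw [show h * (x * y) * h⁻¹ = (h * x * h⁻¹) * (h * y * h⁻¹) by group]
      exact (KleinN.ofPair x y hxx hyy hxy).mul_mem (hconj a (Or.inl ha)) (hconj b (Or.inr hb))

theorem klein_of_a4 {H : Subgroup PG} (e : H ≃* alternatingGroup (Fin 4)) :
    ∃ V : Subgroup PG, IsKleinFour V ∧ V ≤ H ∧ H ≤ Subgroup.normalizer (V : Set PG) :=
  klein_of_pairs e (alternatingGroup (Fin 4)).subtype (alternatingGroup (Fin 4)).subtype_injective
    ⟨Equiv.swap 0 1 * Equiv.swap 2 3, Equiv.Perm.mem_alternatingGroup.2 (by decide)⟩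
    ⟨Equiv.swap 0 2 * Equiv.swap 1 3, Equiv.Perm.mem_alternatingGroup.2 (by decide)⟩ rfl rfl

theorem klein_of_s4 {H : Subgroup PG} (e : H ≃* Equiv.Perm (Fin 4)) :
    ∃ V : Subgroup PG, IsKleinFour V ∧ V ≤ H ∧ H ≤ Subgroup.normalizer (V : Set PG) :=
  klein_of_pairs e (MonoidHom.id _) Function.injective_id _ _ rfl rfl

/-- The point stabiliser in the alternating group of degree five. -/
theorem exists_a4_in_a5 : ∃ f : alternatingGroup (Fin 4) →* alternatingGroup (Fin 5), Function.Injective f := by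
  let g : Equiv.Perm (Fin 4) → Equiv.Perm (Fin 5) := fun σ =>
    finSuccEquivLast.symm.permCongr (Equiv.optionCongr σ)
  have hmul : ∀ σ τ, g (σ * τ) = g σ * g τ := fun σ τ => by
    ext i
    simp only [g, Equiv.permCongr_apply, Equiv.Perm.coe_mul, Function.comp_apply, Equiv.symm_symm,
      Equiv.apply_symm_apply]
    rcases finSuccEquivLast i with _ | v <;> rfl
  have hsign : ∀ σ, Equiv.Perm.sign (g σ) = Equiv.Perm.sign σ := fun σ => by
    simp only [g, Equiv.Perm.sign_permCongr, Equiv.optionCongr_sign]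
  refine ⟨(((MonoidHom.mk' g hmul).comp (alternatingGroup (Fin 4)).subtype).codRestrict _ fun σ => ?_), ?_⟩
  · rw [Equiv.Perm.mem_alternatingGroup]
    exact (hsign σ).trans (Equiv.Perm.mem_alternatingGroup.1 σ.2)
  · intro σ τ h
    have h' : g σ = g τ := congrArg Subtype.val h
    exact Subtype.ext (Equiv.optionCongr_injective (finSuccEquivLast.symm.permCongr.injective h'))

theorem a4_in_a5 {H : Subgroup PG} (e : H ≃* alternatingGroup (Fin 5)) :
    ∃ L ≤ H, Nonempty (L ≃* alternatingGroup (Fin 4)) := by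
  obtain ⟨f, hf⟩ := exists_a4_in_a5
  have hinj : Function.Injective (H.subtype.comp (e.symm.toMonoidHom.comp f)) :=
    H.subtype_injective.comp (e.symm.injective.comp hf)
  exact ⟨(H.subtype.comp (e.symm.toMonoidHom.comp f)).range, fun z ⟨u, hu⟩ => hu ▸ (e.symm (f u)).2,
    ⟨(MonoidHom.ofInjective hinj).symm⟩⟩

theorem five_square {K : Type*} [Field K] [Fintype K] (p e : ℕ) [Fact p.Prime] [CharP K p]
    (hK : Fintype.card K = p ^ e) (hp2 : p ≠ 2) (hp5 : p ≠ 5) (h : (p % 5 = 1 ∨ p % 5 = 4) ∨ e = 2) :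
    IsSquare (5 : K) := by
  haveI : Fact (Nat.Prime 5) := ⟨Nat.prime_five⟩
  rcases h with h | rfl
  · have h5 : IsSquare (p : ZMod 5) := by
      rw [← ZMod.natCast_mod]
      rcases h with h | h <;> rw [h]
      · exact ⟨1, by simp⟩
      · exact ⟨2, by norm_num⟩
    have h' : IsSquare ((5 : ℕ) : ZMod p) :=
      (ZMod.exists_sq_eq_prime_iff_of_mod_four_eq_one (p := 5) (q := p) (by norm_num) hp2).1 h5
    have := h'.map (ZMod.castHom (dvd_refl p) K)
    rw [map_natCast] at this
    exact_mod_cast this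
  · have hne : ((5 : ℕ) : K) ≠ 0 := fun h0 =>
      hp5 ((Nat.prime_dvd_prime_iff_eq Fact.out Nat.prime_five).1 ((CharP.cast_eq_zero_iff K p 5).1 h0))
    have h2 : ringChar K ≠ 2 := by rwa [ringChar.eq K p]
    obtain ⟨j, hj⟩ := (Fact.out : p.Prime).odd_of_ne_two hp2
    have he : Fintype.card K / 2 = (p - 1) * (j + 1) := by
      rw [hK, hj, show (2 * j + 1) ^ 2 = 2 * (2 * j * (j + 1)) + 1 by ring, Nat.add_sub_cancel]
      omega
    have hpow : ((5 : ℕ) : K) ^ (p - 1) = 1 := by
      have h0 : ((5 : ℕ) : ZMod p) ≠ 0 := fun h0 =>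
        hp5 ((Nat.prime_dvd_prime_iff_eq Fact.out Nat.prime_five).1 ((CharP.cast_eq_zero_iff (ZMod p) p 5).1 h0))
      have h1 := congrArg (ZMod.castHom (dvd_refl p) K) (ZMod.pow_card_sub_one_eq_one h0)
      rwa [map_pow, map_natCast, map_one] at h1
    have := (FiniteField.isSquare_iff h2 hne).2 (by rw [he, pow_mul, hpow, one_pow])
    simpa using this

omit [Fintype F] in
theorem trace_mem_of_pow {K : Type*} [Field K] (ι : K →+* F) (h2 : (2 : F) ≠ 0) {s : K} (hs : s * s = 5)
    {g : SG} (h : proj g ^ 2 = 1 ∨ proj g ^ 3 = 1 ∨ proj g ^ 5 = 1) : tr g ∈ Set.range ι := by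
  by_cases hns : NonScalar g
  swap
  · rcases scalar_eq hns with e | e <;> rw [e]
    · exact ⟨2, by simp [tr, map_ofNat]; norm_num⟩
    · exact ⟨-2, by simp [tr_neg, tr, map_ofNat]; norm_num⟩
  have hcases : ∀ n : ℕ, proj g ^ n = 1 → ∀ a b : F, (g ^ n).1 = lin g a b → b = 0 := by
    intro n hn a b hab
    rw [← map_pow, proj_eq_one, mem_center_cases] at hn
    rcases hn with e | e <;> rw [e] at hab
    · have : lin g 1 0 = lin g a b := by rw [lin_one]; simpa using hab
      exact (lin_ext hns this).2.symm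
    · have : lin g (-1) 0 = lin g a b := by
        rw [← hab, Matrix.SpecialLinearGroup.coe_neg, Matrix.SpecialLinearGroup.coe_one, lin, zero_smul, add_zero,
          neg_one_smul]
      exact (lin_ext hns this).2.symm
  have e1 : g.1 = lin g 0 1 := (lin_self g).symm
  have e2 : (g ^ 2).1 = lin g (-1) (tr g) := by rw [pow_two, Matrix.SpecialLinearGroup.coe_mul, g_sq]
  rcases h with h | h | h
  · exact ⟨0, by rw [map_zero]; exact (hcases 2 h _ _ e2).symm⟩
  · have e3 : (g ^ 3).1 = lin g (-1) (tr g) * lin g 0 1 := by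
      rw [pow_succ, Matrix.SpecialLinearGroup.coe_mul, e2, lin_self]
    rw [lin_mul] at e3
    have h0 := hcases 3 h _ _ e3
    rcases mul_self_eq_one_iff.1 (show tr g * tr g = 1 by linear_combination h0) with e | e <;> rw [e]
    · exact ⟨1, map_one ι⟩
    · exact ⟨-1, by rw [map_neg, map_one]⟩
  · have e5 : (g ^ 5).1 = lin g (-1) (tr g) * lin g (-1) (tr g) * lin g 0 1 := by
      rw [show (5 : ℕ) = 2 + 2 + 1 from rfl, pow_succ, pow_add, Matrix.SpecialLinearGroup.coe_mul,
        Matrix.SpecialLinearGroup.coe_mul, e2, lin_self]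
    rw [lin_mul, lin_mul] at e5
    have h0 := hcases 5 h _ _ e5
    have hf : (tr g * tr g - tr g - 1) * (tr g * tr g + tr g - 1) = 0 := by linear_combination h0
    have h2K : (2 : K) ≠ 0 := fun h => h2 (by rw [← map_ofNat ι 2, h, map_zero])
    have hs' : ι s * ι s = 5 := by rw [← map_mul, hs, map_ofNat]
    have key : ∀ c : K, ((2 * tr g + ι c) - ι s) * ((2 * tr g + ι c) + ι s) = 0 → tr g ∈ Set.range ι := by
      intro c hc
      rcases mul_eq_zero.1 hc with e | e
      · refine ⟨(s - c) / 2, ?_⟩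
        rw [map_div₀, map_sub, map_ofNat, div_eq_iff h2]
        linear_combination -e
      · refine ⟨(-s - c) / 2, ?_⟩
        rw [map_div₀, map_sub, map_neg, map_ofNat, div_eq_iff h2]
        linear_combination -e
    rcases mul_eq_zero.1 hf with e | e
    · exact key (-1) (by rw [map_neg, map_one]; linear_combination 4 * e - hs')
    · exact key 1 (by rw [map_one]; linear_combination 4 * e - hs')

theorem traces_a5 {K : Type*} [Field K] (ι : K →+* F) (h2 : (2 : F) ≠ 0) {s : K} (hs : s * s = 5)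
    {M : Subgroup PG} (e : M ≃* alternatingGroup (Fin 5)) (g : SG) (hg : proj g ∈ M) : tr g ∈ Set.range ι := by
  refine trace_mem_of_pow ι h2 hs ?_
  have hf := perm_five_facts (e ⟨_, hg⟩ : Equiv.Perm (Fin 5)) (Equiv.Perm.mem_alternatingGroup.1 (e ⟨_, hg⟩).2)
  have tp : ∀ n : ℕ, ((e ⟨_, hg⟩ : alternatingGroup (Fin 5)) : Equiv.Perm (Fin 5)) ^ n = 1 → proj g ^ n = 1 :=
    fun n hn => by
      have h1 : e ((⟨proj g, hg⟩ : M) ^ n) = 1 := by
        rw [map_pow]; exact Subtype.ext (by rw [Subgroup.coe_pow]; exact hn)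
      exact congrArg Subtype.val (e.map_eq_one_iff.1 h1)
  rcases hf with h | h | h | h
  · exact Or.inl (by rw [show proj g = 1 from pow_one (proj g) ▸ tp 1 (by rw [pow_one]; exact h), one_pow])
  · exact Or.inl (tp 2 h)
  · exact Or.inr (Or.inl (tp 3 h))
  · exact Or.inr (Or.inr (tp 5 h))

/-- The image of a field homomorphism is the set of fixed points of the Frobenius power. -/
theorem range_ringHom_le {K K₁ : Type*} [Field K] [Fintype K] [Field K₁] [Fintype K₁] (ι : K →+* F) (ι₁ : K₁ →+* F)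
    (h : ∃ u, Fintype.card K ^ u = Fintype.card K₁) (a : K) : ι a ∈ Set.range ι₁ := by
  classical
  obtain ⟨u, hu⟩ := h
  have hx : ι a ^ Fintype.card K₁ = ι a := by
    rw [← map_pow, ← hu, FiniteField.pow_card_pow]
  by_contra hn
  have h1 : 1 < Fintype.card K₁ := Fintype.one_lt_card
  have hp : ((Polynomial.X : Polynomial F) ^ Fintype.card K₁ - Polynomial.X) ≠ 0 :=
    FiniteField.X_pow_card_sub_X_ne_zero F h1
  have hsub : insert (ι a) (Finset.univ.image ι₁) ⊆
      ((Polynomial.X : Polynomial F) ^ Fintype.card K₁ - Polynomial.X).roots.toFinset := by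
    intro z hz
    rw [Multiset.mem_toFinset, Polynomial.mem_roots hp]
    rcases Finset.mem_insert.1 hz with rfl | hz
    · simp [hx]
    · obtain ⟨b, -, rfl⟩ := Finset.mem_image.1 hz
      simp [← map_pow, FiniteField.pow_card]
  have hc := (Finset.card_le_card hsub).trans
    ((Multiset.toFinset_card_le _).trans (Polynomial.card_roots' _))
  rw [FiniteField.X_pow_card_sub_X_natDegree_eq F h1,
    Finset.card_insert_of_notMem (by simpa [Set.mem_range] using hn),
    Finset.card_image_of_injective _ ι₁.injective, Finset.card_univ] at hc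
  omega

theorem subOver_mono {K K₁ : Type*} [Field K] [Fintype K] [Field K₁] [Fintype K₁] (ι : K →+* F) (ι₁ : K₁ →+* F)
    (h : ∃ u, Fintype.card K ^ u = Fintype.card K₁) (φ : MulAut PG) : subOver ι φ ≤ subOver ι₁ φ := by
  intro y hy
  rw [mem_subOver] at hy ⊢
  obtain ⟨w, hw⟩ := hy
  rw [← hw]
  induction w using Matrix.ProjGenLinGroup.induction_on with | mk g => ?_
  choose a ha using fun i j => range_ringHom_le ι ι₁ h (g.1 i j)
  have hm : (Matrix.of a).map ι₁ = g.1.map ι := by ext i j; exact ha i j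
  have hdet : (Matrix.of a).det ≠ 0 := by
    intro h0
    have e := congrArg Matrix.det hm
    rw [← RingHom.mapMatrix_apply, ← RingHom.map_det, h0, map_zero, ← RingHom.mapMatrix_apply,
      ← RingHom.map_det] at e
    exact ((Matrix.isUnit_iff_isUnit_det _).1 g.isUnit).ne_zero ((map_eq_zero ι).1 e.symm)
  refine ⟨ProjGenLinGroup.mk (Matrix.GeneralLinearGroup.mkOfDetNeZero _ hdet), ?_⟩
  rw [SubfieldPSL.pglMap_mk, SubfieldPSL.pglMap_mk]
  congr 1
  exact Units.ext hm

theorem subOver_ne_top {K : Type*} [Field K] [Fintype K] (ι : K →+* F) (φ : MulAut PG)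
    (h : Fintype.card K ^ 2 ≤ Fintype.card F) : subOver ι φ ≠ ⊤ := fun e => by
  have h1 := card_subOver_le ι φ
  rw [e, Subgroup.card_top] at h1
  have hG := card_pg (F := F)
  have hd : Nat.gcd 2 (Fintype.card F - 1) ≤ 2 := Nat.gcd_le_left _ two_pos
  have h2 : Fintype.card F * (Fintype.card F ^ 2 - 1) ≤ 2 * (Fintype.card K * (Fintype.card K ^ 2 - 1)) :=
    hG ▸ Nat.mul_le_mul hd h1
  have hk : 2 ≤ Fintype.card K := Fintype.one_lt_card
  have h3 : 2 * Fintype.card K ≤ Fintype.card F := le_trans (by rw [pow_two]; exact Nat.mul_le_mul_right _ hk) h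
  have h4 : Fintype.card K ^ 2 - 1 < Fintype.card F ^ 2 - 1 := by
    have h5 : Fintype.card F * 2 ≤ Fintype.card F ^ 2 := by
      rw [pow_two]; exact Nat.mul_le_mul_left _ Fintype.one_lt_card
    have : 0 < Fintype.card K ^ 2 := by positivity
    have : Fintype.card K ^ 2 < Fintype.card K ^ 2 * 2 := by omega
    have : Fintype.card K ^ 2 * 2 ≤ Fintype.card F * 2 := Nat.mul_le_mul_right _ h
    omega
  have h5 := Nat.mul_lt_mul_of_le_of_lt h3 h4 (by omega)
  rw [mul_assoc] at h5
  omega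

theorem psl_card_bound {K : Type*} [Field K] [Fintype K] (hk : 7 ≤ Fintype.card K) :
    168 ≤ Nat.card (Matrix.ProjectiveSpecialLinearGroup (Fin 2) K) := pg_large hk

end Cfsg.Agent.Classical.Dickson2
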