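import Mathlib
import Cfsg.Agent.Classical.Dickson2.MaximalTools
import Cfsg.Agent.Classical.Dickson2.Dihedral

/-!
The maximal subgroups of PSL(2,q).
-/

set_option autoImplicit false

namespace Cfsg.Agent.Classical.Dickson2

open Matrix Cfsg.Agent.SL2Class
open scoped MatrixGroups

variable {F : Type*} [Field F] [Fintype F]

local notation "PG" => Matrix.ProjectiveSpecialLinearGroup (Fin 2) F

variable (p : ℕ) [Fact p.Prime] [CharP F p]

theorem eq_of_coatom {M L : Subgroup PG} (hM : IsCoatom M) (hle : M ≤ L) (hL : L ≠ ⊤) : M = L :=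
  hle.eq_or_lt.resolve_right fun h => hL (hM.2 L h)

theorem normalizer_semis_ne_top (hq : 4 ≤ Fintype.card F) {x : PG} (hx : x ^ p ≠ 1) :
    Subgroup.normalizer (tor x : Set PG) ≠ ⊤ := fun e => by
  have hcard := card_normalizer_semis p hx
  rw [e, Subgroup.card_top] at hcard
  have hG := card_pg (F := F)
  have h1 : Nat.card (tor x) * Nat.gcd 2 (Fintype.card F - 1) ≤ Fintype.card F + 1 := by
    rcases card_tor_semis p hx with e | e <;> omega
  have h2 : Fintype.card F * (Fintype.card F ^ 2 - 1) ≤ 2 * (Fintype.card F + 1) := by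
    rw [← hG, hcard, mul_comm, mul_assoc]
    exact Nat.mul_le_mul_left _ h1
  have h3 : 4 * 4 - 1 ≤ Fintype.card F ^ 2 - 1 :=
    Nat.sub_le_sub_right (by rw [pow_two]; exact Nat.mul_le_mul hq hq) 1
  have h4 : Fintype.card F * 15 ≤ Fintype.card F * (Fintype.card F ^ 2 - 1) := Nat.mul_le_mul_left _ h3
  omega

theorem normalizer_unip_ne_top {x : PG} (hx1 : x ≠ 1) (hx : x ^ p = 1) :
    Subgroup.normalizer (tor x : Set PG) ≠ ⊤ := fun e => by
  have h := card_normalizer_unip p hx1 hx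
  have hG := card_pg (F := F)
  rw [e, Subgroup.card_top, mul_comm, hG, mul_comm (Fintype.card F - 1)] at h
  have h1 := Fintype.one_lt_card (α := F)
  have h2 := Nat.eq_of_mul_eq_mul_left (show 0 < Fintype.card F by omega) h
  have h3 : Fintype.card F * 2 ≤ Fintype.card F ^ 2 := by rw [pow_two]; exact Nat.mul_le_mul_left _ h1
  omega

/-- A maximal subgroup defined over a subfield is PGL(2) for the square root or PSL(2) for an odd prime root. -/
theorem maximal_sub {M : Subgroup PG} (hM : IsCoatom M) (h : SubCase p M) :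
    ∃ (F₀ : Type) (_ : Field F₀) (_ : Fintype F₀) (r : ℕ), r.Prime ∧ 3 ≤ Fintype.card F₀ ∧
      Fintype.card F = Fintype.card F₀ ^ r ∧
      ((r = 2 ∧ Odd (Fintype.card F) ∧ Nonempty (M ≃* Matrix.ProjGenLinGroup (Fin 2) F₀)) ∨
        (¬ (r = 2 ∧ Odd (Fintype.card F)) ∧
          Nonempty (M ≃* Matrix.ProjectiveSpecialLinearGroup (Fin 2) F₀))) := by
  have hsc := sub_card p h
  obtain ⟨K, iK, iF, m, hm, hs, ⟨φ, ι, hφ⟩, -, hiso⟩ := h
  obtain ⟨s', m', hm', hs', -, hcard', -⟩ := hsc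
  have hle : M ≤ subOver ι φ := hφ
  have hKF : Fintype.card K ≤ Fintype.card F := Fintype.card_le_of_injective ι ι.injective
  have hm2 : 2 ≤ m := by
    by_contra hc
    interval_cases m
    · simp at hm
      have := Fintype.one_lt_card (α := F)
      omega
    · rw [pow_one] at hm
      rcases hiso with ⟨⟨e⟩⟩ | ⟨-, -, he⟩
      · refine hM.1 (Subgroup.eq_top_of_card_eq _ ?_)
        have h1 := card_pg (F := K)
        rw [hm, ← card_pg (F := F), ← Nat.card_congr e.toEquiv] at h1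
        exact Nat.eq_of_mul_eq_mul_left (Nat.gcd_pos_of_pos_left _ two_pos) h1
      · exact Nat.not_even_one he
  have hmp : m.Prime := by
    refine Nat.prime_def_lt.2 ⟨hm2, fun u hu hud => ?_⟩
    by_contra hu1
    have hu0 : u ≠ 0 := fun h => by rw [h, zero_dvd_iff] at hud; omega
    obtain ⟨v, hv⟩ := hud
    have hv2 : 2 ≤ v := by
      by_contra hc
      interval_cases v <;> omega
    obtain ⟨r, hr⟩ := CharP.exists K
    obtain ⟨n, hrp, hn⟩ := FiniteField.card K r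
    haveI : Fact r.Prime := ⟨hrp⟩
    haveI : Fintype (GaloisField r (n * u)) := Fintype.ofFinite _
    have hK₁ : Fintype.card (GaloisField r (n * u)) = Fintype.card K ^ u := by
      rw [← Nat.card_eq_fintype_card, GaloisField.card r _ (Nat.mul_ne_zero n.ne_zero hu0), hn, pow_mul]
    obtain ⟨ι₁⟩ := SubfieldPSL.exists_ringHom (F := F) (K := GaloisField r (n * u)) (m := v)
      (by rw [hK₁, ← pow_mul, ← hv, hm])
    have hle₁ : M ≤ subOver ι₁ φ := hle.trans (subOver_mono ι ι₁ ⟨u, hK₁.symm⟩ φ)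
    have hsq : Fintype.card (GaloisField r (n * u)) ^ 2 ≤ Fintype.card F := by
      rw [hK₁, ← pow_mul, ← hm, hv]
      exact Nat.pow_le_pow_right (by omega) (Nat.mul_le_mul_left _ hv2)
    have heq := eq_of_coatom hM hle₁ (subOver_ne_top ι₁ φ hsq)
    have h1 := (card_psl_le_subOver ι₁ φ).trans ((Subgroup.card_le_of_le (heq ▸ hle)).trans (card_subOver_le ι φ))
    have h2 : Fintype.card (GaloisField r (n * u)) * (Fintype.card (GaloisField r (n * u)) ^ 2 - 1) ≤
        2 * (Fintype.card K * (Fintype.card K ^ 2 - 1)) :=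
      card_pg (F := GaloisField r (n * u)) ▸ Nat.mul_le_mul (Nat.gcd_le_left _ two_pos) h1
    have h3 : 3 * Fintype.card K ≤ Fintype.card (GaloisField r (n * u)) := by
      rw [hK₁]
      refine le_trans ?_ (Nat.pow_le_pow_right (by omega) (show 2 ≤ u by omega))
      rw [pow_two]
      exact Nat.mul_le_mul_right _ hs
    have h4 : 3 * Fintype.card K * (Fintype.card K ^ 2 - 1) ≤
        Fintype.card (GaloisField r (n * u)) * (Fintype.card (GaloisField r (n * u)) ^ 2 - 1) :=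
      Nat.mul_le_mul h3 (Nat.sub_le_sub_right (Nat.pow_le_pow_left (le_trans (by omega) h3) 2) 1)
    have h5 : 0 < Fintype.card K * (Fintype.card K ^ 2 - 1) := by
      have : 3 ^ 2 ≤ Fintype.card K ^ 2 := Nat.pow_le_pow_left hs 2
      exact Nat.mul_pos (by omega) (by omega)
    rw [mul_assoc] at h4
    omega
  refine ⟨K, iK, iF, m, hmp, hs, hm.symm, ?_⟩
  rcases hiso with ⟨⟨e⟩⟩ | ⟨⟨e⟩, ho, hev⟩
  · refine Or.inr ⟨?_, ⟨e⟩⟩
    rintro ⟨rfl, ho⟩
    have heq := eq_of_coatom hM hle (subOver_ne_top ι φ hm.le)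
    have h1 := card_subOver_sq ι φ ho hm.symm
    rw [← heq, Nat.card_congr e.toEquiv] at h1
    have h2 := card_pg (F := K)
    rw [← h1] at h2
    have hodd : Fintype.card K % 2 = 1 := by
      rw [← hm, Nat.odd_iff, Nat.pow_mod] at ho
      rcases Nat.mod_two_eq_zero_or_one (Fintype.card K) with h | h
      · rw [h] at ho; simp at ho
      · exact h
    rw [Nat.gcd_eq_left (by omega : 2 ∣ Fintype.card K - 1)] at h2
    have : 0 < Nat.card (Matrix.ProjectiveSpecialLinearGroup (Fin 2) K) := Nat.card_pos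
    omega
  · exact Or.inl ⟨((Nat.prime_dvd_prime_iff_eq Nat.prime_two hmp).1 hev.two_dvd).symm, ho, ⟨e⟩⟩

/-- A subgroup over a small subfield cannot be maximal. -/
theorem not_coatom_of_subOver {K : Type*} [Field K] [Fintype K] (ι : K →+* F) {φ : MulAut PG} {M : Subgroup PG}
    (hM : IsCoatom M) (hle : M ≤ subOver ι φ) (hsq : Fintype.card K ^ 2 ≤ Fintype.card F)
    (hlt : Nat.card M < Nat.card (Matrix.ProjectiveSpecialLinearGroup (Fin 2) K)) : False := by
  have heq := eq_of_coatom hM hle (subOver_ne_top ι φ hsq)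
  have := card_psl_le_subOver ι φ
  rw [← heq] at this
  omega

theorem exists_prime_hom (e : ℕ) (he : e ≠ 0) {f : ℕ} (hf : Fintype.card F = p ^ f) (hef : e ∣ f) :
    ∃ (K : Type) (_ : Field K) (_ : Fintype K) (_ : CharP K p),
      Fintype.card K = p ^ e ∧ Nonempty (K →+* F) := by
  haveI : Fintype (GaloisField p e) := Fintype.ofFinite _
  have hK : Fintype.card (GaloisField p e) = p ^ e := by rw [← Nat.card_eq_fintype_card, GaloisField.card p e he]
  obtain ⟨m, hm⟩ := hef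
  exact ⟨GaloisField p e, inferInstance, inferInstance, inferInstance, hK,
    SubfieldPSL.exists_ringHom (m := m) (by rw [hK, ← pow_mul, ← hm, hf])⟩

/-- An octahedral or tetrahedral maximal subgroup needs a prime field. -/
theorem prime_of_normalised (hodd : Odd (Fintype.card F)) (hp : 5 ≤ p) {M V : Subgroup PG} [IsKleinFour V]
    (hM : IsCoatom M) (hle : M ≤ Subgroup.normalizer (V : Set PG)) (hcard : Nat.card M ≤ 24) :
    Fintype.card F = p := by
  obtain ⟨f, hf1, hf⟩ := Classical.card_field_eq_pow (F := F) p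
  by_contra hne
  have hf2 : 2 ≤ f := by
    by_contra hc
    exact hne (by rw [hf, show f = 1 by omega, pow_one])
  obtain ⟨K, iK, iF, iC, hK, ⟨ι⟩⟩ := exists_prime_hom p 1 one_ne_zero hf (one_dvd _)
  rw [pow_one] at hK
  obtain ⟨φ, hφ⟩ := realize_normalizer (PKlein.two_ne hodd) ι V M hle
  refine not_coatom_of_subOver ι hM hφ ?_ ?_
  · rw [hK, hf]; exact Nat.pow_le_pow_right (by omega) hf2
  · have h1 := card_pg (F := K)
    have h2 : 5 * (5 ^ 2 - 1) ≤ Fintype.card K * (Fintype.card K ^ 2 - 1) :=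
      Nat.mul_le_mul (hK ▸ hp) (Nat.sub_le_sub_right (Nat.pow_le_pow_left (hK ▸ hp) 2) 1)
    have h3 : Nat.gcd 2 (Fintype.card K - 1) * Nat.card (Matrix.ProjectiveSpecialLinearGroup (Fin 2) K) ≤
        2 * Nat.card (Matrix.ProjectiveSpecialLinearGroup (Fin 2) K) :=
      Nat.mul_le_mul_right _ (Nat.gcd_le_left _ two_pos)
    omega

theorem ge_five_of_not_dvd {n : ℕ} (h6 : 6 ∣ n) (h : ¬ p ∣ n) : 5 ≤ p := by
  have hp := (Fact.out : p.Prime)
  by_contra hc
  have := hp.two_le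
  interval_cases p
  · exact h ((show 2 ∣ 6 by norm_num).trans h6)
  · exact h ((show 3 ∣ 6 by norm_num).trans h6)
  · exact absurd hp (by norm_num)

theorem maximal_s4_case (hodd : Odd (Fintype.card F)) {M : Subgroup PG} (hM : IsCoatom M)
    (e : M ≃* Equiv.Perm (Fin 4)) (hp : ¬ p ∣ Nat.card M) :
    Fintype.card F = p ∧ (p % 8 = 1 ∨ p % 8 = 7) := by
  have hc : Nat.card M = 24 := by rw [Nat.card_congr e.toEquiv, card_s4]
  obtain ⟨V, hV, -, hle⟩ := klein_of_s4 e
  rw [hc] at hp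
  have h1 := prime_of_normalised p hodd (ge_five_of_not_dvd p (by norm_num) hp) hM hle hc.le
  refine ⟨h1, ?_⟩
  have h16 := (PKlein.sym_four_iff (F := F) rfl).1 ⟨M, ⟨e⟩⟩
  rw [h1] at h16
  obtain ⟨k, r, hk, hr⟩ : ∃ k r, p = 8 * k + r ∧ r < 8 := ⟨p / 8, p % 8, by omega, by omega⟩
  rw [hk, show (8 * k + r) ^ 2 = r ^ 2 + 16 * (4 * k ^ 2 + k * r) by ring, Nat.add_mul_mod_self_left] at h16
  interval_cases r <;> simp at h16 <;> omega

theorem maximal_a4_case (hodd : Odd (Fintype.card F)) (h5 : 5 ≤ Fintype.card F) {M : Subgroup PG}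
    (hM : IsCoatom M) (e : M ≃* alternatingGroup (Fin 4)) (hp : ¬ p ∣ Nat.card M) :
    Fintype.card F = p ∧ (p % 8 = 3 ∨ p % 8 = 5) ∧ ¬ (p % 10 = 1 ∨ p % 10 = 9) := by
  have h2 := PKlein.two_ne (F := F) hodd
  have hc : Nat.card M = 12 := by rw [Nat.card_congr e.toEquiv, card_a4]
  obtain ⟨V, hV, -, hle⟩ := klein_of_a4 e
  rw [hc] at hp
  have h1 := prime_of_normalised p hodd (ge_five_of_not_dvd p (by norm_num) hp) hM hle (by omega)
  have ho : p % 2 = 1 := by rw [h1, Nat.odd_iff] at hodd; exact hodd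
  have hG := card_pg (F := F)
  have h8 : p % 8 = 3 ∨ p % 8 = 5 := by
    by_contra hcon
    have h8 : p % 8 = 1 ∨ p % 8 = 7 := by omega
    have h8' := KleinN.eight_dvd_normalizer V ((PKlein.card_pg_two_part h2 h1).1 h8)
    obtain ⟨hcap, -⟩ := KleinN.normalizer_cap V (PKlein.centralizer_klein h2 V)
    have h12 : 12 ∣ Nat.card (Subgroup.normalizer (V : Set PG)) := hc ▸ Subgroup.card_dvd_of_le hle
    have h24 : Nat.card (Subgroup.normalizer (V : Set PG)) = 24 := by
      have : 0 < Nat.card (Subgroup.normalizer (V : Set PG)) := Nat.card_pos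
      omega
    have htop : Subgroup.normalizer (V : Set PG) ≠ ⊤ := fun h => by
      rw [h, Subgroup.card_top] at h24
      have := pg_large (F := F) (by omega)
      omega
    have := eq_of_coatom hM hle htop
    rw [this] at hc
    omega
  refine ⟨h1, h8, fun h10 => ?_⟩
  have h5d : 5 ∣ Fintype.card F * (Fintype.card F ^ 2 - 1) := by
    rw [h1]
    refine dvd_mul_of_dvd_right (Nat.dvd_of_mod_eq_zero ?_) _
    have : p % 5 = 1 ∨ p % 5 = 4 := by omega
    have h' : p ^ 2 % 5 = 1 := by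
      rw [Nat.pow_mod]
      rcases this with h | h <;> rw [h]
    omega
  obtain ⟨A, ⟨eA⟩⟩ := (A5InPSL.main (F := F) rfl).2 h5d
  obtain ⟨L, hLA, ⟨eL⟩⟩ := a4_in_a5 eA
  obtain ⟨W, hW, -, hLW⟩ := klein_of_a4 eL
  have hN12 := PKlein.normalizer_twelve h2 h1 h8 W
  have hLeq : L = Subgroup.normalizer (W : Set PG) :=
    Subgroup.eq_of_le_of_card_ge hLW (by rw [hN12, Nat.card_congr eL.toEquiv, card_a4])
  obtain ⟨g, hg⟩ := PKlein.one_class h2 h1 h8 W V hW hV
  have hMA : M ≤ A.map (MulAut.conj g).toMonoidHom := by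
    refine hle.trans ?_
    rw [hg, normalizer_map_conj, ← hLeq]
    exact Subgroup.map_mono hLA
  have hcA : Nat.card (A.map (MulAut.conj g).toMonoidHom) = 60 := by
    rw [Subgroup.card_map_of_injective (MulAut.conj g).injective, Nat.card_congr eA.toEquiv, card_a5]
  have htop : A.map (MulAut.conj g).toMonoidHom ≠ ⊤ := fun h => by
    rw [h, Subgroup.card_top] at hcA
    have hq : 7 ≤ Fintype.card F := by omega
    have := pg_large (F := F) hq
    omega
  rw [← eq_of_coatom hM hMA htop] at hcA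
  omega

theorem maximal_a5_case (hodd : Odd (Fintype.card F)) {M : Subgroup PG} (hM : IsCoatom M)
    (e : M ≃* alternatingGroup (Fin 5)) (hp : ¬ p ∣ Nat.card M ∨ p = 3) :
    (Fintype.card F % 10 = 1 ∨ Fintype.card F % 10 = 9) ∧
      (Fintype.card F = p ∨ (Fintype.card F = p ^ 2 ∧ (p % 10 = 3 ∨ p % 10 = 7))) := by
  have h2 := PKlein.two_ne (F := F) hodd
  have hc : Nat.card M = 60 := by rw [Nat.card_congr e.toEquiv, card_a5]
  rw [hc] at hp
  have hpp : p.Prime := Fact.out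
  have hp5 : p ≠ 5 := fun h => by
    rcases hp with hp | hp
    · exact hp (h ▸ by norm_num)
    · omega
  obtain ⟨f, hf1, hf⟩ := Classical.card_field_eq_pow (F := F) p
  have hpodd : p % 2 = 1 := by
    rcases hpp.eq_two_or_odd with h | h
    · exfalso
      rw [hf, h, Nat.odd_iff, Nat.pow_mod] at hodd
      simp [show f ≠ 0 by omega] at hodd
    · exact h
  have hp5' : p % 5 ≠ 0 := fun h =>
    hp5 ((Nat.prime_dvd_prime_iff_eq Nat.prime_five hpp).1 (Nat.dvd_of_mod_eq_zero h)).symm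
  have hG := card_pg (F := F)
  have h5G : 5 ∣ Fintype.card F * (Fintype.card F ^ 2 - 1) := by
    rw [← hG]
    refine dvd_mul_of_dvd_right ((show 5 ∣ 60 by norm_num).trans ?_) _
    exact hc ▸ M.card_subgroup_dvd_card
  obtain ⟨c, hc0, hcf, hc5⟩ : ∃ c : ℕ, c ≠ 0 ∧ c ∣ f ∧
      ((c = 1 ∧ (p % 5 = 1 ∨ p % 5 = 4)) ∨ (c = 2 ∧ (p % 5 = 2 ∨ p % 5 = 3))) := by
    rcases (show (p % 5 = 1 ∨ p % 5 = 4) ∨ (p % 5 = 2 ∨ p % 5 = 3) by omega) with h | h
    · exact ⟨1, one_ne_zero, one_dvd _, Or.inl ⟨rfl, h⟩⟩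
    · refine ⟨2, two_ne_zero, ?_, Or.inr ⟨rfl, h⟩⟩
      by_contra hodd'
      obtain ⟨j, hj⟩ : ∃ j, f = 2 * j + 1 := ⟨f / 2, by omega⟩
      refine five_not_dvd (q := Fintype.card F) (Or.inr (Or.inr ?_)) h5G
      rw [hf, hj, pow_succ, pow_mul, Nat.mul_mod, Nat.pow_mod]
      have h4 : p ^ 2 % 5 = 4 := by
        rw [Nat.pow_mod]
        rcases h with h | h <;> rw [h]
      have h4j : 4 ^ j % 5 = 1 ∨ 4 ^ j % 5 = 4 := by
        clear hj
        induction j with
        | zero => exact Or.inl rfl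
        | succ j ih => rw [pow_succ]; omega
      rw [h4]
      rcases h4j with h4j | h4j <;> rcases h with h | h <;> rw [h4j, h] <;> norm_num
  obtain ⟨K, iK, iF, iC, hK, ⟨ι⟩⟩ := exists_prime_hom p c hc0 hf hcf
  obtain ⟨s, hs⟩ := five_square (K := K) p c hK (fun h => by omega) hp5 (by
    rcases hc5 with ⟨-, h⟩ | ⟨h, -⟩
    exacts [Or.inl h, Or.inr h])
  obtain ⟨L, hLM, ⟨eL⟩⟩ := a4_in_a5 e
  obtain ⟨V, hV, hVL, -⟩ := klein_of_a4 eL
  obtain ⟨φ, hφ⟩ := realize_traces h2 ι V M (hVL.trans hLM) (traces_a5 ι h2 hs.symm e)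
  have hfc : f = c := by
    by_contra hne
    obtain ⟨m, hm⟩ := hcf
    have hm2 : 2 ≤ m := by
      by_contra hcon
      interval_cases m <;> omega
    refine not_coatom_of_subOver ι hM hφ ?_ ?_
    · rw [hK, hf, hm, ← pow_mul]
      exact Nat.pow_le_pow_right hpp.pos (Nat.mul_le_mul_left _ hm2)
    · have := psl_card_bound (K := K) (by
        rw [hK]
        rcases hc5 with ⟨rfl, h⟩ | ⟨rfl, h⟩
        · rw [pow_one]
          have := hpp.two_le
          by_contra hcon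
          interval_cases p <;> simp_all
        · have : 3 ^ 2 ≤ p ^ 2 := Nat.pow_le_pow_left (by have := hpp.two_le; omega) 2
          omega)
      omega
  subst hfc
  rcases hc5 with ⟨rfl, h⟩ | ⟨rfl, h⟩
  · rw [pow_one] at hf
    exact ⟨by rw [hf]; omega, Or.inl hf⟩
  · refine ⟨?_, Or.inr ⟨hf, by omega⟩⟩
    rw [hf, Nat.pow_mod]
    rcases (show p % 10 = 3 ∨ p % 10 = 7 by omega) with h' | h' <;> rw [h'] <;> norm_num

theorem conj_sylow_not_coatom {M L : Subgroup PG} {r j : ℕ} [Fact r.Prime] (hM : IsCoatom M)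
    (hc : Nat.card M = r ^ j) (hmax : ¬ r ^ (j + 1) ∣ Nat.card PG) (hdvd : r ^ j ∣ Nat.card L)
    (hlt : r ^ j < Nat.card L) (hL : Nat.card L < Nat.card PG) : False := by
  obtain ⟨Q, hQ⟩ := Sylow.exists_subgroup_card_pow_prime r hdvd (G := L)
  have hQ' : Nat.card (Q.map L.subtype) = r ^ j := by rw [Subgroup.card_map_of_injective L.subtype_injective, hQ]
  have hmult : r ^ (Nat.card PG).factorization r = r ^ j := by
    have h0 : Nat.card PG ≠ 0 := Nat.card_pos.ne'
    have h1 : j ≤ (Nat.card PG).factorization r :=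
      (Nat.Prime.pow_dvd_iff_le_factorization Fact.out h0).1 (hc ▸ M.card_subgroup_dvd_card)
    have h2 : ¬ j + 1 ≤ (Nat.card PG).factorization r := fun h =>
      hmax ((Nat.Prime.pow_dvd_iff_le_factorization Fact.out h0).2 h)
    congr 1
    omega
  let P₁ : Sylow r PG := Sylow.ofCard M (by rw [hc, hmult])
  let P₂ : Sylow r PG := Sylow.ofCard (Q.map L.subtype) (by rw [hQ', hmult])
  obtain ⟨g, hg⟩ := MulAction.exists_smul_eq PG P₂ P₁
  have hle : M ≤ L.map (MulAut.conj g).toMonoidHom := by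
    have e : M = (Q.map L.subtype).map (MulAut.conj g).toMonoidHom := by
      have := congrArg (fun P : Sylow r PG => (P : Subgroup PG)) hg
      exact this.symm
    rw [e]
    exact Subgroup.map_mono (Subgroup.map_subtype_le Q)
  have hcard : Nat.card (L.map (MulAut.conj g).toMonoidHom) = Nat.card L :=
    Subgroup.card_map_of_injective (MulAut.conj g).injective
  have htop : L.map (MulAut.conj g).toMonoidHom ≠ ⊤ := fun h => by
    rw [h, Subgroup.card_top] at hcard
    omega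
  rw [← eq_of_coatom hM hle htop, hc] at hcard
  omega

theorem conj_cyclic_not_coatom {x : PG} (hx : x ^ p ≠ 1) (hM : IsCoatom (Subgroup.normalizer (tor x : Set PG)))
    {n : ℕ} [Fact n.Prime] (hn : Nat.card (tor x) = n) (hn3 : 3 ≤ n) (hmax : ¬ n ^ 2 ∣ Nat.card PG)
    {L : Subgroup PG} {A : Type*} [Group A] [Finite A] (e : L ≃* A) (y w : A) (hy : y ^ n = 1) (hy1 : y ≠ 1)
    (hw : w * y * w⁻¹ = y⁻¹) (hA : 2 * n < Nat.card A) (hG : Nat.card A < Nat.card PG) : False := by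
  set y' : PG := ((e.symm y : L) : PG)
  have hy' : orderOf y' = n := by
    rw [Subgroup.orderOf_coe, MulEquiv.orderOf_eq]
    exact orderOf_eq_prime hy hy1
  have hmult : n ^ (Nat.card PG).factorization n = n := by
    have h0 : Nat.card PG ≠ 0 := Nat.card_pos.ne'
    have h1 : 1 ≤ (Nat.card PG).factorization n :=
      (Nat.Prime.pow_dvd_iff_le_factorization Fact.out h0).1 (by
        rw [pow_one, ← hn]; exact (tor x).card_subgroup_dvd_card)
    have h2 : ¬ 2 ≤ (Nat.card PG).factorization n := fun h =>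
      hmax ((Nat.Prime.pow_dvd_iff_le_factorization Fact.out h0).2 h)
    rw [show (Nat.card PG).factorization n = 1 by omega, pow_one]
  let P₁ : Sylow n PG := Sylow.ofCard (tor x) (by rw [hmult, hn])
  let P₂ : Sylow n PG := Sylow.ofCard (Subgroup.zpowers y') (by rw [hmult, Nat.card_zpowers, hy'])
  obtain ⟨g, hg⟩ := MulAction.exists_smul_eq PG P₂ P₁
  have etor : tor x = (Subgroup.zpowers y').map (MulAut.conj g).toMonoidHom :=
    (congrArg (fun P : Sylow n PG => (P : Subgroup PG)) hg).symm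
  set L' := L.map (MulAut.conj g).toMonoidHom
  have hTL : tor x ≤ L' := by
    rw [etor]
    exact Subgroup.map_mono (Subgroup.zpowers_le.2 (e.symm y).2)
  set w' : PG := g * ((e.symm w : L) : PG) * g⁻¹
  have hw'L : w' ∈ L' := ⟨_, (e.symm w).2, rfl⟩
  have hwy : ((e.symm w : L) : PG) * y' * ((e.symm w : L) : PG)⁻¹ = y'⁻¹ := by
    rw [← Subgroup.coe_inv, ← Subgroup.coe_mul, ← Subgroup.coe_mul, ← Subgroup.coe_inv, ← map_inv, ← map_mul,
      ← map_mul, hw, map_inv]
  have hgy : g * y' * g⁻¹ ∈ tor x := by rw [etor]; exact ⟨y', Subgroup.mem_zpowers y', rfl⟩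
  have hw'y : w' * (g * y' * g⁻¹) * w'⁻¹ = (g * y' * g⁻¹)⁻¹ := by
    calc w' * (g * y' * g⁻¹) * w'⁻¹
        = g * (((e.symm w : L) : PG) * y' * ((e.symm w : L) : PG)⁻¹) * g⁻¹ := by
          show g * _ * g⁻¹ * (g * y' * g⁻¹) * (g * _ * g⁻¹)⁻¹ = _
          group
      _ = (g * y' * g⁻¹)⁻¹ := by rw [hwy]; group
  have hgy1 : g * y' * g⁻¹ ≠ 1 := fun h => by
    rw [mul_inv_eq_one, mul_eq_left] at h
    rw [h, orderOf_one] at hy'
    omega
  have hw'N : w' ∈ Subgroup.normalizer (tor x : Set PG) := by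
    rw [mem_normalizer_map_iff, ← tor_eq (ne_one_of_semis p hx) hgy hgy1, ← tor_conj, hw'y,
      tor_eq (ne_one_of_semis p hx) hgy hgy1]
    exact tor_eq (ne_one_of_semis p hx) (inv_mem hgy) (inv_ne_one.2 hgy1)
  have hw'T : w' ∉ tor x := fun h => by
    rw [tor_comm (ne_one_of_semis p hx) h hgy, mul_inv_cancel_right] at hw'y
    have h2 : orderOf y' ∣ 2 := by
      refine orderOf_dvd_of_pow_eq_one ?_
      have h3 : (g * y' * g⁻¹) ^ 2 = 1 := by
        rw [pow_two]; nth_rw 1 [hw'y]; rw [inv_mul_cancel]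
      rwa [conj_pow, mul_inv_eq_one, mul_eq_left] at h3
    rw [hy'] at h2
    have := Nat.le_of_dvd two_pos h2
    omega
  have hle : Subgroup.normalizer (tor x : Set PG) ≤ L' := by
    intro z hz
    by_cases hzT : z ∈ tor x
    · exact hTL hzT
    obtain ⟨v, -, -, -, -, hc⟩ := normalizer_semis p hx
    have h1 := (hc z hz).resolve_left hzT
    have h2 := (hc w' hw'N).resolve_left hw'T
    have h3 : z = w' * ((v * w')⁻¹ * (v * z)) := by group
    rw [h3]
    exact mul_mem hw'L (hTL (mul_mem (inv_mem h2) h1))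
  have hcL : Nat.card L' = Nat.card A := by
    rw [Subgroup.card_map_of_injective (MulAut.conj g).injective, Nat.card_congr e.toEquiv]
  have htop : L' ≠ ⊤ := fun h => by
    rw [h, Subgroup.card_top] at hcL
    omega
  rw [← eq_of_coatom hM hle htop, card_normalizer_semis p hx, hn] at hcL
  omega

theorem inverting_pairs :
    (∃ y w : Equiv.Perm (Fin 4), y ^ 3 = 1 ∧ y ≠ 1 ∧ w * y * w⁻¹ = y⁻¹) ∧
    (∃ y w : Equiv.Perm (Fin 5), Equiv.Perm.sign y = 1 ∧ Equiv.Perm.sign w = 1 ∧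
      y ^ 5 = 1 ∧ y ≠ 1 ∧ w * y * w⁻¹ = y⁻¹) := by
  refine ⟨⟨Equiv.swap 0 1 * Equiv.swap 1 2, Equiv.swap 0 2, by decide +kernel, by decide +kernel, by decide +kernel⟩,
    ⟨Equiv.swap 0 1 * Equiv.swap 1 2 * Equiv.swap 2 3 * Equiv.swap 3 4, Equiv.swap 0 3 * Equiv.swap 1 2,
      by decide +kernel, by decide +kernel, by decide +kernel, by decide +kernel, by decide +kernel⟩⟩

theorem toral_case_small (hodd : Odd (Fintype.card F)) (h5 : 5 ≤ Fintype.card F) {x : PG} (hx : x ^ p ≠ 1)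
    (hM : IsCoatom (Subgroup.normalizer (tor x : Set PG))) :
    (13 ≤ Fintype.card F ∧ 2 * Nat.card (tor x) = Fintype.card F - 1) ∨
      (Fintype.card F ≠ 7 ∧ Fintype.card F ≠ 9 ∧ 2 * Nat.card (tor x) = Fintype.card F + 1) := by
  have ho := Nat.odd_iff.1 hodd
  have hd : Nat.gcd 2 (Fintype.card F - 1) = 2 := Nat.gcd_eq_left (by omega)
  have hcN := card_normalizer_semis p hx
  have ht := card_tor_semis p hx
  have hG := card_pg (F := F)
  rw [hd] at ht hG
  haveI : Fact (Nat.Prime 2) := ⟨Nat.prime_two⟩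
  haveI : Fact (Nat.Prime 3) := ⟨Nat.prime_three⟩
  haveI : Fact (Nat.Prime 5) := ⟨Nat.prime_five⟩
  obtain ⟨⟨y4, w4, hy4, hy41, hw4⟩, ⟨y5, w5, sy5, sw5, hy5, hy51, hw5⟩⟩ := inverting_pairs
  have hA5 : ∀ (_ : 5 ∣ Fintype.card F * (Fintype.card F ^ 2 - 1)) (_ : Nat.card (tor x) = 5)
      (_ : ¬ 5 ^ 2 ∣ Nat.card PG) (_ : 60 < Nat.card PG), False := by
    intro h1 h2 h3 h4
    obtain ⟨L, ⟨e⟩⟩ := (A5InPSL.main (F := F) rfl).2 h1
    exact conj_cyclic_not_coatom p hx hM (n := 5) h2 (by norm_num) h3 e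
      ⟨y5, Equiv.Perm.mem_alternatingGroup.2 sy5⟩ ⟨w5, Equiv.Perm.mem_alternatingGroup.2 sw5⟩
      (Subtype.ext hy5) (fun h => hy51 (congrArg Subtype.val h)) (Subtype.ext hw5)
      (by rw [card_a5]; norm_num) (by rw [card_a5]; exact h4)
  have hS4 : ∀ (_ : Fintype.card F ^ 2 % 16 = 1) (_ : Nat.card (tor x) = 4 ∨ Nat.card (tor x) = 3)
      (_ : ¬ 16 ∣ Nat.card PG) (_ : ¬ 9 ∣ Nat.card PG ∨ Nat.card (tor x) = 4) (_ : 24 < Nat.card PG), False := by
    intro h1 h2 h3 h4 h6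
    obtain ⟨L, ⟨e⟩⟩ := (PKlein.sym_four_iff (F := F) rfl).2 h1
    have hcL : Nat.card L = 24 := by rw [Nat.card_congr e.toEquiv, card_s4]
    rcases h2 with h2 | h2
    · exact conj_sylow_not_coatom (r := 2) (j := 3) hM (by rw [hcN, h2]; norm_num) (by norm_num; exact h3)
        (by rw [hcL]; norm_num) (by rw [hcL]; norm_num) (by rw [hcL]; exact h6)
    · exact conj_cyclic_not_coatom p hx hM (n := 3) h2 le_rfl (by norm_num; exact h4.resolve_right (by omega)) e
        y4 w4 hy4 hy41 hw4 (by rw [card_s4]; norm_num) (by rw [card_s4]; exact h6)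
  rcases ht with ht | ht
  · left
    refine ⟨?_, by omega⟩
    by_contra hsmall
    obtain h | h | h | h : Fintype.card F = 5 ∨ Fintype.card F = 7 ∨ Fintype.card F = 9 ∨ Fintype.card F = 11 := by
      omega
    · rw [h] at hG ht
      norm_num at hG
      obtain ⟨L, ⟨e⟩⟩ := (PKlein.alt_four_iff (F := F) p 1 (by
        rw [pow_one, h]
        obtain ⟨f, hf1, hf⟩ := Classical.card_field_eq_pow (F := F) p
        rw [h] at hf
        have hd5 : p ∣ 5 := hf ▸ dvd_pow_self p (by omega)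
        exact ((Nat.prime_dvd_prime_iff_eq Fact.out Nat.prime_five).1 hd5).symm)).2 (fun hh => by
        obtain ⟨f, hf1, hf⟩ := Classical.card_field_eq_pow (F := F) p
        rw [h, hh.1] at hf
        have : 2 ∣ 5 := hf ▸ dvd_pow_self 2 (by omega)
        omega)
      exact conj_sylow_not_coatom (r := 2) (j := 2) hM (by rw [hcN, show Nat.card (tor x) = 2 by omega]; norm_num)
        (by rw [show Nat.card PG = 60 by omega]; norm_num)
        (by rw [Nat.card_congr e.toEquiv, card_a4]; norm_num)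
        (by rw [Nat.card_congr e.toEquiv, card_a4]; norm_num)
        (by rw [Nat.card_congr e.toEquiv, card_a4]; omega)
    all_goals (rw [h] at hG ht; norm_num at hG)
    · exact hS4 (by rw [h]; rfl) (Or.inr (by omega)) (by omega) (Or.inl (by omega)) (by omega)
    · exact hS4 (by rw [h]; rfl) (Or.inl (by omega)) (by omega) (Or.inr (by omega)) (by omega)
    · exact hA5 (by rw [h]; norm_num) (by omega) (by omega) (by omega)
  · right
    refine ⟨fun h => ?_, fun h => ?_, by omega⟩ <;> rw [h] at hG ht <;> norm_num at hG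
    · exact hS4 (by rw [h]; rfl) (Or.inl (by omega)) (by omega) (Or.inr (by omega)) (by omega)
    · exact hA5 (by rw [h]; norm_num) (by omega) (by omega) (by omega)

theorem maximal_odd (hodd : Odd (Fintype.card F)) (h5 : 5 ≤ Fintype.card F) (M : Subgroup PG) (hM : IsCoatom M) :
    2 * Nat.card M = Fintype.card F * (Fintype.card F - 1) ∨
    (13 ≤ Fintype.card F ∧ (∃ k : ℕ, 2 * k = Fintype.card F - 1 ∧ Nonempty (M ≃* DihedralGroup k))) ∨
    (Fintype.card F ≠ 7 ∧ Fintype.card F ≠ 9 ∧ (∃ k : ℕ, 2 * k = Fintype.card F + 1 ∧ Nonempty (M ≃* DihedralGroup k))) ∨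
    (∃ (F₀ : Type) (_ : Field F₀) (_ : Fintype F₀), Fintype.card F = Fintype.card F₀ ^ 2 ∧
        Nonempty (M ≃* Matrix.ProjGenLinGroup (Fin 2) F₀)) ∨
    (∃ (F₀ : Type) (_ : Field F₀) (_ : Fintype F₀) (r : ℕ), r.Prime ∧ Odd r ∧ Fintype.card F = Fintype.card F₀ ^ r ∧
        Nonempty (M ≃* Matrix.ProjectiveSpecialLinearGroup (Fin 2) F₀)) ∨
    ((Fintype.card F % 10 = 1 ∨ Fintype.card F % 10 = 9) ∧
        (Fintype.card F = p ∨ (Fintype.card F = p ^ 2 ∧ (p % 10 = 3 ∨ p % 10 = 7))) ∧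
        Nonempty (M ≃* alternatingGroup (Fin 5))) ∨
    (Fintype.card F = p ∧ (p % 8 = 3 ∨ p % 8 = 5) ∧ ¬ (p % 10 = 1 ∨ p % 10 = 9) ∧
        Nonempty (M ≃* alternatingGroup (Fin 4))) ∨
    (Fintype.card F = p ∧ (p % 8 = 1 ∨ p % 8 = 7) ∧ Nonempty (M ≃* Equiv.Perm (Fin 4))) := by
  rcases classify_strong p M with ⟨x, hx, hle⟩ | ⟨x, hx1, hx, hle⟩ | ⟨⟨e⟩, hp⟩ | ⟨⟨e⟩, hp⟩ | ⟨⟨e⟩, hp⟩ | hsub
  · have heq := eq_of_coatom hM hle (normalizer_semis_ne_top p (by omega) hx)
    subst heq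
    rcases toral_case_small p hodd h5 hx hM with ⟨h1, h2⟩ | ⟨h1, h2, h3⟩
    · exact Or.inr (Or.inl ⟨h1, _, h2, normalizer_dihedral p hx⟩)
    · exact Or.inr (Or.inr (Or.inl ⟨h1, h2, _, h3, normalizer_dihedral p hx⟩))
  · left
    have heq := eq_of_coatom hM hle (normalizer_unip_ne_top p hx1 hx)
    have h := card_normalizer_unip p hx1 hx
    rw [← heq, Nat.gcd_eq_left (by rw [Nat.odd_iff] at hodd; omega : 2 ∣ Fintype.card F - 1)] at h
    rw [mul_comm, h, mul_comm]
  · obtain ⟨h1, h2, h3⟩ := maximal_a4_case p hodd h5 hM e hp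
    exact Or.inr (Or.inr (Or.inr (Or.inr (Or.inr (Or.inr (Or.inl ⟨h1, h2, h3, ⟨e⟩⟩))))))
  · obtain ⟨h1, h2⟩ := maximal_s4_case p hodd hM e hp
    exact Or.inr (Or.inr (Or.inr (Or.inr (Or.inr (Or.inr (Or.inr ⟨h1, h2, ⟨e⟩⟩))))))
  · obtain ⟨h1, h2⟩ := maximal_a5_case p hodd hM e hp
    exact Or.inr (Or.inr (Or.inr (Or.inr (Or.inr (Or.inl ⟨h1, h2, ⟨e⟩⟩)))))
  · obtain ⟨F₀, i1, i2, r, hr, -, hF, ⟨hr2, -, he⟩ | ⟨hn, he⟩⟩ := maximal_sub p hM hsub
    · exact Or.inr (Or.inr (Or.inr (Or.inl ⟨F₀, i1, i2, hr2 ▸ hF, he⟩)))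
    · exact Or.inr (Or.inr (Or.inr (Or.inr (Or.inl
        ⟨F₀, i1, i2, r, hr, hr.odd_of_ne_two fun h => hn ⟨h, hodd⟩, hF, he⟩))))

omit [Fact p.Prime] [CharP F p] in
theorem maximal_even (heven : Even (Fintype.card F)) (h4 : 4 ≤ Fintype.card F) (M : Subgroup PG) (hM : IsCoatom M) :
    Nat.card M = Fintype.card F * (Fintype.card F - 1) ∨
    Nonempty (M ≃* DihedralGroup (Fintype.card F - 1)) ∨
    Nonempty (M ≃* DihedralGroup (Fintype.card F + 1)) ∨
    (∃ (F₀ : Type) (_ : Field F₀) (_ : Fintype F₀) (r : ℕ), r.Prime ∧ Fintype.card F₀ ≠ 2 ∧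
        Fintype.card F = Fintype.card F₀ ^ r ∧ Nonempty (M ≃* Matrix.ProjectiveSpecialLinearGroup (Fin 2) F₀)) := by
  haveI : CharP F 2 := CharTwo.of_one_ne_zero_of_two_eq_zero one_ne_zero (PKlein.two_eq_zero_of_even heven)
  haveI : Fact (Nat.Prime 2) := ⟨Nat.prime_two⟩
  have he := Nat.even_iff.1 heven
  have hd : Nat.gcd 2 (Fintype.card F - 1) = 1 := Nat.prime_two.coprime_iff_not_dvd.2 (by omega)
  rcases classify_strong 2 M with ⟨x, hx, hle⟩ | ⟨x, hx1, hx, hle⟩ | ⟨⟨e⟩, hp⟩ | ⟨⟨e⟩, hp⟩ | ⟨⟨e⟩, hp⟩ | hsub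
  · have heq := eq_of_coatom hM hle (normalizer_semis_ne_top 2 h4 hx)
    subst heq
    have hdih := normalizer_dihedral 2 hx
    rcases card_tor_semis 2 hx with h | h <;> rw [hd, mul_one] at h <;> rw [h] at hdih
    · exact Or.inr (Or.inl hdih)
    · exact Or.inr (Or.inr (Or.inl hdih))
  · left
    have heq := eq_of_coatom hM hle (normalizer_unip_ne_top 2 hx1 hx)
    have h := card_normalizer_unip 2 hx1 hx
    rw [← heq, hd, mul_one] at h
    rw [h, mul_comm]
  · exact absurd (by rw [Nat.card_congr e.toEquiv, card_a4]; norm_num) hp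
  · exact absurd (by rw [Nat.card_congr e.toEquiv, card_s4]; norm_num) hp
  · exact absurd (by rw [Nat.card_congr e.toEquiv, card_a5]; norm_num) (hp.resolve_right (by norm_num))
  · obtain ⟨F₀, i1, i2, r, hr, hs, hF, ⟨-, ho, -⟩ | ⟨-, he'⟩⟩ := maximal_sub 2 hM hsub
    · exact absurd ho (Nat.not_odd_iff_even.2 heven)
    · exact Or.inr (Or.inr (Or.inr ⟨F₀, i1, i2, r, hr, by omega, hF, he'⟩))

end Cfsg.Agent.Classical.Dickson2
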