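import Mathlib
import Cfsg.Agent.Classical.Dickson2.Lines

/-!
Solubilizers in PSL(2,q): the semisimple elements, and the even characteristic case.
-/

set_option autoImplicit false

namespace Cfsg.Agent.Classical.Dickson2

open Matrix Cfsg.Agent.SL2Class
open scoped MatrixGroups

section General

variable {G : Type*} [Group G]

theorem closure_pair_le {H : Subgroup G} {x y : G} (hx : x ∈ H) (hy : y ∈ H) :
    Subgroup.closure ({x, y} : Set G) ≤ H :=
  (Subgroup.closure_le H).2 (Set.pair_subset hx hy)

theorem mem_closure_left (x y : G) : x ∈ Subgroup.closure ({x, y} : Set G) := Subgroup.subset_closure (by simp)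

theorem mem_closure_right (x y : G) : y ∈ Subgroup.closure ({x, y} : Set G) := Subgroup.subset_closure (by simp)

/-- Two involutions generate a soluble group. -/
theorem solvable_two_invol {x y : G} (hx : x * x = 1) (hy : y * y = 1) :
    Group.IsSolvable (Subgroup.closure ({x, y} : Set G)) := by
  set S := Subgroup.zpowers (x * y) with hS
  have hxi : x⁻¹ = x := inv_eq_of_mul_eq_one_right hx
  have hyi : y⁻¹ = y := inv_eq_of_mul_eq_one_right hy
  have hinv : ∀ s ∈ S, x * s * x = s⁻¹ := by
    rintro s ⟨i, rfl⟩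
    calc x * (x * y) ^ i * x = x * (x * y) ^ i * x⁻¹ := by rw [hxi]
      _ = (x * (x * y) * x⁻¹) ^ i := by rw [conj_zpow]
      _ = ((x * y)⁻¹) ^ i := by rw [← mul_assoc x x, hx, one_mul, _root_.mul_inv_rev, hxi, hyi]
      _ = _ := inv_zpow _ _
  have hcomm : ∀ a ∈ S, ∀ b ∈ S, a * b = b * a := by
    rintro a ⟨i, rfl⟩ b ⟨j, rfl⟩
    exact (Commute.zpow_zpow_self _ i j).eq
  have hmem : ∀ h ∈ Subgroup.closure ({x, y} : Set G), h ∈ S ∨ x * h ∈ S := by
    intro h hh
    induction hh using Subgroup.closure_induction with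
    | mem z hz =>
      rcases hz with rfl | rfl
      · exact Or.inr (by rw [hx]; exact one_mem _)
      · exact Or.inr (Subgroup.mem_zpowers _)
    | one => exact Or.inl (one_mem _)
    | mul a b _ _ iha ihb =>
      rcases iha with ha | ha <;> rcases ihb with hb | hb
      · exact Or.inl (mul_mem ha hb)
      · refine Or.inr ?_
        have e : x * (a * b) = (x * a * x) * (x * b) := by
          rw [show x * a * x * (x * b) = x * a * (x * x) * b by group, hx]; group
        rw [e, hinv a ha]
        exact mul_mem (inv_mem ha) hb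
      · exact Or.inr (by rw [← mul_assoc]; exact mul_mem ha hb)
      · refine Or.inl ?_
        have e : a * b = (x * (x * a) * x) * (x * b) := by
          rw [show x * (x * a) * x * (x * b) = x * x * a * (x * x) * b by group, hx]; group
        rw [e, hinv _ ha]
        exact mul_mem (inv_mem ha) hb
    | inv a _ iha =>
      rcases iha with ha | ha
      · exact Or.inl (inv_mem ha)
      · refine Or.inr ?_
        have e : x * a⁻¹ = x * (x * a)⁻¹ * x := by
          rw [_root_.mul_inv_rev, hxi, mul_assoc, mul_assoc, hx, mul_one]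
        rw [e, hinv _ (inv_mem ha), inv_inv]
        exact ha
  refine solvable_of_comm_le _ S hcomm fun a ha b hb => ?_
  rcases hmem a ha with ha | ha <;> rcases hmem b hb with hb | hb
  · exact mul_mem (mul_mem (mul_mem ha hb) (inv_mem ha)) (inv_mem hb)
  · obtain ⟨t, ht, rfl⟩ : ∃ t ∈ S, b = x * t := ⟨x * b, hb, by rw [← mul_assoc, hx, one_mul]⟩
    rw [show a * (x * t) * a⁻¹ * (x * t)⁻¹ = a * (x * (t * a⁻¹ * t⁻¹) * x⁻¹) by group,
      hcomm t ht _ (inv_mem ha), mul_inv_cancel_right, hxi, hinv _ (inv_mem ha), inv_inv]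
    exact mul_mem ha ha
  · obtain ⟨t, ht, rfl⟩ : ∃ t ∈ S, a = x * t := ⟨x * a, ha, by rw [← mul_assoc, hx, one_mul]⟩
    rw [show x * t * b * (x * t)⁻¹ * b⁻¹ = x * (t * b * t⁻¹) * x⁻¹ * b⁻¹ by group,
      hcomm t ht _ hb, mul_inv_cancel_right, hxi, hinv _ hb]
    exact mul_mem (inv_mem hb) (inv_mem hb)
  · obtain ⟨t, ht, rfl⟩ : ∃ t ∈ S, a = x * t := ⟨x * a, ha, by rw [← mul_assoc, hx, one_mul]⟩
    obtain ⟨u, hu, rfl⟩ : ∃ u ∈ S, b = x * u := ⟨x * b, hb, by rw [← mul_assoc, hx, one_mul]⟩
    rw [show x * t * (x * u) * (x * t)⁻¹ * (x * u)⁻¹ = (x * t * x) * (u * t⁻¹) * (x⁻¹ * u⁻¹ * x⁻¹) by group,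
      hxi, hinv _ ht, hinv _ (inv_mem hu), inv_inv]
    exact mul_mem (mul_mem (inv_mem ht) (mul_mem hu (inv_mem ht))) hu

theorem ncard_union_three [Finite G] (A B C T : Subgroup G) (hAB : A ⊓ B = T) (hAC : A ⊓ C = T)
    (hBC : B ⊓ C = T) :
    Nat.card ↥((A : Set G) ∪ B ∪ C) + 2 * Nat.card T = Nat.card A + Nat.card B + Nat.card C := by
  have h1 := Set.ncard_union_add_ncard_inter (A : Set G) B
  have h2 := Set.ncard_union_add_ncard_inter ((A : Set G) ∪ B) C
  have e1 : (A : Set G) ∩ B = T := by rw [← Subgroup.coe_inf, hAB]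
  have e2 : ((A : Set G) ∪ B) ∩ C = T := by
    rw [Set.union_inter_distrib_right, ← Subgroup.coe_inf, ← Subgroup.coe_inf, hAC, hBC, Set.union_self]
  rw [e1] at h1
  rw [e2] at h2
  simp only [← Nat.card_coe_set_eq, SetLike.coe_sort_coe] at h1 h2
  omega

end General

variable {F : Type*} [Field F] [Fintype F]

local notation "SG" => Matrix.SpecialLinearGroup (Fin 2) F
local notation "PG" => Matrix.ProjectiveSpecialLinearGroup (Fin 2) F
local notation:1024 "↥ₘ" A:1024 => ((A : Matrix.SpecialLinearGroup (Fin 2) F) : Matrix (Fin 2) (Fin 2) F)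

variable (p : ℕ) [Fact p.Prime] [CharP F p]

theorem ne_top_of_solvable (hq : 4 ≤ Fintype.card F) {H : Subgroup PG} (h : Group.IsSolvable H) : H ≠ ⊤ := by
  rintro rfl
  exact not_solvable_psl hq (solvable_of_surjective (f := (Subgroup.topEquiv : (⊤ : Subgroup PG) ≃* PG).toMonoidHom)
    (Subgroup.topEquiv : (⊤ : Subgroup PG) ≃* PG).surjective)

/-- The solubilizer of a semisimple element that is not an involution. -/
theorem sol_semis (hq : 4 ≤ Fintype.card F) {x : PG} (hx : x ^ p ≠ 1) (hx2 : x * x ≠ 1)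
    (hclass : ∀ H : Subgroup PG, x ∈ H → H ≠ ⊤ → (∃ z : PG, z ^ p ≠ 1 ∧ H ≤ Subgroup.normalizer (tor z : Set PG)) ∨
      (∃ u : PG, u ≠ 1 ∧ u ^ p = 1 ∧ H ≤ Subgroup.normalizer (tor u : Set PG))) :
    (Nat.card (tor x) * Nat.gcd 2 (Fintype.card F - 1) = Fintype.card F - 1 →
      Nat.gcd 2 (Fintype.card F - 1) * Nat.card {y : PG // Group.IsSolvable (Subgroup.closure ({x, y} : Set PG))} =
        2 * Fintype.card F * (Fintype.card F - 1)) ∧
    (Nat.card (tor x) * Nat.gcd 2 (Fintype.card F - 1) = Fintype.card F + 1 →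
      Nat.gcd 2 (Fintype.card F - 1) * Nat.card {y : PG // Group.IsSolvable (Subgroup.closure ({x, y} : Set PG))} =
        2 * (Fintype.card F + 1)) := by
  classical
  obtain ⟨g, hgx⟩ : ∃ g, g = sect x := ⟨_, rfl⟩
  have hpg : proj g = x := hgx ▸ proj_sect x
  have htor : tor x = torus g := by rw [← hpg, tor_proj]
  have ht : tr g * tr g ≠ 4 := hgx ▸ tr_of_semis p hx
  set N := Subgroup.normalizer (tor x : Set PG) with hN
  have hxN : x ∈ N := Subgroup.le_normalizer (mem_tor x)
  have hchar : ∀ y, Group.IsSolvable (Subgroup.closure ({x, y} : Set PG)) ↔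
      y ∈ N ∨ ∃ v : Fin 2 → F, v ≠ 0 ∧ x ∈ lineStab v ∧ y ∈ lineStab v := by
    intro y
    constructor
    · intro h
      rcases hclass _ (mem_closure_left x y) (ne_top_of_solvable hq h) with ⟨z, hz, hle⟩ | ⟨u, hu, hup, hle⟩
      · left
        have hxz : x ∈ tor z := by
          by_contra hn
          exact hx2 (inverts_of_not_mem p hz (hle (mem_closure_left x y)) hn).1
        have e : tor x = tor z := tor_eq (ne_one_of_semis p hz) hxz (ne_one_of_semis p hx)
        rw [hN, e]
        exact hle (mem_closure_right x y)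
      · obtain ⟨v, hv, e⟩ := exists_lineStab p hu hup
        exact Or.inr ⟨v, hv, e ▸ hle (mem_closure_left x y), e ▸ hle (mem_closure_right x y)⟩
    · rintro (h | ⟨v, hv, h1, h2⟩)
      · exact solvable_toral p hx (closure_pair_le hxN h)
      · exact solvable_lineStab p hv (closure_pair_le h1 h2)
  have hcN : Nat.card N = 2 * Nat.card (tor x) := card_normalizer_semis p hx
  have hcc := card_torus g
  rw [← htor] at hcc
  constructor
  · intro hsplit
    obtain ⟨r, hr⟩ : ∃ r : F, r * r - tr g * r + 1 = 0 := by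
      refine (noRoot_or_root (tr g)).resolve_left fun h => ?_
      rw [card_cent_noRoot h (nonScalar_of_sq_ne ht), hsplit] at hcc
      omega
    obtain ⟨v, w, hv, hw, hinf, huniq, houter⟩ := split_lines ht hr
    rw [← htor] at hinf
    have hout : ∀ y ∈ N, y ∉ tor x → y ∉ lineStab v ∧ y ∉ lineStab w := by
      intro y hy hyn
      obtain ⟨h, rfl⟩ := proj_surjective y
      refine houter (hpg ▸ hx2) h ?_
      rw [map_mul, map_mul, map_inv, hpg, map_inv, hpg]
      exact (inverts_of_not_mem p hx hy hyn).2 x (mem_tor x)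
    have hTv : tor x ≤ lineStab v := hinf ▸ inf_le_left
    have hTw : tor x ≤ lineStab w := hinf ▸ inf_le_right
    have hNv : N ⊓ lineStab v = tor x := le_antisymm
      (fun y hy => by_contra fun hn => (hout y hy.1 hn).1 hy.2) (le_inf Subgroup.le_normalizer hTv)
    have hNw : N ⊓ lineStab w = tor x := le_antisymm
      (fun y hy => by_contra fun hn => (hout y hy.1 hn).2 hy.2) (le_inf Subgroup.le_normalizer hTw)
    have e : {y : PG | Group.IsSolvable (Subgroup.closure ({x, y} : Set PG))} =
        (N : Set PG) ∪ lineStab v ∪ lineStab w := by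
      ext y
      simp only [Set.mem_ofPred_eq, Set.mem_union, SetLike.mem_coe, hchar]
      constructor
      · rintro (h | ⟨u, hu, h1, h2⟩)
        · exact Or.inl (Or.inl h)
        · rcases huniq u hu (hpg ▸ h1) with e | e
          · exact Or.inl (Or.inr (e ▸ h2))
          · exact Or.inr (e ▸ h2)
      · rintro ((h | h) | h)
        · exact Or.inl h
        · exact Or.inr ⟨v, hv, hTv (mem_tor x), h⟩
        · exact Or.inr ⟨w, hw, hTw (mem_tor x), h⟩
    have hcard := ncard_union_three N (lineStab v) (lineStab w) (tor x) hNv hNw hinf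
    have hB1 := card_lineStab p hv
    have hB2 := card_lineStab p hw
    rw [← e, hcN] at hcard
    change Nat.gcd 2 (Fintype.card F - 1) *
      Nat.card ↥{y : PG | Group.IsSolvable (Subgroup.closure ({x, y} : Set PG))} = _
    generalize Nat.card ↥{y : PG | Group.IsSolvable (Subgroup.closure ({x, y} : Set PG))} = c at hcard ⊢
    have := congrArg (fun n : ℕ => n * Nat.gcd 2 (Fintype.card F - 1)) hcard
    simp only [add_mul, mul_assoc] at this
    rw [hB1, hB2, hsplit] at this
    rw [mul_comm, mul_assoc 2, mul_comm (Fintype.card F)]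
    omega
  · intro hell
    have hno : NoRoot (tr g) := by
      refine (noRoot_or_root (tr g)).resolve_right fun ⟨r, hr⟩ => ?_
      rw [card_cent_split hr ht, hell] at hcc
      omega
    have e : ∀ y, Group.IsSolvable (Subgroup.closure ({x, y} : Set PG)) ↔ y ∈ N := by
      intro y
      rw [hchar]
      refine ⟨?_, Or.inl⟩
      rintro (h | ⟨v, hv, h1, -⟩)
      · exact h
      · exact absurd (hpg ▸ h1) (noRoot_lines hno hv)
    rw [Nat.card_congr (Equiv.subtypeEquivRight e), hcN, mul_left_comm, mul_comm (Nat.gcd _ _), hell]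

/-- The number of solutions of `y² = 1` in even characteristic. -/
theorem card_sq_eq_one [CharP F 2] : Nat.card {y : PG // y * y = 1} = Fintype.card F ^ 2 := by
  classical
  have h2 : (2 : F) = 0 := CharP.cast_eq_zero F 2
  have hbij : Function.Bijective (proj : SG → PG) := by
    refine ⟨(injective_iff_map_eq_one _).2 fun z hz => ?_, proj_surjective⟩
    have := proj_eq_one.1 hz
    rwa [center_eq_bot h2, Subgroup.mem_bot] at this
  have e1 : {y : PG // y * y = 1} ≃ {g : SG // tr g = 0} := by
    refine (Equiv.subtypeEquiv (Equiv.ofBijective _ hbij) fun g => ?_).symm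
    rw [Equiv.ofBijective_apply, ← map_mul, ← map_one (proj (F := F)), hbij.1.eq_iff]
    constructor
    · intro ht
      rw [PKlein.mem_T0_of_tr ht]
      refine Subtype.ext ?_
      ext i j
      rw [Matrix.SpecialLinearGroup.coe_neg, Matrix.neg_apply]
      linear_combination -(((1 : SG) : Matrix (Fin 2) (Fin 2) F) i j) * h2
    · intro hg
      by_cases hs : NonScalar g
      · have e := g_sq g
        rw [← Matrix.SpecialLinearGroup.coe_mul, hg, Matrix.SpecialLinearGroup.coe_one, ← lin_one g] at e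
        exact (lin_ext hs e).2.symm
      · rcases scalar_eq hs with e | e <;> rw [e] <;> simp [tr] <;>
          first | linear_combination h2 | linear_combination -h2
  rw [Nat.card_congr e1, pow_two, ← Nat.card_eq_fintype_card, ← Nat.card_prod]
  refine Nat.card_eq_of_bijective (fun g => ((g.1.1 0 1 : F), (g.1.1 1 0 : F))) ⟨?_, ?_⟩
  · rintro ⟨g, hg⟩ ⟨g', hg'⟩ he
    simp only [Prod.mk.injEq] at he
    obtain ⟨hb, hc⟩ := he
    simp only [tr] at hg hg'
    have d1 := det_eq g
    have d2 := det_eq g'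
    have ea : g.1 0 0 = g'.1 0 0 := by
      rw [hb, hc] at d1
      have hsq : (g.1 0 0 - g'.1 0 0) * (g.1 0 0 - g'.1 0 0) = 0 := by
        linear_combination -d1 + d2 + g.1 0 0 * hg - g'.1 0 0 * hg' +
          (-(g.1 0 0 * g'.1 0 0) + g'.1 0 0 * g'.1 0 0) * h2
      exact sub_eq_zero.1 (mul_self_eq_zero.1 hsq)
    refine Subtype.ext (Subtype.ext ?_)
    ext i j
    fin_cases i <;> fin_cases j
    · exact ea
    · exact hb
    · exact hc
    · show g.1 1 1 = g'.1 1 1
      linear_combination hg - hg' - ea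
  · rintro ⟨b, c⟩
    obtain ⟨a, ha⟩ := exists_sq_eq_of_two_eq_zero h2 (1 + b * c)
    refine ⟨⟨⟨!![a, b; c, a], by rw [det_fin_two_of]; linear_combination ha⟩, ?_⟩, rfl⟩
    show a + a = 0
    linear_combination a * h2

/-- In PSL(2, 2^p), p prime, proper subgroups fix a point or normalise a torus. -/
theorem class_even [CharP F 2] {r : ℕ} (hr : r.Prime) (hF : Fintype.card F = 2 ^ r) (H : Subgroup PG) (hH : H ≠ ⊤) :
    (∃ z : PG, z ^ 2 ≠ 1 ∧ H ≤ Subgroup.normalizer (tor z : Set PG)) ∨
      (∃ u : PG, u ≠ 1 ∧ u ^ 2 = 1 ∧ H ≤ Subgroup.normalizer (tor u : Set PG)) := by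
  haveI : Fact (Nat.Prime 2) := ⟨Nat.prime_two⟩
  rcases classify_strong 2 H with h | h | ⟨⟨e⟩, hd⟩ | ⟨⟨e⟩, hd⟩ | ⟨⟨e⟩, hd⟩ | h
  · exact Or.inl h
  · exact Or.inr h
  · exact absurd (by rw [Nat.card_congr e.toEquiv, card_a4]; norm_num) hd
  · exact absurd (by rw [Nat.card_congr e.toEquiv, card_s4]; norm_num) hd
  · rcases hd with hd | hd
    · exact absurd (by rw [Nat.card_congr e.toEquiv, card_a5]; norm_num) hd
    · omega
  · exfalso
    obtain ⟨s, m, hm, hs, -, hc, -⟩ := sub_card 2 h
    have hm2 := sub_proper hm hc hH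
    rw [hF] at hm
    obtain ⟨j, -, rfl⟩ := (Nat.dvd_prime_pow Nat.prime_two).1 (hm ▸ dvd_pow_self s (by omega : m ≠ 0))
    rw [← pow_mul] at hm
    have hjm := Nat.pow_right_injective le_rfl hm
    rcases (Nat.dvd_prime hr).1 ⟨m, hjm.symm⟩ with rfl | rfl
    · norm_num at hs
    · have : j * m = j * 1 := by omega
      have := Nat.eq_of_mul_eq_mul_left hr.pos this
      omega

theorem sol_even {r : ℕ} (hr : r.Prime) (hF : Fintype.card F = 2 ^ r) (x : PG) :
    (orderOf x = 2 → Nat.card {y : PG // Group.IsSolvable (Subgroup.closure ({x, y} : Set PG))} =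
      3 * 2 ^ r * (2 ^ r - 1)) ∧
    (x ≠ 1 → orderOf x ∣ 2 ^ r - 1 →
      Nat.card {y : PG // Group.IsSolvable (Subgroup.closure ({x, y} : Set PG))} = 2 * 2 ^ r * (2 ^ r - 1)) ∧
    (x ≠ 1 → orderOf x ∣ 2 ^ r + 1 →
      Nat.card {y : PG // Group.IsSolvable (Subgroup.closure ({x, y} : Set PG))} = 2 * (2 ^ r + 1)) := by
  classical
  haveI : Fact (Nat.Prime 2) := ⟨Nat.prime_two⟩
  haveI : CharP F 2 := charP_of_card_eq_prime_pow hF
  have hq : 4 ≤ Fintype.card F := hF ▸ (show 2 ^ 2 ≤ 2 ^ r from Nat.pow_le_pow_right two_pos hr.two_le)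
  have he : 2 ∣ 2 ^ r := dvd_pow_self 2 hr.ne_zero
  rw [← hF] at he ⊢
  have hd : Nat.gcd 2 (Fintype.card F - 1) = 1 := Nat.prime_two.coprime_iff_not_dvd.2 (by omega)
  have semis : x ≠ 1 → (orderOf x ∣ Fintype.card F - 1 ∨ orderOf x ∣ Fintype.card F + 1) → x ^ 2 ≠ 1 := by
    intro hx1 h hx2
    have := orderOf_dvd_of_pow_eq_one hx2
    rcases (Nat.dvd_prime Nat.prime_two).1 this with e | e
    · exact hx1 (orderOf_eq_one_iff.1 e)
    · rw [e] at h; omega
  refine ⟨fun h2x => ?_, fun hx1 hdvd => ?_, fun hx1 hdvd => ?_⟩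
  · have hxx : x * x = 1 := by
      have h := pow_orderOf_eq_one x
      rwa [h2x, pow_two] at h
    have hx1 : x ≠ 1 := fun h => by rw [h, orderOf_one] at h2x; omega
    have hxp : x ^ 2 = 1 := by rw [pow_two, hxx]
    have hxi : x⁻¹ = x := inv_eq_of_mul_eq_one_right hxx
    set B := Subgroup.normalizer (tor x : Set PG)
    set I : Set PG := {y | y * y = 1}
    set J : Set PG := {y | x * y * (x * y) = 1}
    have hxB : x ∈ B := Subgroup.le_normalizer (mem_tor x)
    have e : {y : PG | Group.IsSolvable (Subgroup.closure ({x, y} : Set PG))} = (B : Set PG) ∪ I ∪ J := by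
      ext y
      simp only [Set.mem_ofPred_eq, Set.mem_union, SetLike.mem_coe, I, J]
      constructor
      · intro h
        rcases class_even hr hF _ (ne_top_of_solvable hq h) with ⟨z, hz, hle⟩ | ⟨u, hu, hup, hle⟩
        · have hxz : x ∉ tor z := fun hm => semis_of_mem 2 hz hm hx1 hxp
          by_cases hy : y ∈ tor z
          · refine Or.inr ?_
            rw [show x * y * (x * y) = x * y * x⁻¹ * y by rw [hxi]; group,
              (inverts_of_not_mem 2 hz (hle (mem_closure_left x y)) hxz).2 y hy, inv_mul_cancel]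
          · exact Or.inl (Or.inr (inverts_of_not_mem 2 hz (hle (mem_closure_right x y)) hy).1)
        · have hxu := borel_unip 2 hu hup (hle (mem_closure_left x y)) hxp
          refine Or.inl (Or.inl ?_)
          show y ∈ Subgroup.normalizer (tor x : Set PG)
          rw [tor_eq hu hxu hx1]
          exact hle (mem_closure_right x y)
      · rintro ((h | h) | h)
        · exact solvable_borel 2 hx1 hxp (closure_pair_le hxB h)
        · exact solvable_two_invol hxx h
        · have := solvable_two_invol hxx h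
          have hle : Subgroup.closure ({x, y} : Set PG) ≤ Subgroup.closure ({x, x * y} : Set PG) :=
            closure_pair_le (mem_closure_left _ _) (by
              simpa [← mul_assoc, hxx] using mul_mem (mem_closure_left x (x * y)) (mem_closure_right x (x * y)))
          exact solvable_of_solvable_injective (Subgroup.inclusion_injective hle)
    have hBI : (B : Set PG) ∩ I = tor x := by
      ext y
      simp only [Set.mem_inter_iff, SetLike.mem_coe, I, Set.mem_ofPred_eq]
      refine ⟨fun h => borel_unip 2 hx1 hxp h.1 (by rw [pow_two, h.2]), fun h => ?_⟩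
      exact ⟨Subgroup.le_normalizer h, by rw [← pow_two]; exact unip_of_mem 2 hx1 hxp h⟩
    have hBIJ : ((B : Set PG) ∪ I) ∩ J = tor x := by
      ext y
      simp only [Set.mem_inter_iff, Set.mem_union, SetLike.mem_coe, I, J, Set.mem_ofPred_eq]
      constructor
      · rintro ⟨h | h, hJ⟩
        · have := borel_unip 2 hx1 hxp (mul_mem hxB h) (by rw [pow_two, hJ])
          simpa [← mul_assoc, hxx] using mul_mem (mem_tor x) this
        · refine centralizer_unip 2 hx1 hxp ?_
          have e1 := inv_eq_of_mul_eq_one_right hJ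
          rw [_root_.mul_inv_rev, hxi, inv_eq_of_mul_eq_one_right h] at e1
          exact e1
      · intro h
        refine ⟨Or.inl (Subgroup.le_normalizer h), ?_⟩
        rw [← pow_two]
        exact unip_of_mem 2 hx1 hxp (mul_mem (mem_tor x) h)
    have hI : I.ncard = Fintype.card F ^ 2 := by rw [← Nat.card_coe_set_eq]; exact card_sq_eq_one
    have hJ : J.ncard = Fintype.card F ^ 2 := by
      rw [← card_sq_eq_one (F := F), ← Nat.card_coe_set_eq]
      exact Nat.card_congr (Equiv.subtypeEquiv (Equiv.mulLeft x) fun y => Iff.rfl)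
    have h1 := Set.ncard_union_add_ncard_inter (B : Set PG) I
    have h2 := Set.ncard_union_add_ncard_inter ((B : Set PG) ∪ I) J
    rw [hBI, hI] at h1
    rw [hBIJ, hJ] at h2
    change Nat.card ↥{y : PG | Group.IsSolvable (Subgroup.closure ({x, y} : Set PG))} = _
    rw [e, Nat.card_coe_set_eq]
    simp only [← Nat.card_coe_set_eq, SetLike.coe_sort_coe] at h1 h2 ⊢
    rw [card_tor_unip 2 hx1 hxp] at h1 h2
    have hB := card_normalizer_unip 2 hx1 hxp
    rw [hd, mul_one] at hB
    rw [hB] at h1
    have hsq : Fintype.card F ^ 2 = (Fintype.card F - 1) * Fintype.card F + Fintype.card F := by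
      rw [← Nat.succ_mul, show (Fintype.card F - 1).succ = Fintype.card F by omega, pow_two]
    rw [mul_assoc, mul_comm (Fintype.card F)]
    omega
  · have hx2 := semis hx1 (Or.inl hdvd)
    have ht : Nat.card (tor x) * Nat.gcd 2 (Fintype.card F - 1) = Fintype.card F - 1 := by
      refine (card_tor_semis 2 hx2).resolve_right fun e => ?_
      rw [hd, mul_one] at e
      have h1 := Subgroup.orderOf_dvd_natCard (tor x) (mem_tor x)
      rw [e] at h1
      exact hx2 (orderOf_dvd_iff_pow_eq_one.1 (by
        have h3 := Nat.dvd_sub h1 hdvd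
        rwa [show Fintype.card F + 1 - (Fintype.card F - 1) = 2 by omega] at h3))
    have h := (sol_semis 2 hq hx2 (by rwa [← pow_two]) (fun H _ hH => class_even hr hF H hH)).1 ht
    rwa [hd, one_mul] at h
  · have hx2 := semis hx1 (Or.inr hdvd)
    have ht : Nat.card (tor x) * Nat.gcd 2 (Fintype.card F - 1) = Fintype.card F + 1 := by
      refine (card_tor_semis 2 hx2).resolve_left fun e => ?_
      rw [hd, mul_one] at e
      have h1 := Subgroup.orderOf_dvd_natCard (tor x) (mem_tor x)
      rw [e] at h1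
      exact hx2 (orderOf_dvd_iff_pow_eq_one.1 (by
        have h3 := Nat.dvd_sub hdvd h1
        rwa [show Fintype.card F + 1 - (Fintype.card F - 1) = 2 by omega] at h3))
    have h := (sol_semis 2 hq hx2 (by rwa [← pow_two]) (fun H _ hH => class_even hr hF H hH)).2 ht
    rwa [hd, one_mul] at h

end Cfsg.Agent.Classical.Dickson2
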