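import Mathlib
import Cfsg.Agent.Classical.Dickson2.Solubilizer
import Cfsg.Agent.S0251

/-!
Solubilizers in PSL(2, 3^p), p an odd prime.
-/

set_option autoImplicit false

namespace Cfsg.Agent.Classical.Dickson2

open Matrix Cfsg.Agent.SL2Class
open scoped MatrixGroups Pointwise

section General

variable {G : Type*} [Group G]

theorem card_sol_conj (c x : G) :
    Nat.card {y : G // Group.IsSolvable (Subgroup.closure ({c * x * c⁻¹, y} : Set G))} =
      Nat.card {y : G // Group.IsSolvable (Subgroup.closure ({x, y} : Set G))} := by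
  refine (Nat.card_congr (Equiv.subtypeEquiv (MulAut.conj c).toEquiv fun y => ?_)).symm
  have e : (Subgroup.closure ({x, y} : Set G)).map (MulAut.conj c).toMonoidHom =
      Subgroup.closure ({c * x * c⁻¹, (MulAut.conj c) y} : Set G) := by
    rw [MonoidHom.map_closure, Set.image_pair]
    rfl
  show _ ↔ Group.IsSolvable (Subgroup.closure ({c * x * c⁻¹, (MulAut.conj c) y} : Set G))
  rw [← e]
  let f := (Subgroup.closure ({x, y} : Set G)).equivMapOfInjective (MulAut.conj c).toMonoidHom
    (MulAut.conj c).injective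
  exact ⟨fun h => haveI := h; solvable_of_surjective (f := f.toMonoidHom) f.surjective,
    fun h => haveI := h; solvable_of_surjective (f := f.symm.toMonoidHom) f.symm.surjective⟩

/-- If a normalised commutative subgroup contains one of two generators the group is soluble. -/
theorem solvable_of_normalized {x y : G} (S : Subgroup G) (hS : ∀ a ∈ S, ∀ b ∈ S, a * b = b * a) (hxS : x ∈ S)
    (hn : Subgroup.closure ({x, y} : Set G) ≤ Subgroup.normalizer (S : Set G)) :
    Group.IsSolvable (Subgroup.closure ({x, y} : Set G)) := by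
  set H := Subgroup.closure ({x, y} : Set G) with hH
  haveI : (S.subgroupOf H).Normal := Subgroup.normal_subgroupOf_of_le_normalizer hn
  set π := QuotientGroup.mk' (S.subgroupOf H)
  set yb := π ⟨y, mem_closure_right x y⟩
  have hall : ∀ h : H, π h ∈ Subgroup.zpowers yb := by
    have htop : (Subgroup.zpowers yb).comap π = ⊤ := by
      refine top_le_iff.1 ((Subgroup.closure_closure_coe_preimage (k := ({x, y} : Set G))).ge.trans
        ((Subgroup.closure_le _).2 ?_))
      rintro ⟨z, hz⟩ hz'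
      rcases (show z = x ∨ z = y from hz') with rfl | rfl
      · show π _ ∈ Subgroup.zpowers yb
        have e : π (⟨z, hz⟩ : H) = 1 := (QuotientGroup.eq_one_iff _).2 (Subgroup.mem_subgroupOf.2 hxS)
        rw [e]
        exact one_mem _
      · exact Subgroup.mem_zpowers _
    intro h
    exact (htop.ge (Subgroup.mem_top h) :)
  refine solvable_of_comm_le H S hS fun a ha b hb => ?_
  have e : π (⟨a, ha⟩ * ⟨b, hb⟩ * ⟨a, ha⟩⁻¹ * ⟨b, hb⟩⁻¹) = 1 := by
    obtain ⟨i, hi⟩ := hall ⟨a, ha⟩
    obtain ⟨j, hj⟩ := hall ⟨b, hb⟩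
    simp only [map_mul, map_inv, ← hi, ← hj]
    group
  exact Subgroup.mem_subgroupOf.1 ((QuotientGroup.eq_one_iff _).1 e)

/-- The relations of the tetrahedral group force solubility. -/
theorem solvable_tetra [Finite G] {x y : G} (hx : x * x = 1) (hy : y ^ 3 = 1) (hxy : (x * y) ^ 3 = 1) :
    Group.IsSolvable (Subgroup.closure ({x, y} : Set G)) := by
  obtain ⟨b, hb⟩ : ∃ b, b = y * x * y⁻¹ := ⟨_, rfl⟩
  have hxi : x⁻¹ = x := inv_eq_of_mul_eq_one_right hx
  have hy2 : y⁻¹ * y⁻¹ = y := by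
    rw [← _root_.mul_inv_rev, inv_eq_iff_mul_eq_one, ← hy, pow_three', mul_assoc]
  have hbb : b * b = 1 := by rw [hb, conj_mul, hx]; group
  have hc : (y * b * y⁻¹) * (y * b * y⁻¹) = 1 := by rw [conj_mul, hbb]; group
  have habc : x * b * (y * b * y⁻¹) = 1 := by
    rw [hb, ← hxy, pow_three', show x * (y * x * y⁻¹) * (y * (y * x * y⁻¹) * y⁻¹) =
      x * y * (x * y) * x * (y⁻¹ * y⁻¹) by group, hy2]
    group
  have hc' : y * b * y⁻¹ = x * b := by
    rw [← inv_eq_of_mul_eq_one_left habc, inv_eq_of_mul_eq_one_right hc]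
  have hcomm : x * b = b * x := by
    calc x * b = (x * b)⁻¹ := (inv_eq_of_mul_eq_one_right (by rw [← hc']; exact hc)).symm
      _ = b * x := by rw [_root_.mul_inv_rev, hxi, inv_eq_of_mul_eq_one_right hbb]
  set S := Subgroup.closure ({x, b} : Set G) with hS
  have hcent : ∀ t : G, x * t = t * x → b * t = t * b → S ≤ Subgroup.centralizer {t} := fun t h1 h2 =>
    closure_pair_le (Subgroup.mem_centralizer_singleton_iff.2 h1)
      (Subgroup.mem_centralizer_singleton_iff.2 h2)
  have hSx : ∀ s ∈ S, s * x = x * s := fun s hs => Subgroup.mem_centralizer_singleton_iff.1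
    (hcent x rfl hcomm.symm hs)
  have hScomm : ∀ s ∈ S, ∀ t ∈ S, s * t = t * s := fun s hs t ht => Subgroup.mem_centralizer_singleton_iff.1
    (hcent t (hSx t ht).symm
      (Subgroup.mem_centralizer_singleton_iff.1 (hcent b hcomm rfl ht)).symm hs)
  refine solvable_of_normalized S hScomm (mem_closure_left x b) (closure_pair_le (Subgroup.le_normalizer
    (mem_closure_left x b)) ?_)
  have hmap : S.map (MulAut.conj y).toMonoidHom ≤ S := by
    rw [hS, MonoidHom.map_closure, Set.image_pair]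
    refine closure_pair_le ?_ ?_
    · show y * x * y⁻¹ ∈ S
      rw [← hb]
      exact mem_closure_right x b
    · show y * b * y⁻¹ ∈ S
      rw [hc']
      exact mul_mem (mem_closure_left x b) (mem_closure_right x b)
  exact Subgroup.mem_normalizer_fintype fun s hs => hmap ⟨s, hs, rfl⟩

theorem a4_facts :
    (∀ σ : Equiv.Perm (Fin 4), Equiv.Perm.sign σ = 1 → σ ^ 2 = 1 ∨ σ ^ 3 = 1) ∧
    (∀ a b : Equiv.Perm (Fin 4), Equiv.Perm.sign a = 1 → Equiv.Perm.sign b = 1 → a ^ 3 = 1 → a ≠ 1 →
      a * b = b * a ∨ ∃ i : Fin 3, a ^ (i : ℕ) * b ≠ 1 ∧ (a ^ (i : ℕ) * b) ^ 2 = 1 ∧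
        (a * (a ^ (i : ℕ) * b)) ^ 3 = 1) := by
  refine ⟨by decide +kernel, ?_⟩
  have h : ∀ a b : Equiv.Perm (Fin 4), (Equiv.Perm.sign a = 1 ∧ Equiv.Perm.sign b = 1 ∧ a ^ 3 = 1 ∧ a ≠ 1) →
      (a * b = b * a ∨ ∃ i : Fin 3, a ^ (i : ℕ) * b ≠ 1 ∧ (a ^ (i : ℕ) * b) ^ 2 = 1 ∧
        (a * (a ^ (i : ℕ) * b)) ^ 3 = 1) := by decide +kernel
  exact fun a b h1 h2 h3 h4 => h a b ⟨h1, h2, h3, h4⟩

end General

variable {F : Type*} [Field F] [Fintype F]

local notation "SG" => Matrix.SpecialLinearGroup (Fin 2) F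
local notation "PG" => Matrix.ProjectiveSpecialLinearGroup (Fin 2) F
local notation:1024 "↥ₘ" A:1024 => ((A : Matrix.SpecialLinearGroup (Fin 2) F) : Matrix (Fin 2) (Fin 2) F)

variable {r : ℕ}

theorem three_arith (hodd : Odd r) (hF : Fintype.card F = 3 ^ r) :
    Fintype.card F % 4 = 3 ∧ ¬ 5 ∣ Fintype.card F * (Fintype.card F ^ 2 - 1) ∧ 3 ∣ Fintype.card F := by
  obtain ⟨k, rfl⟩ := hodd
  have h4 : ∀ k, 3 ^ (2 * k + 1) % 4 = 3 := fun k => by rw [pow_succ, pow_mul, Nat.mul_mod, Nat.pow_mod]; norm_num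
  have h5 : ∀ k, 3 ^ (2 * k + 1) % 5 = 3 ∨ 3 ^ (2 * k + 1) % 5 = 2 := by
    intro k
    induction k with
    | zero => norm_num
    | succ k ih =>
      have e : 3 ^ (2 * (k + 1) + 1) = 3 ^ (2 * k + 1) * 9 := by ring
      omega
  refine ⟨hF ▸ h4 k, fun h => ?_, hF ▸ dvd_pow_self 3 (by omega)⟩
  rw [hF] at h
  rcases Nat.prime_five.dvd_mul.1 h with h | h
  · have := h5 k
    have h' := Nat.mod_eq_zero_of_dvd h
    generalize 3 ^ (2 * k + 1) % 5 = z at this h'
    omega
  · have h1 : 1 ≤ (3 ^ (2 * k + 1)) ^ 2 := Nat.one_le_pow _ _ (Nat.pow_pos (by norm_num))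
    have h2 : (3 ^ (2 * k + 1)) ^ 2 % 5 = 4 := by
      rw [Nat.pow_mod]
      rcases h5 k with e | e <;> rw [e]
    generalize (3 ^ (2 * k + 1)) ^ 2 = z at h h1 h2
    omega

variable [CharP F 3]

theorem class_three [Fact (Nat.Prime 3)] (hr : r.Prime) (hodd : Odd r) (hF : Fintype.card F = 3 ^ r)
    (H : Subgroup PG) (hH : H ≠ ⊤) :
    (∃ z : PG, z ^ 3 ≠ 1 ∧ H ≤ Subgroup.normalizer (tor z : Set PG)) ∨
      (∃ u : PG, u ≠ 1 ∧ u ^ 3 = 1 ∧ H ≤ Subgroup.normalizer (tor u : Set PG)) ∨
      Nonempty (H ≃* alternatingGroup (Fin 4)) := by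
  rcases classify_strong 3 H with h | h | ⟨⟨e⟩, -⟩ | ⟨⟨e⟩, hd⟩ | ⟨⟨e⟩, -⟩ | h
  · exact Or.inl h
  · exact Or.inr (Or.inl h)
  · exact Or.inr (Or.inr ⟨e⟩)
  · exact absurd (by rw [Nat.card_congr e.toEquiv, card_s4]; norm_num) hd
  · exfalso
    have hd := H.card_subgroup_dvd_card
    rw [Nat.card_congr e.toEquiv, card_a5] at hd
    refine (three_arith hodd hF).2.1 ?_
    rw [← card_pg]
    exact dvd_mul_of_dvd_right ((show 5 ∣ 60 by norm_num).trans hd) _
  · obtain ⟨s, m', hm', hs', -, hc', -⟩ := sub_card 3 h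
    obtain ⟨K, iK, iF, m, hm, hs, -, -, hiso⟩ := h
    have key : ∀ s m : ℕ, s ^ m = Fintype.card F → 3 ≤ s → 2 ≤ m → s = 3 ∧ m = r := by
      intro s m hm hs hm2
      rw [hF] at hm
      obtain ⟨j, -, rfl⟩ := (Nat.dvd_prime_pow Nat.prime_three).1 (hm ▸ dvd_pow_self s (by omega : m ≠ 0))
      rw [← pow_mul] at hm
      have hjm := Nat.pow_right_injective (by norm_num : 2 ≤ 3) hm
      rcases (Nat.dvd_prime hr).1 ⟨m, hjm.symm⟩ with rfl | rfl
      · exact ⟨by norm_num, by omega⟩
      · exfalso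
        have : j * m = j * 1 := by omega
        have := Nat.eq_of_mul_eq_mul_left hr.pos this
        omega
    obtain ⟨rfl, rfl⟩ := key _ _ hm' hs' (sub_proper hm' hc' hH)
    have hm2 : 2 ≤ m := by
      by_contra hlt
      have hcard : Nat.card H ≤ 3 * (3 ^ 2 - 1) := sub_card_le hc'
      have hle : Fintype.card F ≤ Fintype.card K := by
        interval_cases m
        · have := Fintype.one_lt_card (α := F)
          simp at hm
          omega
        · rw [← hm, pow_one]
      rcases hiso with ⟨⟨e⟩⟩ | ⟨⟨e⟩, -, he⟩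
      · have h1 := Nat.card_congr e.toEquiv
        have h2 : Nat.gcd 2 (Fintype.card K - 1) * Nat.card H =
            Fintype.card K * (Fintype.card K ^ 2 - 1) := by rw [h1]; exact A5InPSL.card_psl
        have h3 : 9 ≤ Fintype.card K := le_trans (le_trans (by norm_num)
          (Nat.pow_le_pow_right (by norm_num) hr.two_le : 3 ^ 2 ≤ 3 ^ m')) (hF ▸ hle)
        have h4 : 9 * (9 ^ 2 - 1) ≤ Fintype.card K * (Fintype.card K ^ 2 - 1) :=
          Nat.mul_le_mul h3 (Nat.sub_le_sub_right (Nat.pow_le_pow_left h3 2) 1)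
        have h5 : Nat.gcd 2 (Fintype.card K - 1) * Nat.card H ≤ 2 * (3 * (3 ^ 2 - 1)) :=
          Nat.mul_le_mul (Nat.gcd_le_left _ two_pos) hcard
        omega
      · interval_cases m
        · have := Fintype.one_lt_card (α := F)
          simp at hm
          omega
        · exact Nat.not_even_one he
    obtain ⟨hK3, hmr⟩ := key _ _ hm hs hm2
    rcases hiso with ⟨⟨e⟩⟩ | ⟨-, -, he⟩
    · obtain ⟨e3⟩ := Cfsg.Agent.S0251.result hK3
      exact Or.inr (Or.inr ⟨e.trans e3⟩)
    · exact absurd (hmr ▸ he) (Nat.not_even_iff_odd.2 hodd)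

theorem two_ne_three : (2 : F) ≠ 0 := fun h => by
  have h3 : (3 : F) = 0 := CharP.cast_eq_zero F 3
  exact one_ne_zero (α := F) (by linear_combination h3 - h)

/-- The images of the elements of an A4 subgroup. -/
theorem exists_perm_hom {H : Subgroup PG} (e : H ≃* alternatingGroup (Fin 4)) :
    ∃ f : H →* Equiv.Perm (Fin 4), Function.Injective f ∧ ∀ h, Equiv.Perm.sign (f h) = 1 :=
  ⟨(alternatingGroup (Fin 4)).subtype.comp e.toMonoidHom,
    (alternatingGroup (Fin 4)).subtype_injective.comp e.injective,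
    fun h => Equiv.Perm.mem_alternatingGroup.1 (e h).2⟩

variable [Fact (Nat.Prime 3)]

theorem sol_three_inv (hr : r.Prime) (hodd : Odd r) (hF : Fintype.card F = 3 ^ r) :
    Nat.card {y : PG // Group.IsSolvable (Subgroup.closure ({proj (comp (0 : F)), y} : Set PG))} =
      3 ^ r * (3 ^ r + 1) := by
  classical
  rw [← hF]
  obtain ⟨hmod, -, h3q⟩ := three_arith hodd hF
  have h2 := two_ne_three (F := F)
  have h3 : (3 : F) = 0 := CharP.cast_eq_zero F 3
  have hq : 4 ≤ Fintype.card F := hF ▸ le_trans (by norm_num : 4 ≤ 3 ^ 2) (Nat.pow_le_pow_right (by norm_num) hr.two_le)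
  have hd : Nat.gcd 2 (Fintype.card F - 1) = 2 := Nat.gcd_eq_left (by omega)
  set g := comp (0 : F) with hg
  have hgg : g * g = -1 := PKlein.mem_T0_of_tr (tr_comp _)
  obtain ⟨hns, -, ht4, -⟩ := PKlein.t0_props h2 hgg
  set x := proj g with hx
  obtain ⟨hx1, hxx⟩ := (PKlein.involution_iff h2).2 hgg
  have hxi : x⁻¹ = x := inv_eq_of_mul_eq_one_right hxx
  have hx3 : x ^ 3 ≠ 1 := by rw [pow_three, hxx, mul_one]; exact hx1
  have hno : NoRoot (0 : F) := fun t ht => by
    have hsq : IsSquare (-1 : F) := ⟨t, by linear_combination -ht⟩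
    exact (FiniteField.isSquare_neg_one_iff.1 hsq) hmod
  set N := Subgroup.normalizer (tor x : Set PG) with hN
  have hT : 2 * Nat.card (tor x) = Fintype.card F + 1 := by
    have e := card_torus g
    rw [← tor_proj, hd, card_cent_noRoot (by rw [hg, tr_comp]; exact hno) hns] at e
    rw [mul_comm]; exact e
  have hcN : Nat.card N = Fintype.card F + 1 := by rw [hN, card_normalizer_semis 3 hx3, hT]
  have hNcomm : ∀ y, y ∈ N ↔ x * y = y * x := by
    intro y
    constructor
    · intro hy
      by_cases hyT : y ∈ tor x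
      · exact tor_comm hx1 (mem_tor x) hyT
      · have e := (inverts_of_not_mem 3 hx3 hy hyT).2 x (mem_tor x)
        rw [hxi] at e
        exact (mul_inv_eq_iff_eq_mul.1 e).symm
    · intro hy
      rw [hN, mem_normalizer_map_iff, ← tor_conj, ← hy, mul_inv_cancel_right]
  have hxN : x ∈ N := (hNcomm x).2 rfl
  set I : Set PG := {y | y ≠ 1 ∧ y * y = 1} with hIdef
  set J : Set PG := {y | x * y ∈ I} with hJdef
  set A : Set PG := {y | y ≠ 1 ∧ y ^ 3 = 1 ∧ (x * y) ^ 3 = 1} with hAdef
  have hxI : x ∈ I := ⟨hx1, hxx⟩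
  have e : {y : PG | Group.IsSolvable (Subgroup.closure ({x, y} : Set PG))} =
      (N : Set PG) ∪ (I \ N) ∪ (J \ N) ∪ A := by
    ext y
    simp only [Set.mem_ofPred_eq, Set.mem_union, Set.mem_diff, SetLike.mem_coe]
    constructor
    · intro h
      by_cases hyN : y ∈ N
      · exact Or.inl (Or.inl (Or.inl hyN))
      have hy1 : y ≠ 1 := fun e => hyN (e ▸ one_mem _)
      have hxy1 : x * y ≠ 1 := fun e => hyN (by rw [← inv_eq_of_mul_eq_one_right e, hxi]; exact hxN)
      have hxH := mem_closure_left x y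
      have hyH := mem_closure_right x y
      rcases class_three hr hodd hF _ (ne_top_of_solvable hq h) with
        ⟨z, hz, hle⟩ | ⟨u, hu, hup, hle⟩ | ⟨⟨e⟩⟩
      · by_cases hxz : x ∈ tor z
        · exact absurd (by rw [hN, tor_eq (ne_one_of_semis 3 hz) hxz hx1]; exact hle hyH) hyN
        · by_cases hyz : y ∈ tor z
          · refine Or.inl (Or.inr ⟨⟨hxy1, ?_⟩, hyN⟩)
            rw [show x * y * (x * y) = x * y * x⁻¹ * y by rw [hxi]; group,
              (inverts_of_not_mem 3 hz (hle hxH) hxz).2 y hyz, inv_mul_cancel]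
          · exact Or.inl (Or.inl (Or.inr ⟨⟨hy1, (inverts_of_not_mem 3 hz (hle hyH) hyz).1⟩, hyN⟩))
      · exfalso
        have hc := card_normalizer_unip 3 hu hup
        rw [hd] at hc
        have h2B : 2 ∣ Nat.card (Subgroup.normalizer (tor u : Set PG)) := by
          have h' := Subgroup.orderOf_dvd_natCard _ (hle hxH)
          rwa [orderOf_eq_prime (p := 2) (by rw [pow_two, hxx]) hx1] at h'
        obtain ⟨k, hk⟩ := h2B
        have hm : ((Fintype.card F - 1) * Fintype.card F) % 4 = 2 := by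
          rw [Nat.mul_mod, hmod, show (Fintype.card F - 1) % 4 = 2 by omega]
        omega
      · obtain ⟨f, hf, hsign⟩ := exists_perm_hom e
        have hpow : ∀ (a : Subgroup.closure ({x, y} : Set PG)) (n : ℕ), f a ^ n = 1 → (a : PG) ^ n = 1 := by
          intro a n h
          rw [← map_pow, ← map_one f] at h
          have := congrArg Subtype.val (hf h)
          simpa using this
        rcases a4_facts.1 _ (hsign ⟨y, hyH⟩) with h2' | h3'
        · have := hpow _ _ h2'
          rw [pow_two] at this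
          exact Or.inl (Or.inl (Or.inr ⟨⟨hy1, this⟩, hyN⟩))
        · rcases a4_facts.1 _ (hsign ⟨x * y, mul_mem hxH hyH⟩) with h2'' | h3''
          · have := hpow _ _ h2''
            rw [pow_two] at this
            exact Or.inl (Or.inr ⟨⟨hxy1, this⟩, hyN⟩)
          · exact Or.inr ⟨hy1, hpow _ _ h3', hpow _ _ h3''⟩
    · rintro (((h | ⟨h, -⟩) | ⟨h, -⟩) | h)
      · exact solvable_toral 3 hx3 (closure_pair_le hxN h)
      · exact solvable_two_invol hxx h.2
      · have := solvable_two_invol hxx h.2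
        have hle : Subgroup.closure ({x, y} : Set PG) ≤ Subgroup.closure ({x, x * y} : Set PG) :=
          closure_pair_le (mem_closure_left _ _) (by
            have h' := mul_mem (mem_closure_left x (x * y)) (mem_closure_right x (x * y))
            rwa [← mul_assoc, hxx, one_mul] at h')
        exact solvable_of_solvable_injective (Subgroup.inclusion_injective hle)
      · exact solvable_tetra hxx h.2.1 h.2.2
  -- the involutions
  have hI : 2 * I.ncard = Fintype.card F * (Fintype.card F - 1) := by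
    have hc : Subgroup.centralizer ({x} : Set PG) = N := by
      ext y
      rw [Subgroup.mem_centralizer_singleton_iff, hNcomm, eq_comm]
    have hcar : (ConjClasses.mk x).carrier = I := by
      ext y
      rw [ConjClasses.mem_carrier_iff_mk_eq, ConjClasses.mk_eq_mk_iff_isConj]
      constructor
      · intro h
        obtain ⟨c, hc⟩ := isConj_iff.1 h.symm
        refine ⟨fun e => hx1 ?_, ?_⟩
        · rw [e] at hc
          exact conj_eq_one_iff.1 hc
        · rw [← hc, conj_mul, hxx, mul_one, mul_inv_cancel]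
      · intro h
        exact PKlein.involutions_conj h2 y x (orderOf_eq_prime (by rw [pow_two, h.2]) h.1)
          (orderOf_eq_prime (by rw [pow_two, hxx]) hx1)
    have h := card_carrier_mul x
    rw [hc, hcN, hcar, Nat.card_coe_set_eq] at h
    have hG := card_pg (F := F)
    rw [hd, ← h, two_q, ← mul_assoc, ← mul_assoc] at hG
    exact Nat.eq_of_mul_eq_mul_right (Nat.succ_pos _) hG
  have hIN : 2 * (I ∩ (N : Set PG)).ncard = Fintype.card F + 3 := by
    have e' : I ∩ (N : Set PG) = insert x ((N : Set PG) \ (tor x : Set PG)) := by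
      ext y
      simp only [Set.mem_inter_iff, Set.mem_insert_iff, Set.mem_diff, SetLike.mem_coe]
      constructor
      · rintro ⟨hy, hyN⟩
        by_cases hyT : y ∈ tor x
        · left
          obtain ⟨k, rfl⟩ := proj_surjective y
          rw [hx, tor_proj, proj_mem_torus_iff] at hyT
          have hk : tr k = 0 := (PKlein.t0_props h2 ((PKlein.involution_iff h2).1 hy)).2.1
          rcases eq_or_inv_of_tr ht4 hyT (by rw [hk, hg, tr_comp]) with e | e
          · rw [e]
          · rw [e, map_inv, ← hx, hxi]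
        · exact Or.inr ⟨hyN, hyT⟩
      · rintro (rfl | ⟨hyN, hyT⟩)
        · exact ⟨hxI, hxN⟩
        · exact ⟨⟨fun e => hyT (e ▸ one_mem _), (inverts_of_not_mem 3 hx3 hyN hyT).1⟩, hyN⟩
    have hsub : (tor x : Set PG) ⊆ (N : Set PG) := fun a ha => Subgroup.le_normalizer ha
    rw [e', Set.ncard_insert_of_notMem (fun h => h.2 (mem_tor x)), Set.ncard_diff hsub]
    simp only [← Nat.card_coe_set_eq, SetLike.coe_sort_coe]
    rw [hcN]
    omega
  have hInd := Set.ncard_inter_add_ncard_diff_eq_ncard I (N : Set PG)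
  have hJ : (J \ (N : Set PG)).ncard = (I \ (N : Set PG)).ncard := by
    rw [← Nat.card_coe_set_eq, ← Nat.card_coe_set_eq]
    exact Nat.card_congr (Equiv.subtypeEquiv (Equiv.mulLeft x) fun y =>
      and_congr Iff.rfl (not_congr (by simp [Subgroup.mul_mem_cancel_left _ hxN])))
  have hA : A.ncard = 2 * (Fintype.card F + 1) := by
    have hsign : Nat.card {s : F // s * s = 1} = 2 := by
      rw [Nat.card_eq_two_iff' ⟨1, one_mul 1⟩]
      refine ⟨⟨-1, by ring⟩, fun h => h2 ?_, ?_⟩
      · have h' : (-1 : F) = 1 := congrArg Subtype.val h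
        linear_combination -h'
      · rintro ⟨s, hs⟩ hne
        exact Subtype.ext ((mul_self_eq_one_iff.1 hs).resolve_left fun h => hne (Subtype.ext h))
    rw [← card_noRoot_points hno, ← Nat.card_coe_set_eq]
    refine Eq.trans ?_ ((Nat.card_prod {s : F // s * s = 1} (N2One (0 : F))).trans (by rw [hsign]))
    have hdet : ∀ (s : {s : F // s * s = 1}) (v : N2One (0 : F)),
        (!![1 + v.1.1, -s.1 - v.1.2; s.1 - v.1.2, 1 - v.1.1] : Matrix (Fin 2) (Fin 2) F).det = 1 := by
      intro s v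
      have hv := v.2
      simp only [N2] at hv
      rw [det_fin_two_of]
      linear_combination s.2 - hv
    obtain ⟨Yf, hYf⟩ : ∃ Yf : {s : F // s * s = 1} × N2One (0 : F) → SG, ∀ sv, ↥ₘ(Yf sv) =
        !![1 + sv.2.1.1, -sv.1.1 - sv.2.1.2; sv.1.1 - sv.2.1.2, 1 - sv.2.1.1] :=
      ⟨fun sv => ⟨_, hdet sv.1 sv.2⟩, fun _ => rfl⟩
    refine (Nat.card_eq_of_bijective
      (fun sv : {s : F // s * s = 1} × N2One (0 : F) => (⟨proj (Yf sv), ?_⟩ : A)) ⟨?_, ?_⟩).symm
    · obtain ⟨⟨s, hs⟩, ⟨⟨a, w⟩, hv⟩⟩ := sv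
      have eY := hYf (⟨s, hs⟩, ⟨(a, w), hv⟩)
      set Y := Yf (⟨s, hs⟩, ⟨(a, w), hv⟩)
      have hY : NonScalar Y := fun h => by
        have h1 := h.1
        have h2' := h.2.1
        rw [eY] at h1 h2'
        simp at h1 h2'
        have hs0 : s = 0 := mul_left_cancel₀ h2 (by linear_combination h2' - h1)
        rw [hs0, mul_zero] at hs
        exact zero_ne_one hs
      refine ⟨proj_ne_one hY, (pow_p_iff 3 hY).2 (by simp [tr, eY]; norm_num), ?_⟩
      rw [hx, ← map_mul]
      by_cases hgy : NonScalar (g * Y)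
      · refine (pow_p_iff 3 hgy).2 ?_
        have e0 : tr (g * Y) = -2 * s := by
          simp [tr, hg, eY, coe_comp, Matrix.mul_apply, Fin.sum_univ_two]
          ring
        rw [e0]
        linear_combination 4 * hs
      · rw [proj_eq_one.2 (mem_center_iff.2 hgy), one_pow]
    · rintro ⟨⟨s, hs⟩, ⟨⟨a, w⟩, hv⟩⟩ ⟨⟨s', hs'⟩, ⟨⟨a', w'⟩, hv'⟩⟩ h
      have h' := congrArg Subtype.val h
      rcases proj_eq_iff.1 h' with e0 | e0
      · have k00 := congrArg (fun M : SG => ↥ₘ M 0 0) e0
        have k01 := congrArg (fun M : SG => ↥ₘ M 0 1) e0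
        have k10 := congrArg (fun M : SG => ↥ₘ M 1 0) e0
        simp [hYf] at k00 k01 k10
        have es : s = s' := mul_left_cancel₀ h2 (by linear_combination k01 - k10)
        subst es
        have ew : w = w' := by linear_combination k10
        subst ew
        have ea : a = a' := k00.symm
        subst ea
        rfl
      · exfalso
        have := congrArg tr e0
        rw [tr_neg] at this
        simp [tr, hYf] at this
        exact one_ne_zero (α := F) (by linear_combination this - h3)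
    · rintro ⟨y, hy1, hy3, hxy⟩
      obtain ⟨h, rfl⟩ := proj_surjective y
      have hns' := nonScalar_of_proj_ne hy1
      have h4 := (pow_p_iff 3 hns').1 hy3
      obtain ⟨k, hk, hpk⟩ : ∃ k : SG, tr k = 2 ∧ proj k = proj h := by
        rcases mul_self_eq_mul_self_iff.1 (show tr h * tr h = 2 * 2 by linear_combination h4) with e0 | e0
        · exact ⟨h, e0, rfl⟩
        · exact ⟨-h, by rw [tr_neg, e0, neg_neg], PKlein.proj_neg h⟩
      rw [← hpk, hx, ← map_mul] at hxy
      have hdk := det_eq k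
      simp only [tr] at hk
      set a := ↥ₘ k 0 0 - 1 with ha
      set s := ↥ₘ k 0 1 - ↥ₘ k 1 0 with hsdef
      have hs : s * s = 1 := by
        by_cases hgk : NonScalar (g * k)
        · have := (pow_p_iff 3 hgk).1 hxy
          simp [tr, hg, coe_comp, Matrix.mul_apply, Fin.sum_univ_two] at this
          rw [hsdef]
          linear_combination this + h3
        · exfalso
          have h0 := not_not.1 hgk
          simp [hg, coe_comp, Matrix.mul_apply, Fin.sum_univ_two] at h0
          obtain ⟨q1, q2, q3⟩ := h0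
          exact h2 (by linear_combination q1 + q2 - hk)
      set w := s - ↥ₘ k 1 0 with hw
      have hv : N2 (0 : F) a w = 1 := by
        simp only [N2]
        rw [hw, hsdef, ha]
        linear_combination hs + (↥ₘ k 0 0) * hk - hdk + (↥ₘ k 1 0 * ↥ₘ k 1 0 - ↥ₘ k 0 1 * ↥ₘ k 1 0) * h3
      refine ⟨(⟨s, hs⟩, ⟨(a, w), hv⟩), Subtype.ext ?_⟩
      show proj _ = proj h
      rw [← hpk]
      congr 1
      refine Subtype.ext ?_
      rw [hYf]
      ext i j
      fin_cases i <;> fin_cases j <;> simp [ha, hw, hsdef]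
      · linear_combination (↥ₘ k 1 0 - ↥ₘ k 0 1) * h3
      · linear_combination -hk
  have d1 : Disjoint (N : Set PG) (I \ N) := Set.disjoint_sdiff_right
  have d2 : Disjoint ((N : Set PG) ∪ (I \ N)) (J \ N) := by
    rw [Set.disjoint_union_left]
    refine ⟨Set.disjoint_sdiff_right, Set.disjoint_left.2 ?_⟩
    rintro y ⟨⟨-, hy⟩, hyN⟩ ⟨⟨-, hxy⟩, -⟩
    refine hyN ((hNcomm y).2 ?_)
    have e1 := inv_eq_of_mul_eq_one_right hxy
    rw [_root_.mul_inv_rev, hxi, inv_eq_of_mul_eq_one_right hy] at e1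
    exact e1.symm
  have d3 : Disjoint ((N : Set PG) ∪ (I \ N) ∪ (J \ N)) A := by
    rw [Set.disjoint_left]
    rintro y hy ⟨hy1, hy3, hxy⟩
    rcases hy with (hy | ⟨hy, -⟩) | ⟨hy, -⟩
    · have hd3 := Subgroup.orderOf_dvd_natCard N hy
      rw [orderOf_eq_prime hy3 hy1, hcN] at hd3
      omega
    · rw [pow_three, hy.2, mul_one] at hy3
      exact hy1 hy3
    · rw [pow_three, hy.2, mul_one] at hxy
      exact hy.1 hxy
  change Nat.card ↥{y : PG | Group.IsSolvable (Subgroup.closure ({x, y} : Set PG))} = _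
  rw [e, Nat.card_coe_set_eq, Set.ncard_union_eq d3, Set.ncard_union_eq d2, Set.ncard_union_eq d1, hJ, hA,
    ← Nat.card_coe_set_eq, SetLike.coe_sort_coe, hcN,
    show Fintype.card F * (Fintype.card F + 1) = Fintype.card F * Fintype.card F + Fintype.card F by ring]
  rw [Nat.mul_sub, mul_one] at hI
  have : Fintype.card F ≤ Fintype.card F * Fintype.card F := Nat.le_mul_self _
  omega

theorem sol_three_unip (hr : r.Prime) (hodd : Odd r) (hF : Fintype.card F = 3 ^ r) (t : F) (ht : t ≠ 0) :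
    2 * Nat.card {y : PG // Group.IsSolvable
      (Subgroup.closure ({proj (rootHomSL (Multiplicative.ofAdd t)), y} : Set PG))} =
      3 ^ r * (3 ^ r + 5) := by
  classical
  rw [← hF]
  obtain ⟨hmod, -, -⟩ := three_arith hodd hF
  have h2 := two_ne_three (F := F)
  have h3 : (3 : F) = 0 := CharP.cast_eq_zero F 3
  have hq : 4 ≤ Fintype.card F := hF ▸ le_trans (by norm_num : 4 ≤ 3 ^ 2) (Nat.pow_le_pow_right (by norm_num) hr.two_le)
  have hd : Nat.gcd 2 (Fintype.card F - 1) = 2 := Nat.gcd_eq_left (by omega)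
  set g := rootHomSL (Multiplicative.ofAdd t) with hg
  have hns : NonScalar g := fun h => ht (by simpa [hg, rootHomSL_coe] using h.1)
  set x := proj g with hx
  have hx1 : x ≠ 1 := proj_ne_one hns
  have hx3 : x ^ 3 = 1 := (pow_p_iff 3 hns).2 (by simp [tr, hg, rootHomSL_coe]; norm_num)
  set B := Subgroup.normalizer (tor x : Set PG) with hB
  have hxB : x ∈ B := Subgroup.le_normalizer (mem_tor x)
  have hcB : Nat.card B * 2 = (Fintype.card F - 1) * Fintype.card F := by
    have h := card_normalizer_unip 3 hx1 hx3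
    rwa [hd] at h
  have hodB : ¬ 2 ∣ Nat.card B := by
    rintro ⟨k, hk⟩
    have hm : ((Fintype.card F - 1) * Fintype.card F) % 4 = 2 := by
      rw [Nat.mul_mod, hmod, show (Fintype.card F - 1) % 4 = 2 by omega]
    omega
  set Z : Set PG := {z | z ≠ 1 ∧ z * z = 1 ∧ (x * z) ^ 3 = 1} with hZdef
  have hZB : ∀ z ∈ Z, z ∉ B := fun z hz hzB => hodB (by
    have h' := Subgroup.orderOf_dvd_natCard B hzB
    rwa [orderOf_eq_prime (p := 2) (by rw [pow_two, hz.2.1]) hz.1] at h')
  set C : Fin 3 → Set PG := fun i => {y | x ^ (i : ℕ) * y ∈ Z} with hCdef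
  have e : {y : PG | Group.IsSolvable (Subgroup.closure ({x, y} : Set PG))} =
      (B : Set PG) ∪ C 0 ∪ C 1 ∪ C 2 := by
    ext y
    simp only [Set.mem_ofPred_eq, Set.mem_union, SetLike.mem_coe]
    constructor
    · intro h
      have hxH := mem_closure_left x y
      have hyH := mem_closure_right x y
      rcases class_three hr hodd hF _ (ne_top_of_solvable hq h) with
        ⟨z, hz, hle⟩ | ⟨u, hu, hup, hle⟩ | ⟨⟨e⟩⟩
      · exfalso
        by_cases hxz : x ∈ tor z
        · exact semis_of_mem 3 hz hxz hx1 hx3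
        · have := (inverts_of_not_mem 3 hz (hle hxH) hxz).1
          rw [pow_three, this, mul_one] at hx3
          exact hx1 hx3
      · have hxu := borel_unip 3 hu hup (hle hxH) hx3
        refine Or.inl (Or.inl (Or.inl ?_))
        rw [hB, tor_eq hu hxu hx1]
        exact hle hyH
      · obtain ⟨f, hf, hsign⟩ := exists_perm_hom e
        set xs : Subgroup.closure ({x, y} : Set PG) := ⟨x, hxH⟩
        set ys : Subgroup.closure ({x, y} : Set PG) := ⟨y, hyH⟩
        have hfx : f xs ≠ 1 := fun h => hx1 (congrArg Subtype.val (hf (h.trans (map_one f).symm)))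
        have hfx3 : f xs ^ 3 = 1 := by
          rw [← map_pow, show xs ^ 3 = 1 from Subtype.ext hx3, map_one]
        rcases a4_facts.2 _ _ (hsign xs) (hsign ys) hfx3 hfx with hc | ⟨i, hne, hi2, hi3⟩
        · rw [← map_mul, ← map_mul] at hc
          have hc' : x * y = y * x := congrArg Subtype.val (hf hc)
          exact Or.inl (Or.inl (Or.inl (Subgroup.le_normalizer (centralizer_unip 3 hx1 hx3 hc'.symm))))
        · simp only [← map_pow, ← map_mul, ← map_one f, hf.eq_iff, hf.ne_iff] at hne hi2 hi3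
          have hz : x ^ (i : ℕ) * y ∈ Z := by
            refine ⟨fun h => hne (Subtype.ext h), ?_, congrArg Subtype.val hi3⟩
            rw [← pow_two]
            exact congrArg Subtype.val hi2
          fin_cases i
          · exact Or.inl (Or.inl (Or.inr hz))
          · exact Or.inl (Or.inr hz)
          · exact Or.inr hz
    · have key : ∀ i : Fin 3, y ∈ C i → Group.IsSolvable (Subgroup.closure ({x, y} : Set PG)) := by
        intro i hi
        obtain ⟨-, hz2, hz3⟩ := hi
        set z := x ^ (i : ℕ) * y with hz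
        have hzx : (z * x) ^ 3 = 1 := by
          rw [show z * x = z * (x * z) * z⁻¹ by group, conj_pow, hz3]
          group
        have hs := solvable_tetra hz2 hx3 hzx
        have hle : Subgroup.closure ({x, y} : Set PG) ≤ Subgroup.closure ({z, x} : Set PG) :=
          closure_pair_le (mem_closure_right _ _) (by
            have := mul_mem (inv_mem (pow_mem (mem_closure_right z x) (i : ℕ))) (mem_closure_left z x)
            rwa [hz, inv_mul_cancel_left] at this)
        exact solvable_of_solvable_injective (Subgroup.inclusion_injective hle)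
      rintro (((h | h) | h) | h)
      · exact solvable_borel 3 hx1 hx3 (closure_pair_le hxB h)
      · exact key 0 h
      · exact key 1 h
      · exact key 2 h
  have hCZ : ∀ i : Fin 3, (C i).ncard = Z.ncard := fun i => by
    rw [← Nat.card_coe_set_eq, ← Nat.card_coe_set_eq]
    exact Nat.card_congr (Equiv.subtypeEquiv (Equiv.mulLeft (x ^ (i : ℕ))) fun y => Iff.rfl)
  have hBC : ∀ i : Fin 3, Disjoint (B : Set PG) (C i) := fun i => Set.disjoint_left.2 fun y hy hyC =>
    hZB _ hyC (mul_mem (pow_mem hxB _) hy)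
  have hCC : ∀ i j : Fin 3, i < j → Disjoint (C i) (C j) := by
    intro i j hij
    refine Set.disjoint_left.2 fun y hi hj => ?_
    have key : ∀ k : ℕ, (k = 1 ∨ k = 2) → ∀ z : PG, z ∈ Z → x ^ k * z ∈ Z → False := by
      intro k hk z hz hz'
      refine hZB z hz ?_
      have hw : x ^ k ≠ 1 := by
        rcases hk with rfl | rfl
        · rwa [pow_one]
        · intro h
          rw [pow_succ, h, one_mul] at hx3
          exact hx1 hx3
      have hwT : x ^ k ∈ tor x := pow_mem (mem_tor x) k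
      have h1 := inv_eq_of_mul_eq_one_right hz'.2.1
      rw [_root_.mul_inv_rev, inv_eq_of_mul_eq_one_right hz.2.1] at h1
      -- z inverts x ^ k
      have h1' : z * (x ^ k)⁻¹ * z⁻¹ = x ^ k := by
        rw [h1, mul_inv_cancel_right]
      have h2' : z * x ^ k * z⁻¹ = (x ^ k)⁻¹ := by
        rw [← congrArg (·⁻¹) h1']
        group
      rw [hB, mem_normalizer_map_iff, ← tor_eq hx1 hwT hw, ← tor_conj, h2']
      exact tor_eq hw (inv_mem (mem_tor _)) (inv_ne_one.2 hw)
    refine key ((j : ℕ) - i) ?_ _ hi ?_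
    · have := j.isLt; have : (i : ℕ) < j := hij; omega
    · rw [← mul_assoc, ← pow_add, show (j : ℕ) - i + i = j from Nat.sub_add_cancel (le_of_lt hij)]
      exact hj
  have hZ : Z.ncard = Fintype.card F := by
    rw [← Nat.card_coe_set_eq, ← Nat.card_eq_fintype_card]
    have hdet : ∀ a : F, (!![a, -((1 + a * a) * t); t⁻¹, -a] : Matrix (Fin 2) (Fin 2) F).det = 1 := fun a => by
      rw [det_fin_two_of]
      field_simp
      ring
    obtain ⟨Zf, hZf⟩ : ∃ Zf : F → SG, ∀ a, ↥ₘ(Zf a) = !![a, -((1 + a * a) * t); t⁻¹, -a] :=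
      ⟨fun a => ⟨_, hdet a⟩, fun _ => rfl⟩
    refine (Nat.card_eq_of_bijective (fun a : F => (⟨proj (Zf a), ?_⟩ : Z)) ⟨?_, ?_⟩).symm
    · obtain ⟨k1, k2⟩ := (PKlein.involution_iff h2).2
        (PKlein.mem_T0_of_tr (g := Zf a) (by simp [tr, hZf]))
      refine ⟨k1, k2, ?_⟩
      rw [hx, ← map_mul]
      by_cases hgz : NonScalar (g * Zf a)
      · refine (pow_p_iff 3 hgz).2 ?_
        simp [tr, hg, hZf, rootHomSL_coe, Matrix.mul_apply, Fin.sum_univ_two]
        field_simp
        linear_combination -h3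
      · rw [proj_eq_one.2 (mem_center_iff.2 hgz), one_pow]
    · intro a b h
      rcases proj_eq_iff.1 (congrArg Subtype.val h) with e0 | e0
      · have := congrArg (fun M : SG => ↥ₘ M 0 0) e0
        simpa [hZf] using this.symm
      · have := congrArg (fun M : SG => ↥ₘ M 1 0) e0
        simp [hZf] at this
        exact absurd (by linear_combination this : (2 : F) * t⁻¹ = 0) (mul_ne_zero h2 (inv_ne_zero ht))
    · rintro ⟨z, hz1, hz2, hz3⟩
      obtain ⟨h, rfl⟩ := proj_surjective z
      have hh := (PKlein.involution_iff h2).1 ⟨hz1, hz2⟩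
      have htr := (PKlein.t0_props h2 hh).2.1
      rw [hx, ← map_mul] at hz3
      have hgh : NonScalar (g * h) := by
        by_contra hn
        have e1 : x * proj h = 1 := by rw [hx, ← map_mul, proj_eq_one]; exact mem_center_iff.2 hn
        have e2 := inv_eq_of_mul_eq_one_left e1
        rw [inv_eq_of_mul_eq_one_right hz2] at e2
        rw [← e2, pow_three, hz2, mul_one] at hx3
        exact hz1 hx3
      have h4 := (pow_p_iff 3 hgh).1 hz3
      simp only [tr] at htr
      simp [tr, hg, rootHomSL_coe, Matrix.mul_apply, Fin.sum_univ_two] at h4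
      have hdh := det_eq h
      obtain ⟨k, hk10, hk11, hkd, hpk⟩ : ∃ k : SG, ↥ₘ k 1 0 = t⁻¹ ∧ ↥ₘ k 1 1 = -↥ₘ k 0 0 ∧
          ↥ₘ k 0 0 * ↥ₘ k 1 1 - ↥ₘ k 0 1 * ↥ₘ k 1 0 = 1 ∧ proj k = proj h := by
        have hs : (t * ↥ₘ h 1 0) * (t * ↥ₘ h 1 0) = 1 := by
          linear_combination h4 + h3 -
            (↥ₘ h 0 0 + ↥ₘ h 1 1 + 2 * (t * ↥ₘ h 1 0)) * htr
        rcases mul_self_eq_one_iff.1 hs with e0 | e0
        · exact ⟨h, eq_inv_of_mul_eq_one_right e0, by linear_combination htr, hdh, rfl⟩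
        · refine ⟨-h, ?_, ?_, ?_, PKlein.proj_neg h⟩
          · refine eq_inv_of_mul_eq_one_right ?_
            simp
            linear_combination -e0
          · simp
            linear_combination -htr
          · simp
            linear_combination hdh
      refine ⟨↥ₘ k 0 0, Subtype.ext ?_⟩
      show proj _ = proj h
      rw [← hpk]
      congr 1
      refine Subtype.ext ?_
      rw [hk10, hk11] at hkd
      rw [hZf]
      ext i j
      fin_cases i <;> fin_cases j <;> simp [hk10, hk11]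
      field_simp at hkd
      linear_combination hkd
  change 2 * Nat.card ↥{y : PG | Group.IsSolvable (Subgroup.closure ({x, y} : Set PG))} = _
  rw [e, Nat.card_coe_set_eq,
    Set.ncard_union_eq (Set.disjoint_union_left.2 ⟨Set.disjoint_union_left.2 ⟨hBC 2, hCC 0 2 (by decide)⟩,
      hCC 1 2 (by decide)⟩),
    Set.ncard_union_eq (Set.disjoint_union_left.2 ⟨hBC 1, hCC 0 1 (by decide)⟩),
    Set.ncard_union_eq (hBC 0), hCZ, hCZ, hCZ, hZ, ← Nat.card_coe_set_eq, SetLike.coe_sort_coe]
  rw [Nat.sub_mul, one_mul] at hcB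
  rw [show Fintype.card F * (Fintype.card F + 5) = Fintype.card F * Fintype.card F + 5 * Fintype.card F by ring]
  have : Fintype.card F ≤ Fintype.card F * Fintype.card F := Nat.le_mul_self _
  omega

omit [CharP F 3] [Fact (Nat.Prime 3)] in
theorem sol_three (hr : r.Prime) (hodd : Odd r) (hF : Fintype.card F = 3 ^ r) (x : PG) :
    (orderOf x = 2 → Nat.card {y : PG // Group.IsSolvable (Subgroup.closure ({x, y} : Set PG))} =
      3 ^ r * (3 ^ r + 1)) ∧
    (orderOf x = 3 → 2 * Nat.card {y : PG // Group.IsSolvable (Subgroup.closure ({x, y} : Set PG))} =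
      3 ^ r * (3 ^ r + 5)) ∧
    (x ≠ 1 → orderOf x ≠ 2 → orderOf x ∣ 3 ^ r - 1 →
      Nat.card {y : PG // Group.IsSolvable (Subgroup.closure ({x, y} : Set PG))} = 3 ^ r * (3 ^ r - 1)) ∧
    (x ≠ 1 → orderOf x ≠ 2 → orderOf x ∣ 3 ^ r + 1 →
      Nat.card {y : PG // Group.IsSolvable (Subgroup.closure ({x, y} : Set PG))} = 3 ^ r + 1) := by
  classical
  haveI : Fact (Nat.Prime 3) := ⟨Nat.prime_three⟩
  haveI : CharP F 3 := charP_of_card_eq_prime_pow hF
  obtain ⟨hmod, -, h3q⟩ := three_arith hodd hF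
  have h2 := two_ne_three (F := F)
  have hq : 4 ≤ Fintype.card F := hF ▸ le_trans (by norm_num : 4 ≤ 3 ^ 2) (Nat.pow_le_pow_right (by norm_num) hr.two_le)
  have hd : Nat.gcd 2 (Fintype.card F - 1) = 2 := Nat.gcd_eq_left (by omega)
  have semis : ∀ k : ℕ, x ≠ 1 → orderOf x ∣ k → ¬ 3 ∣ k → x ^ 3 ≠ 1 := by
    intro k hx1 h h3k hx3
    rw [orderOf_eq_prime hx3 hx1] at h
    exact h3k h
  have hcl : x ≠ 1 → orderOf x ≠ 2 → x ^ 3 ≠ 1 → x * x ≠ 1 ∧ ∀ H : Subgroup PG, x ∈ H → H ≠ ⊤ →
      (∃ z : PG, z ^ 3 ≠ 1 ∧ H ≤ Subgroup.normalizer (tor z : Set PG)) ∨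
      (∃ u : PG, u ≠ 1 ∧ u ^ 3 = 1 ∧ H ≤ Subgroup.normalizer (tor u : Set PG)) := by
    intro hx1 h2x hx3
    have hxx : x * x ≠ 1 := fun h => h2x (orderOf_eq_prime (by rw [pow_two, h]) hx1)
    refine ⟨hxx, fun H hxH hH => ?_⟩
    rcases class_three hr hodd hF H hH with h | h | ⟨⟨e⟩⟩
    · exact Or.inl h
    · exact Or.inr h
    · exfalso
      obtain ⟨f, hf, hsign⟩ := exists_perm_hom e
      rcases a4_facts.1 _ (hsign ⟨x, hxH⟩) with h | h
      · rw [← map_pow, ← map_one f, hf.eq_iff] at h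
        exact hxx ((pow_two x).symm.trans (congrArg Subtype.val h))
      · rw [← map_pow, ← map_one f, hf.eq_iff] at h
        exact hx3 (congrArg Subtype.val h)
  refine ⟨fun h2x => ?_, fun h3x => ?_, fun hx1 h2x hdvd => ?_, fun hx1 h2x hdvd => ?_⟩
  · obtain ⟨c, hc⟩ := isConj_iff.1 (PKlein.involutions_conj h2 (proj (comp (0 : F))) x (by
      obtain ⟨k1, k2⟩ := (PKlein.involution_iff h2).2
        (PKlein.mem_T0_of_tr (tr_comp (0 : F)) : comp (0 : F) * comp 0 = -1)
      exact orderOf_eq_prime (by rw [pow_two, k2]) k1) h2x)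
    rw [← hc, card_sol_conj, sol_three_inv hr hodd hF]
  · have hx3 : x ^ 3 = 1 := orderOf_dvd_iff_pow_eq_one.1 h3x.dvd
    have hx1 : x ≠ 1 := fun h => by rw [h, orderOf_one] at h3x; omega
    obtain ⟨c, hc⟩ := exists_conj_rootP (F := F) 3 hx1 hx3
    have hm := mem_tor x
    rw [hc, mem_map_conj] at hm
    obtain ⟨t, ht⟩ := hm
    have ht0 : t.toAdd ≠ 0 := fun h => hx1 (by
      have e0 : t = 1 := by rw [← ofAdd_toAdd t, h]; rfl
      rw [e0, map_one] at ht
      calc x = c * (c⁻¹ * x * c) * c⁻¹ := by group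
        _ = 1 := by rw [← ht]; group)
    rw [show x = c * proj (rootHomSL (Multiplicative.ofAdd t.toAdd)) * c⁻¹ by
      rw [ofAdd_toAdd, show proj (rootHomSL t) = c⁻¹ * x * c from ht]; group, card_sol_conj,
      sol_three_unip hr hodd hF _ ht0]
  · have hx3 := semis _ hx1 hdvd (by rw [← hF]; omega)
    obtain ⟨hxx, hclass⟩ := hcl hx1 h2x hx3
    have ht : Nat.card (tor x) * Nat.gcd 2 (Fintype.card F - 1) = Fintype.card F - 1 := by
      refine (card_tor_semis 3 hx3).resolve_right fun e => ?_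
      have h1 : orderOf x ∣ Fintype.card F + 1 :=
        (Subgroup.orderOf_dvd_natCard (tor x) (mem_tor x)).trans (e ▸ dvd_mul_right _ _)
      rw [hF] at h1
      have h3' := Nat.dvd_sub h1 hdvd
      rw [show 3 ^ r + 1 - (3 ^ r - 1) = 2 by omega] at h3'
      exact hxx ((pow_two x).symm.trans (orderOf_dvd_iff_pow_eq_one.1 h3'))
    have h := (sol_semis 3 hq hx3 hxx hclass).1 ht
    rw [hd, mul_assoc, hF] at h
    exact Nat.eq_of_mul_eq_mul_left two_pos h
  · have hx3 := semis _ hx1 hdvd (by rw [← hF]; omega)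
    obtain ⟨hxx, hclass⟩ := hcl hx1 h2x hx3
    have ht : Nat.card (tor x) * Nat.gcd 2 (Fintype.card F - 1) = Fintype.card F + 1 := by
      refine (card_tor_semis 3 hx3).resolve_left fun e => ?_
      have h1 : orderOf x ∣ Fintype.card F - 1 :=
        (Subgroup.orderOf_dvd_natCard (tor x) (mem_tor x)).trans (e ▸ dvd_mul_right _ _)
      rw [hF] at h1
      have h3' := Nat.dvd_sub hdvd h1
      rw [show 3 ^ r + 1 - (3 ^ r - 1) = 2 by omega] at h3'
      exact hxx ((pow_two x).symm.trans (orderOf_dvd_iff_pow_eq_one.1 h3'))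
    have h := (sol_semis 3 hq hx3 hxx hclass).2 ht
    rw [hd, hF] at h
    exact Nat.eq_of_mul_eq_mul_left two_pos h

end Cfsg.Agent.Classical.Dickson2
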