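import Mathlib
import Cfsg.Agent.Classical.Dickson2.Exceptional
import Cfsg.Agent.Classical.PSLKlein
import Cfsg.Agent.Classical.Dickson2.Maximal
import Cfsg.Agent.Classical.Dickson2.Dihedral

/-!
In PSL(2,13) and SL(2,13) the normaliser of a subgroup that is not normal is maximal.
-/

set_option autoImplicit false

namespace Cfsg.Agent.Classical.Dickson2

open Matrix Cfsg.Agent.SL2Class
open scoped MatrixGroups

section Product

/-- A subgroup of a direct product of groups of coprime order splits. -/
theorem prod_normalizer_coatom {K S : Type*} [Group K] [CommGroup S] [Finite K] [Finite S]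
    (h : ∀ H : Subgroup K, ¬ H.Normal → IsCoatom (Subgroup.normalizer (H : Set K)))
    (hKS : (Nat.card K).Coprime (Nat.card S)) (H : Subgroup (K × S)) (hH : ¬ H.Normal) :
    IsCoatom (Subgroup.normalizer (H : Set (K × S))) := by
  set H1 := H.map (MonoidHom.fst K S) with hH1
  set H2 := H.map (MonoidHom.snd K S) with hH2
  have left : ∀ z ∈ H, ((z.1, 1) : K × S) ∈ H := by
    intro z hz
    obtain ⟨k, hk1, hk0⟩ := Nat.chineseRemainder hKS 1 0
    have e : z ^ k = (z.1, 1) := by
      refine Prod.ext ?_ ?_
      · rw [Prod.pow_fst]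
        nth_rw 2 [← pow_one z.1]
        exact pow_eq_pow_iff_modEq.2 (hk1.of_dvd (orderOf_dvd_natCard _))
      · rw [Prod.pow_snd]
        refine (pow_eq_pow_iff_modEq.2 (hk0.of_dvd (orderOf_dvd_natCard _))).trans (pow_zero _)
    exact e ▸ pow_mem hz k
  have hsplit : H = H1.prod H2 := by
    refine le_antisymm (fun z hz => ⟨⟨z, hz, rfl⟩, ⟨z, hz, rfl⟩⟩) ?_
    rintro ⟨a, b⟩ ⟨⟨z, hz, rfl⟩, w, hw, rfl⟩
    have h1 := left z hz
    have h2 : ((1, w.2) : K × S) ∈ H := by
      have := mul_mem (inv_mem (left w hw)) hw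
      have e : ((1 : K), w.2) = ((w.1, (1 : S)))⁻¹ * w := by simp [Prod.ext_iff]
      rw [e]
      exact this
    simpa [Prod.mk_mul_mk] using mul_mem h1 h2
  have hN : Subgroup.normalizer (H : Set (K × S)) =
      (Subgroup.normalizer (H1 : Set K)).comap (MonoidHom.fst K S) := by
    ext g
    rw [Subgroup.mem_comap, Subgroup.mem_normalizer_iff, Subgroup.mem_normalizer_iff, hsplit]
    constructor
    · intro hg a
      have := hg (a, 1)
      simpa [Subgroup.mem_prod, one_mem] using this
    · intro hg z
      have := hg z.1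
      simp only [MonoidHom.coe_fst] at this
      simp [Subgroup.mem_prod, ← this, mul_comm g.2]
  rw [hN]
  refine Subgroup.isCoatom_comap_of_surjective Prod.fst_surjective (h H1 fun hn => hH ?_)
  rw [hsplit]
  haveI := hn
  infer_instance

theorem normalizer_coatom_equiv {K L : Type*} [Group K] [Group L] (e : K ≃* L)
    (h : ∀ H : Subgroup L, ¬ H.Normal → IsCoatom (Subgroup.normalizer (H : Set L)))
    (H : Subgroup K) (hH : ¬ H.Normal) : IsCoatom (Subgroup.normalizer (H : Set K)) := by
  have h' := h (H.map e.toMonoidHom) fun hn => hH (by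
    haveI := hn
    have := Subgroup.Normal.comap hn e.toMonoidHom
    rwa [Subgroup.comap_map_eq_self_of_injective e.injective] at this)
  rw [← Subgroup.map_normalizer_eq_of_bijective H e.bijective] at h'
  exact (OrderIso.isCoatom_iff e.mapSubgroup _).1 h'

end Product

variable {F : Type*} [Field F] [Fintype F]

local notation "SG" => Matrix.SpecialLinearGroup (Fin 2) F
local notation "PG" => Matrix.ProjectiveSpecialLinearGroup (Fin 2) F
local notation:1024 "↥ₘ" A:1024 => ((A : Matrix.SpecialLinearGroup (Fin 2) F) : Matrix (Fin 2) (Fin 2) F)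

/-- The normaliser of a subgroup of a torus contains the normaliser of the torus. -/
theorem normalizer_tor_le (p : ℕ) [Fact p.Prime] [CharP F p] {x : PG} (hx : x ^ p ≠ 1) {H : Subgroup PG}
    (hH : H ≤ tor x) :
    Subgroup.normalizer (tor x : Set PG) ≤ Subgroup.normalizer (H : Set PG) := fun y hy =>
  Subgroup.mem_normalizer_fintype fun h hh => by
    by_cases hyT : y ∈ tor x
    · rwa [tor_comm (ne_one_of_semis p hx) hyT (hH hh), mul_inv_cancel_right]
    · rw [(inverts_of_not_mem p hx hy hyT).2 h (hH hh)]
      exact inv_mem hh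

theorem normalizer_of_coatom_le {H M : Subgroup PG} (hne : Subgroup.normalizer (H : Set PG) ≠ ⊤) (hM : IsCoatom M)
    (hle : M ≤ Subgroup.normalizer (H : Set PG)) : IsCoatom (Subgroup.normalizer (H : Set PG)) :=
  eq_of_coatom hM hle hne ▸ hM

theorem psl_thirteen (hF : Fintype.card F = 13) (H : Subgroup PG) (hH : ¬ H.Normal) :
    IsCoatom (Subgroup.normalizer (H : Set PG)) := by
  classical
  haveI : Fact (Nat.Prime 13) := ⟨by norm_num⟩
  haveI : CharP F 13 := charP_of_card_eq_prime hF
  have hne : Subgroup.normalizer (H : Set PG) ≠ ⊤ := fun e => hH (Subgroup.normalizer_eq_top_iff.1 e)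
  have h2 : (2 : F) ≠ 0 := PKlein.two_ne (F := F) (by rw [hF]; decide)
  have hd : Nat.gcd 2 (Fintype.card F - 1) = 2 := by rw [hF]; rfl
  have hG : Nat.card PG = 1092 := by
    have := card_pg (F := F)
    rw [hd, hF] at this
    omega
  have hT : ∀ x : PG, x ^ 13 ≠ 1 → Nat.card (tor x) = 6 ∨ Nat.card (tor x) = 7 := by
    intro x hx
    have := card_tor_semis 13 hx
    rw [hd, hF] at this
    omega
  have hB : ∀ u : PG, u ≠ 1 → u ^ 13 = 1 → Nat.card (Subgroup.normalizer (tor u : Set PG)) = 78 := by
    intro u h1 h2'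
    have := card_normalizer_unip 13 h1 h2'
    rw [hd, hF] at this
    omega
  have htorC : ∀ x : PG, x ^ 13 ≠ 1 → IsCoatom (Subgroup.normalizer (tor x : Set PG)) := fun x hx =>
    isCoatom_toral 13 (by omega) (by omega) hx (Or.inl (by rcases hT x hx with e | e <;> omega))
  have hklein : ∀ V : Subgroup PG, IsKleinFour V → IsCoatom (Subgroup.normalizer (V : Set PG)) := by
    intro V hV
    haveI := hV
    have h12 := PKlein.normalizer_twelve h2 hF (Or.inr (by norm_num)) V
    refine coatom_of (fun e => ?_) (fun M hle htop => ?_)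
    · rw [e, Subgroup.card_top, hG] at h12
      omega
    · have hd12 := Subgroup.card_dvd_of_le hle
      rw [h12] at hd12 ⊢
      have hdG := M.card_subgroup_dvd_card
      rw [hG] at hdG
      rcases classify 13 M with ⟨x, hx, hM⟩ | ⟨x, hx1, hx, hM⟩ | ⟨⟨e⟩⟩ | ⟨⟨e⟩⟩ | ⟨⟨e⟩⟩ | h
      · have hc := Nat.le_of_dvd Nat.card_pos (Subgroup.card_dvd_of_le hM)
        rw [card_normalizer_semis 13 hx] at hc
        rcases hT x hx with e | e <;> omega
      · have hc := hd12.trans (Subgroup.card_dvd_of_le hM)
        rw [hB x hx1 hx] at hc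
        omega
      · rw [Nat.card_congr e.toEquiv, card_a4]
      · rw [Nat.card_congr e.toEquiv, card_s4] at hdG; omega
      · rw [Nat.card_congr e.toEquiv, card_a5] at hdG; omega
      · exact (sub_prime 13 (by norm_num) hF h htop).elim
  have hinTor : ∀ x : PG, x ^ 13 ≠ 1 → H ≤ tor x → IsCoatom (Subgroup.normalizer (H : Set PG)) :=
    fun x hx hle => normalizer_of_coatom_le hne (htorC x hx) (normalizer_tor_le 13 hx hle)
  have htop : H ≠ ⊤ := fun e => hH (e ▸ inferInstance)
  rcases classify 13 H with ⟨x, hx, hle⟩ | ⟨u, hu, hup, hle⟩ | ⟨⟨e⟩⟩ | ⟨⟨e⟩⟩ | ⟨⟨e⟩⟩ | h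
  · by_cases hHT : H ≤ tor x
    · exact hinTor x hx hHT
    obtain ⟨w, hwH, hwT⟩ := SetLike.not_le_iff_exists.1 hHT
    have hw2 := (inverts_of_not_mem 13 hx (hle hwH) hwT).1
    have hcross : ∀ y ∈ Subgroup.normalizer (tor x : Set PG), y ∉ tor x → w * y ∈ tor x := by
      intro y hy hyT
      obtain ⟨w0, -, hw0, -, -, hc⟩ := normalizer_semis 13 hx
      have := mul_mem (inv_mem ((hc w (hle hwH)).resolve_left hwT)) ((hc y hy).resolve_left hyT)
      rwa [_root_.mul_inv_rev, inv_eq_of_mul_eq_one_right hw2, inv_eq_of_mul_eq_one_right hw0, mul_assoc,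
        ← mul_assoc w0, hw0, one_mul] at this
    set K0 : Subgroup PG := H ⊓ tor x
    have hkd : Nat.card K0 ∣ Nat.card (tor x) := Subgroup.card_dvd_of_le inf_le_right
    by_cases hk : 3 ≤ Nat.card K0
    · have hsq : ∀ t ∈ tor x, t * t ∈ H := by
        intro t ht
        haveI : IsMulCommutative (tor x) :=
          ⟨⟨fun a b => Subtype.ext (tor_comm (ne_one_of_semis 13 hx) a.2 b.2)⟩⟩
        have hidx : (K0.subgroupOf (tor x)).index ∣ 2 := by
          have h1 := (K0.subgroupOf (tor x)).index_mul_card
          rw [Nat.card_congr (Subgroup.subgroupOfEquivOfLe (inf_le_right : K0 ≤ tor x)).toEquiv] at h1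
          generalize (K0.subgroupOf (tor x)).index = i at h1 ⊢
          rcases hT x hx with e | e <;> rw [e] at h1 hkd
          · have := Nat.le_of_dvd (by norm_num) hkd
            rcases (show i = 1 ∨ i = 2 by interval_cases h : Nat.card K0 <;> omega) with rfl | rfl <;> norm_num
          · have := (Nat.dvd_prime (by norm_num : Nat.Prime 7)).1 hkd
            rcases this with e' | e' <;> rw [e'] at h1 hk
            · omega
            · rw [show i = 1 by omega]; norm_num
        obtain ⟨j, hj⟩ := hidx
        clear hkd hk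
        have hm := Subgroup.pow_index_mem (K0.subgroupOf (tor x)) (⟨t, ht⟩ : tor x)
        have hm' := pow_mem hm j
        rw [← pow_mul, ← hj, Subgroup.mem_subgroupOf, pow_two] at hm'
        exact hm'.1
      refine normalizer_of_coatom_le hne (htorC x hx) ?_
      have hTN : tor x ≤ Subgroup.normalizer (H : Set PG) := fun t ht =>
        Subgroup.mem_normalizer_fintype fun h hh => by
          by_cases hhT : h ∈ tor x
          · rwa [tor_comm (ne_one_of_semis 13 hx) ht hhT, mul_inv_cancel_right]
          · obtain ⟨hh2, hinv⟩ := inverts_of_not_mem 13 hx (hle hh) hhT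
            have e : t * h * t⁻¹ = t * t * h := by
              rw [← hinv t ht, inv_eq_of_mul_eq_one_right hh2]
              calc t * h * (h * t * h) = t * (h * h) * t * h := by group
                _ = _ := by rw [hh2, mul_one]
            rw [e]
            exact mul_mem (hsq t ht) hh
      intro y hy
      by_cases hyT : y ∈ tor x
      · exact hTN hyT
      · have e : y = w * (w * y) := by rw [← mul_assoc, hw2, one_mul]
        rw [e]
        exact mul_mem (Subgroup.le_normalizer hwH) (hTN (hcross y hy hyT))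
    by_cases hk1 : K0 = ⊥
    · have hw1 : w ≠ 1 := fun e => hwT (e ▸ one_mem _)
      have hwp : w ^ 13 ≠ 1 := fun h => hw1 (by
        rwa [show 13 = 2 * 6 + 1 from rfl, pow_succ, pow_mul, pow_two, hw2, one_pow, one_mul] at h)
      refine hinTor w hwp fun h hh => ?_
      by_cases hhT : h ∈ tor x
      · have : h ∈ K0 := ⟨hh, hhT⟩
        rw [hk1, Subgroup.mem_bot] at this
        exact this ▸ one_mem _
      · have : w * h ∈ K0 := ⟨mul_mem hwH hh, hcross h (hle hh) hhT⟩
        rw [hk1, Subgroup.mem_bot] at this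
        rw [← inv_eq_of_mul_eq_one_right this, inv_eq_of_mul_eq_one_right hw2]
        exact mem_tor w
    · have hK2 : Nat.card K0 = 2 := by
        have := (Subgroup.one_lt_card_iff_ne_bot K0).2 hk1
        omega
      have hexp : ∀ h ∈ H, h * h = 1 := by
        intro h hh
        by_cases hhT : h ∈ tor x
        · have := orderOf_dvd_natCard (⟨h, hh, hhT⟩ : K0)
          rw [hK2, orderOf_dvd_iff_pow_eq_one, pow_two] at this
          exact congrArg Subtype.val this
        · exact (inverts_of_not_mem 13 hx (hle hh) hhT).1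
      have hpg : IsPGroup 2 H := fun g => ⟨1, Subtype.ext (by
        rw [pow_one, Subgroup.coe_pow, pow_two, hexp g g.2, Subgroup.coe_one])⟩
      obtain ⟨m, hm⟩ := IsPGroup.iff_card.1 hpg
      have hdG := H.card_subgroup_dvd_card
      rw [hG, hm] at hdG
      have h2le : 2 < Nat.card H := by
        have hlt : K0 < H := lt_of_le_of_ne inf_le_left fun e => hHT (fun h hh => (e.ge hh : h ∈ K0).2)
        have := Subgroup.card_le_of_le hlt.le
        rcases eq_or_lt_of_le this with e | e
        · exact absurd (Subgroup.eq_of_le_of_card_ge hlt.le e.ge) hlt.ne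
        · omega
      rw [hm] at h2le
      have hm2 : m = 2 := by
        have h8 : m ≤ 2 := by
          by_contra hlt
          have : 8 ∣ 1092 := (pow_dvd_pow 2 (show 3 ≤ m by omega)).trans hdG
          omega
        interval_cases m <;> omega
      subst hm2
      haveI : IsKleinFour H := by
        have h4 : Nat.card H = 4 := hm
        have : Nontrivial H := (Finite.one_lt_card_iff_nontrivial).1 (by omega)
        exact ⟨h4, (Monoid.exponent_eq_prime_iff Nat.prime_two).2 fun g hg => orderOf_eq_prime (Subtype.ext (by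
          rw [Subgroup.coe_pow, pow_two, hexp g g.2, Subgroup.coe_one])) hg⟩
      exact hklein H inferInstance
  · by_cases hU : H ⊓ tor u = ⊥
    · have hcomm : ∀ a ∈ H, ∀ b ∈ H, a * b = b * a := by
        intro a ha b hb
        have : a * b * a⁻¹ * b⁻¹ ∈ (H ⊓ tor u : Subgroup PG) :=
          Subgroup.mem_inf.2 ⟨H.mul_mem (H.mul_mem (H.mul_mem ha hb) (H.inv_mem ha)) (H.inv_mem hb),
            borel_comm 13 hu hup (hle ha) (hle hb)⟩
        rw [hU, Subgroup.mem_bot] at this
        exact commutatorElement_eq_one_iff_mul_comm.1 this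
      have hsemis : ∀ y ∈ H, y ≠ 1 → y ^ 13 ≠ 1 := fun y hy hy1 hp => hy1 (by
        have : y ∈ (H ⊓ tor u : Subgroup PG) := ⟨hy, borel_unip 13 hu hup (hle hy) hp⟩
        rwa [hU, Subgroup.mem_bot] at this)
      by_cases hbig : ∃ y ∈ H, y * y ≠ 1
      · obtain ⟨y, hy, hy2⟩ := hbig
        have hy1 : y ≠ 1 := fun e => hy2 (by rw [e, one_mul])
        refine hinTor y (hsemis y hy hy1) fun h hh => ?_
        have hN : h ∈ Subgroup.normalizer (tor y : Set PG) := by
          rw [mem_normalizer_map_iff, ← tor_conj, hcomm h hh y hy, mul_inv_cancel_right]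
        by_contra hhT
        have e := (inverts_of_not_mem 13 (hsemis y hy hy1) hN hhT).2 y (mem_tor y)
        rw [hcomm h hh y hy, mul_inv_cancel_right] at e
        exact hy2 (mul_eq_one_iff_eq_inv.2 e)
      push Not at hbig
      obtain ⟨⟨y, hy⟩, hy1'⟩ := H.ne_bot_iff_exists_ne_one.1 (fun e => hH (e ▸ inferInstance))
      have hy1 : y ≠ 1 := fun e => hy1' (Subtype.ext e)
      refine hinTor y (hsemis y hy hy1) fun h hh => ?_
      by_cases hh1 : h = 1
      · exact hh1 ▸ one_mem _
      have hnot : ∀ z ∈ H, z ≠ 1 → z ∉ tor u := fun z hz hz1 hm => hz1 (by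
        have : z ∈ (H ⊓ tor u : Subgroup PG) := ⟨hz, hm⟩
        rwa [hU, Subgroup.mem_bot] at this)
      have : h * y ∈ (H ⊓ tor u : Subgroup PG) := ⟨mul_mem hh hy,
        borel_invol 13 hu hup (hle hh) (hle hy) (hbig h hh) (hbig y hy) (hnot h hh hh1) (hnot y hy hy1)⟩
      rw [hU, Subgroup.mem_bot] at this
      rw [mul_eq_one_iff_eq_inv.1 this, inv_eq_of_mul_eq_one_right (hbig y hy)]
      exact mem_tor y
    · have hcu := card_tor_unip (F := F) 13 hu hup
      rw [hF] at hcu
      have hUle : tor u ≤ H := by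
        have hd13 := Subgroup.card_dvd_of_le (inf_le_right : H ⊓ tor u ≤ tor u)
        rw [hcu] at hd13
        rcases (Nat.dvd_prime (by norm_num : Nat.Prime 13)).1 hd13 with e | e
        · exact absurd (Subgroup.card_eq_one.1 e) hU
        · have := Subgroup.eq_of_le_of_card_ge (inf_le_right : H ⊓ tor u ≤ tor u) (by rw [e, hcu])
          exact this.ge.trans inf_le_left
      refine normalizer_of_coatom_le hne (M := Subgroup.normalizer (tor u : Set PG)) (coatom_of ?_ ?_) ?_
      · intro e
        have := hB u hu hup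
        rw [e, Subgroup.card_top, hG] at this
        omega
      · intro M hle' htop'
        have hd78 := Subgroup.card_dvd_of_le hle'
        rw [hB u hu hup] at hd78 ⊢
        rcases classify 13 M with ⟨x, hx, hM⟩ | ⟨x, hx1, hx, hM⟩ | ⟨⟨e⟩⟩ | ⟨⟨e⟩⟩ | ⟨⟨e⟩⟩ | h
        · have hc := hd78.trans (Subgroup.card_dvd_of_le hM)
          rw [card_normalizer_semis 13 hx] at hc
          rcases hT x hx with e | e <;> rw [e] at hc <;> omega
        · exact (Subgroup.card_le_of_le hM).trans (hB x hx1 hx).le
        · rw [Nat.card_congr e.toEquiv, card_a4] at hd78; omega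
        · rw [Nat.card_congr e.toEquiv, card_s4] at hd78; omega
        · rw [Nat.card_congr e.toEquiv, card_a5] at hd78; omega
        · exact (sub_prime 13 (by norm_num) hF h htop').elim
      · exact fun b hb => Subgroup.mem_normalizer_fintype fun h hh => by
          have e : b * h * b⁻¹ = b * h * b⁻¹ * h⁻¹ * h := by group
          rw [e]
          exact mul_mem (hUle (borel_comm 13 hu hup hb (hle hh))) hh
  · obtain ⟨V, hV, -, hle⟩ := klein_of_a4 e
    haveI := hV
    have h12 := PKlein.normalizer_twelve h2 hF (Or.inr (by norm_num)) V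
    have : H = Subgroup.normalizer (V : Set PG) :=
      Subgroup.eq_of_le_of_card_ge hle (by rw [h12, Nat.card_congr e.toEquiv, card_a4])
    refine normalizer_of_coatom_le hne (hklein V hV) ?_
    rw [← this]
    exact Subgroup.le_normalizer
  · have := H.card_subgroup_dvd_card
    rw [Nat.card_congr e.toEquiv, card_s4, hG] at this
    omega
  · have := H.card_subgroup_dvd_card
    rw [Nat.card_congr e.toEquiv, card_a5, hG] at this
    omega
  · exact (sub_prime 13 (by norm_num) hF h htop).elim

theorem sl_thirteen (hF : Fintype.card F = 13) (H : Subgroup SG) (hH : ¬ H.Normal) :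
    IsCoatom (Subgroup.normalizer (H : Set SG)) := by
  classical
  have h2 : (2 : F) ≠ 0 := PKlein.two_ne (F := F) (by rw [hF]; decide)
  set Hb := H.map proj
  have hcm : Subgroup.normalizer (H : Set SG) = (Subgroup.normalizer (Hb : Set PG)).comap proj := by
    refine le_antisymm ?_ ?_
    · rw [← Subgroup.map_le_iff_le_comap]
      exact Subgroup.le_normalizer_map _
    · intro g hg
      refine Subgroup.mem_normalizer_fintype fun h hh => ?_
      obtain ⟨h', hh', e⟩ := (Subgroup.mem_normalizer_iff.1 hg (proj h)).1 ⟨h, hh, rfl⟩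
      rw [← map_inv, ← map_mul, ← map_mul, proj_eq_iff] at e
      rcases e with e | e
      · exact e ▸ hh'
      by_cases hneg : (-1 : SG) ∈ H
      · rw [e, neg_eq_mul]
        exact mul_mem hneg hh'
      exfalso
      have hodd : ¬ 2 ∣ Nat.card H := by
        intro hd
        haveI : Fact (Nat.Prime 2) := ⟨Nat.prime_two⟩
        obtain ⟨z, hz⟩ := exists_prime_orderOf_dvd_card' 2 hd
        have hzz : (z : SG) * z = 1 := by
          have h := congrArg Subtype.val (pow_orderOf_eq_one z)
          rwa [hz, pow_two] at h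
        rcases sq_eq_one_cases h2 hzz with e0 | e0
        · rw [Subtype.ext (e0.trans H.coe_one.symm) (a1 := z), orderOf_one] at hz
          omega
        · exact hneg (e0 ▸ z.2)
      have hk1 : h ^ Nat.card H = 1 := congrArg Subtype.val (pow_card_eq_one' (x := (⟨h, hh⟩ : H)))
      have hk2 : h' ^ Nat.card H = 1 := congrArg Subtype.val (pow_card_eq_one' (x := (⟨h', hh'⟩ : H)))
      have := congrArg (fun z : SG => z ^ Nat.card H) e
      simp only [conj_pow, hk1, mul_one, mul_inv_cancel] at this
      rw [neg_eq_mul, (show Commute (-1 : SG) h' from (Subgroup.mem_center_iff.1 neg_one_mem_center h').symm).mul_pow,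
        hk2, mul_one] at this
      obtain ⟨j, hj⟩ := Nat.not_even_iff_odd.1 (fun he => hodd he.two_dvd)
      rw [hj, pow_succ, pow_mul, pow_two, neg_mul_self_eq, one_pow, one_mul] at this
      exact neg_one_ne_one h2 this.symm
  rw [hcm]
  refine Subgroup.isCoatom_comap_of_surjective proj_surjective (psl_thirteen hF Hb fun hn => hH ?_)
  rw [← Subgroup.normalizer_eq_top_iff, hcm, Subgroup.normalizer_eq_top_iff.2 hn, Subgroup.comap_top]

end Cfsg.Agent.Classical.Dickson2
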